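import Mathlib.GroupTheory.SpecificGroups.Quaternion
import Mathlib.GroupTheory.SpecificGroups.Cyclic
import Mathlib.GroupTheory.Transfer
import Mathlib.GroupTheory.Abelianization.Defs
import Mathlib.Tactic.Ring
import Mathlib.Tactic.LinearCombination
import Mathlib.Tactic.Linarith

/-!
# Generalised quaternion Sylow 2-subgroups: the derived subgroup and its normaliser
-/

set_option autoImplicit false

namespace CfsgLib.CharactersDeep.QuaternionSylow

open QuaternionGroup
open scoped commutatorElement

variable {m : ℕ}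

theorem a_pow (i : ZMod (2 * m)) (k : ℕ) : (a i : QuaternionGroup m) ^ k = a ((k : ZMod (2 * m)) * i) := by
  induction k with
  | zero => simp
  | succ k ih => rw [pow_succ, ih, a_mul_a]; push_cast; rw [add_mul, one_mul]

theorem mem_zpowers_a_two [NeZero m] (j : ZMod (2 * m)) :
    (a (2 * j) : QuaternionGroup m) ∈ Subgroup.zpowers (a 2) :=
  Subgroup.mem_zpowers_iff.mpr ⟨(j.val : ℤ), by
    rw [zpow_natCast, a_pow, ZMod.natCast_zmod_val, mul_comm]⟩

theorem commutator_eq [NeZero m] :
    commutator (QuaternionGroup m) = Subgroup.zpowers (a 2 : QuaternionGroup m) := by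
  apply le_antisymm
  · rw [commutator_def, Subgroup.commutator_le]
    intro p _ q _
    have key : ∀ j : ZMod (2 * m), ⁅p, q⁆ = a (2 * j) → ⁅p, q⁆ ∈ Subgroup.zpowers (a 2) :=
      fun j h => h ▸ mem_zpowers_a_two j
    have hinv : ∀ i : ZMod (2 * m), (a i : QuaternionGroup m)⁻¹ = a (-i) := fun _ => rfl
    have hinv' : ∀ i : ZMod (2 * m), (xa i : QuaternionGroup m)⁻¹ = xa ((m : ZMod (2 * m)) + i) :=
      fun _ => rfl
    have hm : (m : ZMod (2 * m)) + m = 0 := by
      rw [← Nat.cast_add, ← two_mul, ZMod.natCast_self]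
    cases p with
    | a i => cases q with
      | a j => exact key 0 (by simp [commutatorElement_def, hinv, a_mul_a])
      | xa j =>
        refine key i ?_
        simp only [commutatorElement_def, hinv, hinv', a_mul_xa, xa_mul_a, xa_mul_xa]
        congr 1
        linear_combination hm
    | xa i => cases q with
      | a j =>
        refine key (-j) ?_
        simp only [commutatorElement_def, hinv, hinv', a_mul_xa, a_mul_a, xa_mul_a, xa_mul_xa]
        congr 1
        linear_combination hm
      | xa j =>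
        refine key (j - i) ?_
        simp only [commutatorElement_def, hinv, hinv', a_mul_xa, a_mul_a, xa_mul_a, xa_mul_xa]
        congr 1
        linear_combination hm
  · rw [Subgroup.zpowers_le]
    have h : ⁅(a 1 : QuaternionGroup m), (xa 0 : QuaternionGroup m)⁆ = a 2 := by
      have hm : (m : ZMod (2 * m)) + m = 0 := by
        rw [← Nat.cast_add, ← two_mul, ZMod.natCast_self]
      simp only [commutatorElement_def, show (a 1 : QuaternionGroup m)⁻¹ = a (-1) from rfl,
        show (xa 0 : QuaternionGroup m)⁻¹ = xa ((m : ZMod (2 * m)) + 0) from rfl,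
        a_mul_xa, xa_mul_a, xa_mul_xa]
      congr 1
      linear_combination hm
    exact h ▸ Subgroup.commutator_mem_commutator (Subgroup.mem_top _) (Subgroup.mem_top _)

/-- A finite cyclic group has at most one subgroup of each order. -/
theorem eq_of_card_eq {W : Type*} [Group W] [Finite W] [IsCyclic W] {A B : Subgroup W}
    (h : Nat.card A = Nat.card B) : A = B := by
  classical
  haveI := Fintype.ofFinite W
  have hsub : ∀ C : Subgroup W, Finset.univ.filter (fun x => x ∈ C) ⊆
      Finset.univ.filter (fun x : W => x ^ Nat.card C = 1) := by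
    intro C x hx
    simp only [Finset.mem_filter, Finset.mem_univ, true_and] at hx ⊢
    exact orderOf_dvd_iff_pow_eq_one.mp (by
      rw [← Subgroup.orderOf_mk x hx]; exact orderOf_dvd_natCard _)
  have heq : ∀ C : Subgroup W, Finset.univ.filter (fun x => x ∈ C) =
      Finset.univ.filter (fun x : W => x ^ Nat.card C = 1) := by
    intro C
    refine Finset.eq_of_subset_of_card_le (hsub C) ((IsCyclic.card_pow_eq_one_le Nat.card_pos).trans ?_)
    rw [Nat.card_eq_fintype_card, Fintype.card_subtype]
  ext x
  have hA := Finset.ext_iff.mp (heq A) x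
  have hB := Finset.ext_iff.mp (heq B) x
  simp only [Finset.mem_filter, Finset.mem_univ, true_and, h] at hA hB
  exact hA.trans hB.symm

variable {G : Type*} [Group G] [Finite G]

/-- The structure data of a quaternion Sylow 2-subgroup used for the local analysis. -/
structure Data (S D : Subgroup G) (n : ℕ) : Prop where
  D_le : D ≤ S
  D_cyclic : IsCyclic D
  card_D : Nat.card D = 2 ^ (n + 2)
  le_normalizer : S ≤ Subgroup.normalizer (D : Set G)
  inf_cyclic : IsCyclic ↥(S ⊓ Subgroup.centralizer (D : Set G))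
  inf_index : (S ⊓ Subgroup.centralizer (D : Set G)).relIndex S = 2

theorem data (S : Subgroup G) (n : ℕ) (e : S ≃* QuaternionGroup (2 ^ (n + 2))) :
    Data S ⁅S, S⁆ n := by
  set m := 2 ^ (n + 2) with hm
  haveI : NeZero m := ⟨by positivity⟩
  set D := ⁅S, S⁆ with hD
  have hDmap : D = (commutator S).map S.subtype := by
    rw [hD, Subgroup.map_subtype_commutator]
  have hcomm : commutator S = Subgroup.zpowers (e.symm (a 2)) := by
    rw [show e.symm (a 2) = e.symm.toMonoidHom (a 2) from rfl, ← MonoidHom.map_zpowers, ← commutator_eq]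
    simp only [commutator_def, Subgroup.map_commutator,
      Subgroup.map_top_of_surjective e.symm.toMonoidHom e.symm.surjective]
  have hDz : D = Subgroup.zpowers ((e.symm (a 2) : S) : G) := by
    rw [hDmap, hcomm, MonoidHom.map_zpowers]; rfl
  have hord : orderOf (a 2 : QuaternionGroup m) = m := by
    have h : (a 2 : QuaternionGroup m) = a 1 ^ 2 := by rw [a_one_pow]; rfl
    rw [h, orderOf_pow, orderOf_a_one, Nat.gcd_eq_right (Dvd.intro m rfl),
      Nat.mul_div_cancel_left m (by norm_num)]
  have hle : D ≤ S := by rw [hDz, Subgroup.zpowers_le]; exact (e.symm (a 2)).2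
  -- membership in the centraliser
  have hmem : ∀ x : S, ((x : G) ∈ Subgroup.centralizer (D : Set G)) ↔
      e x ∈ Subgroup.zpowers (a 1 : QuaternionGroup m) := by
    intro x
    rw [hDz, Subgroup.zpowers_eq_closure, Subgroup.centralizer_closure,
      Subgroup.mem_centralizer_singleton_iff]
    rw [← Subgroup.coe_mul, ← Subgroup.coe_mul, Subtype.coe_inj, ← e.apply_eq_iff_eq, map_mul,
      map_mul, e.apply_symm_apply]
    cases h : e x with
    | a i =>
      simp only [a_mul_a, add_comm (2 : ZMod (2 * m)) i, true_iff]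
      exact Subgroup.mem_zpowers_iff.mpr ⟨(i.val : ℤ), by
        rw [zpow_natCast, a_one_pow, ZMod.natCast_zmod_val]⟩
    | xa i =>
      simp only [xa_mul_a, a_mul_xa]
      constructor
      · intro h4
        have h4' := QuaternionGroup.xa.inj h4
        have h0 : ((4 : ℕ) : ZMod (2 * m)) = 0 := by push_cast; linear_combination h4'
        rw [ZMod.natCast_eq_zero_iff] at h0
        have h4le : 4 ≤ m := by rw [hm, pow_add]; nlinarith [Nat.one_le_two_pow (n := n)]
        have := Nat.le_of_dvd (by norm_num) h0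
        omega
      · intro hz
        obtain ⟨k, hk⟩ := (Submonoid.mem_powers_iff _ _).mp
          ((isOfFinOrder_of_finite _).mem_powers_iff_mem_zpowers.mpr hz)
        simp [a_one_pow] at hk
  refine ⟨hle, ?_, ?_, ?_, ?_, ?_⟩
  · rw [hDz]; infer_instance
  · rw [hDz, Nat.card_zpowers, Subgroup.orderOf_coe, e.symm.orderOf_eq, hord]
  · rw [hDz]
    intro s hs
    haveI : (commutator S).Normal := inferInstance
    rw [← hDz, hDmap]
    refine Subgroup.mem_normalizer_iff.mpr fun d => ⟨?_, ?_⟩
    · rintro ⟨d', hd', rfl⟩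
      exact ⟨⟨s, hs⟩ * d' * ⟨s, hs⟩⁻¹, Subgroup.Normal.conj_mem this _ hd' _, rfl⟩
    · rintro ⟨d', hd', hd''⟩
      refine ⟨⟨s, hs⟩⁻¹ * d' * ⟨s, hs⟩, by simpa using Subgroup.Normal.conj_mem this _ hd' ⟨s, hs⟩⁻¹, ?_⟩
      simp only [map_mul, map_inv, hd'']
      simp [mul_assoc]
  · let f : Subgroup.zpowers (a 1 : QuaternionGroup m) →* ↥(S ⊓ Subgroup.centralizer (D : Set G)) :=
      ((S.subtype.comp (e.symm.toMonoidHom)).comp (Subgroup.subtype _)).codRestrict _ fun y =>
        Subgroup.mem_inf.mpr ⟨(e.symm (y : QuaternionGroup m)).2, (hmem _).mpr (by simp [y.2])⟩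
    refine isCyclic_of_surjective f fun x => ?_
    obtain ⟨hxS, hxC⟩ := Subgroup.mem_inf.mp x.2
    refine ⟨⟨e ⟨x, hxS⟩, (hmem ⟨x, hxS⟩).mp hxC⟩, Subtype.ext ?_⟩
    simp [f]
  · have h : (S ⊓ Subgroup.centralizer (D : Set G)).subgroupOf S =
        (Subgroup.zpowers (a 1 : QuaternionGroup m)).comap e.toMonoidHom := by
      ext x
      simp [Subgroup.mem_subgroupOf, hmem x]
    rw [Subgroup.relIndex, h, Subgroup.index_comap_of_surjective _ e.surjective]
    have hmul := Subgroup.card_mul_index (Subgroup.zpowers (a 1 : QuaternionGroup m))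
    rw [Nat.card_zpowers, orderOf_a_one, Nat.card_eq_fintype_card, QuaternionGroup.card] at hmul
    nlinarith [NeZero.pos m]

/-- The normaliser of `D` is generated by the normal 2-complement and the Sylow subgroup. -/
theorem index_centralizer (S : Sylow 2 G) {D : Subgroup G} {n : ℕ}
    (h : Data (S : Subgroup G) D n) :
    ((Subgroup.centralizer (D : Set G)).subgroupOf (Subgroup.normalizer (D : Set G))).index = 2 ∧
      Subgroup.centralizer (D : Set G) ⊔ (S : Subgroup G) = Subgroup.normalizer (D : Set G) := by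
  set C := Subgroup.centralizer (D : Set G) with hC
  set N := Subgroup.normalizer (D : Set G) with hN
  have hCN : C ≤ N := Subgroup.centralizer_le_normalizer _
  haveI hCn : (C.subgroupOf N).Normal :=
    Subgroup.normal_subgroupOf_centralizer_normalizer _
  haveI : IsCyclic D := h.D_cyclic
  have hdvd : (C.subgroupOf N).index ∣ Nat.card (MulAut D) := by
    rw [Subgroup.index_eq_card, hC, hN]
    refine (dvd_of_eq ?_).trans
      (Subgroup.card_dvd_of_injective _ (QuotientGroup.kerLift_injective D.normalizerMonoidHom))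
    rw [Subgroup.normalizerMonoidHom_ker]
  rw [IsCyclic.card_mulAut, h.card_D, Nat.totient_prime_pow Nat.prime_two (by omega)] at hdvd
  simp only [show n + 2 - 1 = n + 1 by omega, show 2 - 1 = 1 by rfl, mul_one] at hdvd
  let S' : Sylow 2 N := S.subtype h.le_normalizer
  have hcop : Nat.Coprime (C.subgroupOf N).index (S' : Subgroup N).index := by
    refine Nat.Coprime.coprime_dvd_left hdvd (Nat.Coprime.pow_left _ ?_)
    rw [Nat.Prime.coprime_iff_not_dvd Nat.prime_two]
    exact S'.not_dvd_index
  have htop : C.subgroupOf N ⊔ (S' : Subgroup N) = ⊤ := by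
    rw [← Subgroup.index_eq_one]
    exact Nat.eq_one_of_dvd_coprimes hcop (Subgroup.index_dvd_of_le le_sup_left)
      (Subgroup.index_dvd_of_le le_sup_right)
  have hidx : (C.subgroupOf N).index = C.relIndex (S : Subgroup G) := by
    rw [← Subgroup.relIndex_top_right, ← htop, Subgroup.relIndex_sup_left]
    simp only [S', Sylow.coe_subtype]
    exact Subgroup.relIndex_subgroupOf h.le_normalizer
  refine ⟨?_, ?_⟩
  · refine hidx.trans (Eq.trans ?_ h.inf_index)
    rw [inf_comm, Subgroup.inf_relIndex_right]
  · have h7 := congrArg (Subgroup.map N.subtype) htop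
    simp only [S', Sylow.coe_subtype] at h7
    rwa [Subgroup.map_sup, ← MonoidHom.range_eq_map, Subgroup.range_subtype,
      Subgroup.map_subgroupOf_eq_of_le hCN,
      Subgroup.map_subgroupOf_eq_of_le h.le_normalizer] at h7

/-- The centraliser of `D` has a normal 2-complement. -/
theorem exists_complement (S : Sylow 2 G) {D : Subgroup G} {n : ℕ} (h : Data (S : Subgroup G) D n) :
    ∃ K : Subgroup G, Odd (Nat.card K) ∧ K ≤ Subgroup.centralizer (D : Set G) ∧
      Subgroup.normalizer (D : Set G) ≤ Subgroup.normalizer (K : Set G) ∧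
      K ⊔ ((S : Subgroup G) ⊓ Subgroup.centralizer (D : Set G)) = Subgroup.centralizer (D : Set G) ∧
      ∃ P : Sylow 2 (Subgroup.centralizer (D : Set G)), IsCyclic P ∧
        (P : Subgroup (Subgroup.centralizer (D : Set G))) =
          ((S : Subgroup G) ⊓ Subgroup.centralizer (D : Set G)).subgroupOf _ := by
  set C := Subgroup.centralizer (D : Set G) with hC
  set N := Subgroup.normalizer (D : Set G) with hN
  have hCN : C ≤ N := Subgroup.centralizer_le_normalizer _
  haveI hCn : (C.subgroupOf N).Normal :=
    Subgroup.normal_subgroupOf_centralizer_normalizer _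
  set T := (S : Subgroup G) ⊓ C with hT
  -- `T` is a Sylow 2-subgroup of `C`
  let S' : Sylow 2 N := S.subtype h.le_normalizer
  have hTidx : ¬ 2 ∣ T.relIndex C := by
    have hCidx : C.relIndex N = 2 := (index_centralizer S h).1
    have hSidx : ¬ 2 ∣ (S : Subgroup G).relIndex N := S'.not_dvd_index
    have h1 := Subgroup.relIndex_mul_relIndex T C N inf_le_right hCN
    have h2 := Subgroup.relIndex_mul_relIndex T (S : Subgroup G) N inf_le_left h.le_normalizer
    rw [hCidx] at h1
    rw [h.inf_index] at h2
    have heq : T.relIndex C = (S : Subgroup G).relIndex N := by omega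
    rw [heq]; exact hSidx
  have hTp : IsPGroup 2 (T.subgroupOf C) :=
    (S.isPGroup'.to_le inf_le_left).of_equiv (Subgroup.subgroupOfEquivOfLe inf_le_right).symm
  let P : Sylow 2 C := hTp.toSylow hTidx
  have hPeq : (P : Subgroup C) = T.subgroupOf C := rfl
  have hPcyc : IsCyclic P := by
    haveI : IsCyclic T := h.inf_cyclic
    exact (Subgroup.subgroupOfEquivOfLe (inf_le_right : T ≤ C)).isCyclic.mpr inferInstance
  haveI : IsCyclic D := h.D_cyclic
  have hDC : D ≤ C := by
    have : IsMulCommutative D := IsCyclic.isMulCommutative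
    exact hC ▸ Subgroup.le_centralizer D
  have hmin : (Nat.card C).minFac = 2 := by
    have h2 : 2 ∣ Nat.card C :=
      (dvd_pow_self 2 (by omega : n + 2 ≠ 0)).trans (h.card_D ▸ Subgroup.card_dvd_of_le hDC)
    refine le_antisymm (Nat.minFac_le_of_dvd le_rfl h2) (Nat.minFac_prime ?_).two_le
    intro h1; omega
  set K₀ := (MonoidHom.transferSylow P (hPcyc.normalizer_le_centralizer hmin)).ker with hK₀
  have hcompl : K₀.IsComplement' P := hPcyc.isComplement' hmin
  have hodd : ¬ 2 ∣ Nat.card K₀ := MonoidHom.not_dvd_card_ker_transferSylow _ _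
  have hchar : ∀ x : C, x ∈ K₀ ↔ Odd (orderOf x) := by
    intro x
    constructor
    · intro hx
      rw [← Nat.not_even_iff_odd, even_iff_two_dvd]
      intro h2
      exact hodd (h2.trans (by rw [← Subgroup.orderOf_mk x hx]; exact orderOf_dvd_natCard _))
    · intro hx
      haveI : K₀.Normal := hK₀ ▸ inferInstance
      rw [← QuotientGroup.eq_one_iff, ← orderOf_eq_one_iff]
      obtain ⟨k, hk⟩ := P.isPGroup'.exists_card_eq
      have h1 : orderOf (x : C ⧸ K₀) ∣ 2 ^ k := by
        rw [← hk, ← hcompl.symm.index_eq_card, Subgroup.index_eq_card]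
        exact orderOf_dvd_natCard _
      obtain ⟨j, -, hj⟩ := (Nat.dvd_prime_pow Nat.prime_two).mp h1
      rcases Nat.eq_zero_or_pos j with rfl | hj0
      · simpa using hj
      · have h2 : 2 ∣ orderOf x :=
          (hj ▸ dvd_pow_self 2 hj0.ne' : 2 ∣ orderOf (x : C ⧸ K₀)).trans
            (orderOf_map_dvd (QuotientGroup.mk' K₀) x)
        exact absurd hx (by rw [← Nat.not_even_iff_odd, not_not, even_iff_two_dvd]; exact h2)
  have hcharG : ∀ x : G, x ∈ K₀.map C.subtype ↔ x ∈ C ∧ Odd (orderOf x) := by
    intro x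
    constructor
    · rintro ⟨y, hy, rfl⟩
      exact ⟨y.2, by simpa [Subgroup.orderOf_coe] using (hchar y).mp hy⟩
    · rintro ⟨hxC, hx⟩
      exact ⟨⟨x, hxC⟩, (hchar _).mpr (by rwa [Subgroup.orderOf_mk]), rfl⟩
  refine ⟨K₀.map C.subtype, ?_, Subgroup.map_subtype_le _, ?_, ?_, P, hPcyc, hPeq⟩
  · rw [Subgroup.card_subtype, ← Nat.not_even_iff_odd, even_iff_two_dvd]; exact hodd
  · intro g hg
    rw [Subgroup.mem_normalizer_iff]
    intro x
    have hiff : x ∈ C ↔ g * x * g⁻¹ ∈ C := by
      have h5 : g * x * g⁻¹ ∈ N → (g * x * g⁻¹ ∈ C ↔ x ∈ C) := by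
        intro hx'
        have hxN : x ∈ N := by
          simpa [mul_assoc] using N.mul_mem (N.mul_mem (N.inv_mem hg) hx') hg
        constructor
        · intro hh
          simpa [Subgroup.mem_subgroupOf, mul_assoc] using
            hCn.conj_mem (⟨_, hx'⟩ : N) (by simpa [Subgroup.mem_subgroupOf] using hh) (⟨g, hg⟩⁻¹)
        · intro hh
          simpa [Subgroup.mem_subgroupOf] using
            hCn.conj_mem (⟨x, hxN⟩ : N) (by simpa [Subgroup.mem_subgroupOf] using hh) ⟨g, hg⟩
      exact ⟨fun hh => (h5 (N.mul_mem (N.mul_mem hg (hCN hh)) (N.inv_mem hg))).mpr hh,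
        fun hh => (h5 (hCN hh)).mp hh⟩
    rw [hcharG, hcharG, ← hiff,
      show orderOf (g * x * g⁻¹) = orderOf x by simpa using (MulAut.conj g).orderOf_eq x]
  · apply le_antisymm (sup_le (Subgroup.map_subtype_le _) inf_le_right)
    have h6 := congrArg (Subgroup.map C.subtype) hcompl.sup_eq_top
    rw [Subgroup.map_sup, ← MonoidHom.range_eq_map, Subgroup.range_subtype, hPeq,
      Subgroup.map_subgroupOf_eq_of_le (inf_le_right : T ≤ C)] at h6
    exact h6.ge

end CfsgLib.CharactersDeep.QuaternionSylow
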