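import Cfsg.Agent.Characters.Classes
import Cfsg.Prelude.Def_CharExt
import Mathlib.LinearAlgebra.Determinant
import Mathlib.Data.Fintype.Basic

/-!
# Characters of degree one and the determinantal character
-/

set_option autoImplicit false
set_option linter.unusedSectionVars false

namespace CfsgLib.CharactersDeep.LinearChar

open CfsgLib.Characters

universe u v

variable {G : Type u} [Group G]

/-- A units-valued homomorphism as a representation on a line. -/
noncomputable def lineRep (f : G →* ℂˣ) : Representation ℂ G (Fin 1 → ℂ) where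
  toFun g := (f g : ℂ) • LinearMap.id
  map_one' := by simp; rfl
  map_mul' g h := by ext x; simp; ring

theorem lineRep_character (f : G →* ℂˣ) : (lineRep f).character = fun g => (f g : ℂ) := by
  funext g
  change LinearMap.trace ℂ (Fin 1 → ℂ) ((f g : ℂ) • LinearMap.id) = _
  rw [map_smul, show (LinearMap.id : (Fin 1 → ℂ) →ₗ[ℂ] _) = 1 from rfl, LinearMap.trace_one]
  simp

/-- A units-valued homomorphism is an irreducible character. -/
theorem isIrrCharacter_hom (f : G →* ℂˣ) : Cfsg.IsIrrCharacter G (fun g => (f g : ℂ)) :=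
  ⟨1, lineRep f, isIrreducible_of_finrank_eq_one _ (by simp), lineRep_character f⟩

theorem isCharacter_hom (f : G →* ℂˣ) : Cfsg.IsCharacter G (fun g => (f g : ℂ)) :=
  ⟨1, lineRep f, lineRep_character f⟩

/-- A representation on a line acts by its character. -/
theorem rep_eq_char_smul {V : Type v} [AddCommGroup V] [Module ℂ V] [FiniteDimensional ℂ V]
    (ρ : Representation ℂ G V) (h : Module.finrank ℂ V = 1) (g : G) :
    ρ g = ρ.character g • LinearMap.id := by
  obtain ⟨v, hv, hspan⟩ := finrank_eq_one_iff'.mp h
  obtain ⟨c, hc⟩ := hspan (ρ g v)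
  have hid : ρ g = c • LinearMap.id := LinearMap.ext fun w => by
    obtain ⟨d, rfl⟩ := hspan w
    rw [map_smul, ← hc, LinearMap.smul_apply, LinearMap.id_apply, smul_comm]
  rw [hid]
  congr 1
  change c = LinearMap.trace ℂ V (ρ g)
  rw [hid, map_smul, show (LinearMap.id : V →ₗ[ℂ] V) = 1 from rfl, LinearMap.trace_one, h]
  simp

/-- A character of degree one is a units-valued homomorphism. -/
theorem exists_hom {χ : G → ℂ} (h : Cfsg.IsCharacter G χ) (h1 : χ 1 = 1) :
    ∃ f : G →* ℂˣ, χ = fun g => (f g : ℂ) := by
  obtain ⟨n, ρ, rfl⟩ := h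
  have hn : Module.finrank ℂ (Fin n → ℂ) = 1 := by
    rw [Representation.char_one] at h1; exact_mod_cast h1
  have hmul : ∀ a b, ρ.character (a * b) = ρ.character a * ρ.character b := by
    intro a b
    change LinearMap.trace ℂ _ (ρ (a * b)) = _
    rw [map_mul, rep_eq_char_smul ρ hn a, rep_eq_char_smul ρ hn b, smul_mul_smul_comm, map_smul,
      show (LinearMap.id : (Fin n → ℂ) →ₗ[ℂ] _) = 1 from rfl, one_mul, LinearMap.trace_one, hn]
    simp
  let f : G →* ℂ := { toFun := ρ.character, map_one' := h1, map_mul' := hmul }
  exact ⟨f.toHomUnits, funext fun g => (MonoidHom.coe_toHomUnits f g).symm⟩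

/-- `orderOf` of a units-valued homomorphism computed among functions. -/
theorem orderOf_coe_hom (f : G →* ℂˣ) : orderOf (fun g => (f g : ℂ)) = orderOf f := by
  let F : (G →* ℂˣ) →* (G → ℂ) :=
    { toFun := fun f g => (f g : ℂ), map_one' := rfl, map_mul' := fun _ _ => rfl }
  exact orderOf_injective F (fun a b hab => MonoidHom.ext fun g => Units.ext (congrFun hab g)) f

variable [Finite G]

/-- The determinant of a representation as a units-valued homomorphism. -/
noncomputable def detHom {V : Type v} [AddCommGroup V] [Module ℂ V] (ρ : Representation ℂ G V) :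
    G →* ℂˣ :=
  ((LinearMap.det (A := ℂ) (M := V)).comp ρ).toHomUnits

theorem detHom_apply {V : Type v} [AddCommGroup V] [Module ℂ V] (ρ : Representation ℂ G V)
    (g : G) : (detHom ρ g : ℂ) = LinearMap.det (ρ g) :=
  MonoidHom.coe_toHomUnits _ g

/-- The determinantal character is computed by every representation affording the character. -/
theorem detChar_eq {V : Type v} [AddCommGroup V] [Module ℂ V] [FiniteDimensional ℂ V]
    (ρ : Representation ℂ G V) :
    Cfsg.detChar ρ.character = fun g => LinearMap.det (ρ g) := by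
  haveI := Fintype.ofFinite G
  have h : Cfsg.IsCharacter G ρ.character := isCharacter_character ρ
  funext g
  unfold Cfsg.detChar
  rw [dif_pos h]
  set σ := Classical.choose (Classical.choose_spec h)
  have hσ : σ.character = ρ.character := Classical.choose_spec (Classical.choose_spec h)
  obtain ⟨e⟩ := equiv_of_char_eq σ ρ hσ
  have hconj : ρ g = e.toLinearEquiv.toLinearMap ∘ₗ σ g ∘ₗ e.toLinearEquiv.symm.toLinearMap := by
    refine LinearMap.ext fun x => ?_
    obtain ⟨y, rfl⟩ := e.toLinearEquiv.surjective x
    simp only [LinearMap.comp_apply, LinearEquiv.coe_coe, LinearEquiv.symm_apply_apply]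
    exact (equiv_map e g y).symm
  rw [hconj, LinearMap.det_conj]

theorem detChar_eq_hom {V : Type v} [AddCommGroup V] [Module ℂ V] [FiniteDimensional ℂ V]
    (ρ : Representation ℂ G V) :
    Cfsg.detChar ρ.character = fun g => (detHom ρ g : ℂ) := by
  simp only [detChar_eq, detHom_apply]

theorem detOrder_eq {V : Type v} [AddCommGroup V] [Module ℂ V] [FiniteDimensional ℂ V]
    (ρ : Representation ℂ G V) : Cfsg.detOrder ρ.character = orderOf (detHom ρ) := by
  rw [Cfsg.detOrder, detChar_eq_hom, orderOf_coe_hom]

/-- The determinantal character of a product with a linear character. -/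
theorem detChar_smul {V : Type v} [AddCommGroup V] [Module ℂ V] [FiniteDimensional ℂ V]
    (f : G →* ℂˣ) (ρ : Representation ℂ G V) :
    ∃ σ : Representation ℂ G V, σ.character = (fun g => (f g : ℂ) * ρ.character g) ∧
      ∀ g, LinearMap.det (σ g) = (f g : ℂ) ^ Module.finrank ℂ V * LinearMap.det (ρ g) := by
  refine ⟨{ toFun := fun g => (f g : ℂ) • ρ g, map_one' := by simp, map_mul' := fun a b => ?_ },
    ?_, fun g => ?_⟩
  · simp [smul_smul, mul_comm]
  · funext g
    change LinearMap.trace ℂ V ((f g : ℂ) • ρ g) = _
    rw [map_smul]; rfl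
  · exact LinearMap.det_smul _ _

end CfsgLib.CharactersDeep.LinearChar
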