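import Cfsg.Agent.CharactersDeep.Clifford

/-!
# Gallagher's theorem

If `φ` is an irreducible character of `G` restricting irreducibly to the normal subgroup `N`, then
`β ↦ φ β` is a bijection from the irreducible characters of `G ⧸ N` onto the irreducible characters
of `G` over the restriction.
-/

set_option autoImplicit false
set_option linter.style.haveILetI false
set_option linter.unusedSectionVars false

namespace CfsgLib.CharactersDeep.Gallagher

open CfsgLib.Characters CfsgLib.OddOrderChar
open scoped ComplexConjugate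

universe u

variable {G : Type u} [Group G] [Fintype G] (N : Subgroup G) [hN : N.Normal] [Fintype N]

/-- The product of a character of `G` with an inflated character of `G ⧸ N`. -/
noncomputable def prodInfl (φ : G → ℂ) (β : G ⧸ N → ℂ) : G → ℂ := fun g => φ g * β g

/-- The character induced from the trivial character of a normal subgroup. -/
theorem indFun_one_normal (g : G) :
    Cfsg.indFun N (fun _ => 1) g =
      ∑ β : Cfsg.IrrCharacter (G ⧸ N), (β : G ⧸ N → ℂ) 1 * (β : G ⧸ N → ℂ) g := by
  classical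
  haveI := Fintype.ofFinite (G ⧸ N)
  rw [sum_degree_mul (g : G ⧸ N)]
  by_cases hg : g ∈ N
  · rw [if_pos ((QuotientGroup.eq_one_iff g).2 hg)]
    have h := indFun_normal_apply N (fun _ => (1 : ℂ)) ⟨g, hg⟩
    simp only [conjBy, Finset.sum_const, Finset.card_univ, ← Nat.card_eq_fintype_card,
      nsmul_eq_mul, mul_one] at h
    rw [h, ← Subgroup.index_eq_card, ← Subgroup.index_mul_card N]
    push_cast
    field_simp [subgroup_card_ne_zero N]
  · rw [if_neg fun h => hg ((QuotientGroup.eq_one_iff g).1 h), indFun_normal_eq_zero N _ hg]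

variable {φ : G → ℂ} (hφ : Cfsg.IsIrrCharacter G φ)
  (hθ : Cfsg.IsIrrCharacter N fun n : N => φ n)

theorem isCharacter_prodInfl {φ : G → ℂ} (hφ : Cfsg.IsCharacter G φ) {β : G ⧸ N → ℂ}
    (hβ : Cfsg.IsCharacter (G ⧸ N) β) : Cfsg.IsCharacter G (prodInfl N φ β) :=
  isCharacter_mul hφ (isCharacter_comp (QuotientGroup.mk' N) hβ)

include hφ in
theorem indFun_restrict :
    Cfsg.indFun N (fun n : N => φ n) = ∑ β : Cfsg.IrrCharacter (G ⧸ N),
      (β : G ⧸ N → ℂ) 1 • prodInfl N φ (β : G ⧸ N → ℂ) := by
  have h := indFun_mul N (fun _ => (1 : ℂ)) (isClassFunction_of_isIrr hφ)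
  simp only [one_mul] at h
  rw [h]
  funext g
  rw [indFun_one_normal, Finset.sum_apply, Finset.sum_mul]
  refine Finset.sum_congr rfl fun β _ => ?_
  simp only [prodInfl, Pi.smul_apply, smul_eq_mul]
  ring

include hφ hθ in
theorem classInner_prodInfl (α β : Cfsg.IrrCharacter (G ⧸ N)) [Decidable (α = β)] :
    Cfsg.classInner (prodInfl N φ (α : G ⧸ N → ℂ)) (prodInfl N φ (β : G ⧸ N → ℂ)) =
      if α = β then 1 else 0 := by
  classical
  haveI := Fintype.ofFinite (G ⧸ N)
  have hc : ∀ β : Cfsg.IrrCharacter (G ⧸ N),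
      Cfsg.IsCharacter G (prodInfl N φ (β : G ⧸ N → ℂ)) := fun β =>
    isCharacter_prodInfl N (isCharacter_of_isIrr hφ) (isCharacter_of_isIrr β.2)
  choose d hd0 hd using fun β : Cfsg.IrrCharacter (G ⧸ N) => exists_degree_pos β.2
  choose k hk using fun p : Cfsg.IrrCharacter (G ⧸ N) × Cfsg.IrrCharacter (G ⧸ N) =>
    classInner_characters (hc p.1) (hc p.2)
  -- the norm of the induced character
  have hnorm : Cfsg.classInner (Cfsg.indFun N fun n : N => φ n)
      (Cfsg.indFun N fun n : N => φ n) = (N.index : ℂ) := by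
    rw [classInner_indFun N _ (isClassFunction_indFun N _)]
    have : (fun n : N => Cfsg.indFun N (fun n : N => φ n) n) =
        (N.index : ℂ) • fun n : N => φ n := by
      funext n
      have hconst : ∀ g : G, conjBy N (fun n : N => φ n) g n = φ n := fun g =>
        isClassFunction_of_isIrr hφ n g
      rw [indFun_normal_apply, Finset.sum_congr rfl fun g _ => hconst g, Finset.sum_const,
        Finset.card_univ, ← Nat.card_eq_fintype_card, nsmul_eq_mul, ← Subgroup.index_mul_card N,
        Pi.smul_apply, smul_eq_mul]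
      push_cast
      field_simp [subgroup_card_ne_zero N]
    rw [this, classInner_smul_right, classInner_isIrr_self hθ, mul_one, Complex.conj_natCast]
  have hsum : ∑ p : Cfsg.IrrCharacter (G ⧸ N) × Cfsg.IrrCharacter (G ⧸ N),
      d p.1 * d p.2 * k p = N.index := by
    apply Nat.cast_injective (R := ℂ)
    rw [← hnorm, indFun_restrict N hφ, classInner_sum_left, Fintype.sum_prod_type]
    push_cast
    refine Finset.sum_congr rfl fun a _ => ?_
    rw [classInner_sum_right]
    refine Finset.sum_congr rfl fun b _ => ?_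
    rw [classInner_smul_left, classInner_smul_right, hk (a, b), hd, hd, Complex.conj_natCast,
      mul_assoc]
  have hsq : ∑ β : Cfsg.IrrCharacter (G ⧸ N), d β * d β = N.index := by
    apply Nat.cast_injective (R := ℂ)
    rw [Subgroup.index_eq_card, ← sum_degree_sq]
    push_cast
    exact Finset.sum_congr rfl fun β _ => by rw [hd, sq]
  have hdiag : ∀ β, 0 < k (β, β) := fun β => Nat.pos_of_ne_zero fun h0 => by
    have h1 : Cfsg.classInner (prodInfl N φ (β : G ⧸ N → ℂ)) (prodInfl N φ (β : G ⧸ N → ℂ)) = 0 := by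
      rw [hk (β, β), h0, Nat.cast_zero]
    obtain ⟨m, hm⟩ := exists_nat_coeff (hc β)
    rw [classInner_eq_sum (isClassFunction_of_isCharacter (hc β))] at h1
    simp only [hm, classInner_irr_coeff, Complex.conj_natCast] at h1
    have h2 : ∑ ψ, m ψ * m ψ = 0 := by exact_mod_cast h1
    have h3 : prodInfl N φ (β : G ⧸ N → ℂ) 1 = 0 := by
      rw [hm, Finset.sum_apply, Finset.sum_eq_zero]
      intro ψ _
      have h4 := Finset.sum_eq_zero_iff.1 h2 ψ (Finset.mem_univ ψ)
      rw [mul_self_eq_zero.1 h4, Nat.cast_zero, zero_smul, Pi.zero_apply]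
    simp only [prodInfl] at h3
    exact mul_ne_zero (irr_one_ne_zero hφ) (irr_one_ne_zero β.2) h3
  have hle : ∀ p : Cfsg.IrrCharacter (G ⧸ N) × Cfsg.IrrCharacter (G ⧸ N),
      d p.1 * d p.2 * (if p.1 = p.2 then 1 else 0) ≤ d p.1 * d p.2 * k p := by
    rintro ⟨a, b⟩
    dsimp only
    split_ifs with h
    · subst h; exact Nat.mul_le_mul_left _ (hdiag a)
    · simp
  have heq := (Finset.sum_eq_sum_iff_of_le fun p _ => hle p).1 (by
    rw [hsum, Fintype.sum_prod_type, ← hsq]
    refine Finset.sum_congr rfl fun a _ => ?_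
    simp [mul_ite]) (α, β) (Finset.mem_univ _)
  have hfin : k (α, β) = if α = β then 1 else 0 :=
    ((Nat.eq_of_mul_eq_mul_left (Nat.mul_pos (hd0 α) (hd0 β)) heq).symm).trans
      (by split_ifs <;> rfl)
  rw [hk (α, β), hfin]
  split_ifs <;> simp

include hφ hθ in
/-- Products with irreducible characters of the quotient are irreducible. -/
theorem isIrr_prodInfl {β : G ⧸ N → ℂ} (hβ : Cfsg.IsIrrCharacter (G ⧸ N) β) :
    Cfsg.IsIrrCharacter G (prodInfl N φ β) := by
  classical
  refine isIrr_of_classInner_self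
    (isCharacter_prodInfl N (isCharacter_of_isIrr hφ) (isCharacter_of_isIrr hβ)) ?_
  have := classInner_prodInfl N hφ hθ ⟨β, hβ⟩ ⟨β, hβ⟩
  rwa [if_pos rfl] at this

include hφ hθ in
theorem prodInfl_injective {α β : G ⧸ N → ℂ} (hα : Cfsg.IsIrrCharacter (G ⧸ N) α)
    (hβ : Cfsg.IsIrrCharacter (G ⧸ N) β) (h : prodInfl N φ α = prodInfl N φ β) : α = β := by
  classical
  by_contra hne
  have h1 := classInner_prodInfl N hφ hθ ⟨α, hα⟩ ⟨β, hβ⟩
  rw [if_neg fun he => hne (congrArg Subtype.val he), h,
    classInner_isIrr_self (isIrr_prodInfl N hφ hθ hβ)] at h1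
  exact one_ne_zero h1

include hφ hθ in
theorem classInner_restrict_prodInfl {β : G ⧸ N → ℂ} :
    Cfsg.classInner (fun n : N => prodInfl N φ β n) (fun n : N => φ n) = β 1 := by
  have : (fun n : N => prodInfl N φ β n) = β 1 • fun n : N => φ n := by
    funext n
    simp [prodInfl, (QuotientGroup.eq_one_iff (n : G)).2 n.2, mul_comm]
  rw [this, classInner_smul_left, classInner_isIrr_self hθ, mul_one]

include hφ hθ in
/-- Every irreducible character over the restriction is such a product. -/
theorem exists_eq_prodInfl {ψ : G → ℂ} (hψ : Cfsg.IsIrrCharacter G ψ)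
    (h : Cfsg.classInner (fun n : N => ψ n) (fun n : N => φ n) ≠ 0) :
    ∃ β : G ⧸ N → ℂ, Cfsg.IsIrrCharacter (G ⧸ N) β ∧ ψ = prodInfl N φ β := by
  classical
  by_contra hno
  push Not at hno
  apply h
  rw [classInner_conj_symm, ← classInner_indFun N _ (isClassFunction_of_isIrr hψ),
    indFun_restrict N hφ, classInner_sum_left, Finset.sum_eq_zero, map_zero]
  intro β _
  rw [classInner_smul_left,
    classInner_isIrr_ne (isIrr_prodInfl N hφ hθ β.2) hψ (hno _ β.2).symm, mul_zero]

include hφ in
/-- For a class function `ψ`, the sums of `ψ conj φ` over cosets form a class function on the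
quotient, with the multiplicities of the products `φ β` in `ψ` as its coefficients. -/
theorem exists_coset_sum {ψ : G → ℂ} (hψ : Cfsg.IsClassFunction G ψ) [Fintype (G ⧸ N)] :
    ∃ f : G ⧸ N → ℂ, Cfsg.IsClassFunction (G ⧸ N) f ∧
      (∀ g : G, f g = ∑ n : N, ψ ((n : G) * g) * conj (φ ((n : G) * g))) ∧
      ∀ β : G ⧸ N → ℂ, Cfsg.classInner f β =
        (Nat.card N : ℂ) * Cfsg.classInner ψ (prodInfl N φ β) := by
  classical
  let F : G → ℂ := fun x => ∑ n : N, ψ ((n : G) * x) * conj (φ ((n : G) * x))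
  have hF : ∀ (n : N) (x : G), F ((n : G) * x) = F x := fun n x => by
    refine Fintype.sum_equiv (Equiv.mulRight n) _ _ fun m => ?_
    simp [mul_assoc]
  let f : G ⧸ N → ℂ := fun q => F q.out
  have hf : ∀ x : G, f x = F x := fun x => by
    obtain ⟨m, hm⟩ : ∃ m : N, (QuotientGroup.mk x : G ⧸ N).out = (m : G) * x := by
      refine ⟨⟨(QuotientGroup.mk x : G ⧸ N).out * x⁻¹, ?_⟩, by simp⟩
      rw [← QuotientGroup.eq_one_iff, QuotientGroup.mk_mul, QuotientGroup.out_eq',
        QuotientGroup.mk_inv, mul_inv_cancel]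
    simp only [f, hm, hF]
  refine ⟨f, ?_, hf, ?_⟩
  · intro q r
    obtain ⟨x, rfl⟩ := QuotientGroup.mk_surjective q
    obtain ⟨y, rfl⟩ := QuotientGroup.mk_surjective r
    rw [← QuotientGroup.mk_inv, ← QuotientGroup.mk_mul, ← QuotientGroup.mk_mul, hf, hf]
    refine Fintype.sum_equiv (MulAut.conjNormal (H := N) y⁻¹).toEquiv _ _ fun m => ?_
    have e1 : ∀ η : G → ℂ, Cfsg.IsClassFunction G η →
        η ((MulAut.conjNormal (H := N) y⁻¹ m : G) * x) = η ((m : G) * (y * x * y⁻¹)) := by
      intro η hη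
      rw [← hη _ y]
      congr 1
      simp [MulAut.conjNormal_apply, mul_assoc]
    simp only [MulEquiv.toEquiv_eq_coe, MulEquiv.coe_toEquiv, e1 ψ hψ,
      e1 φ (isClassFunction_of_isIrr hφ)]
  · intro β
    simp only [Cfsg.classInner, prodInfl, map_mul]
    rw [← Finset.sum_fiberwise Finset.univ (fun x : G => (x : G ⧸ N))]
    have key : ∀ q : G ⧸ N,
        ∑ x ∈ Finset.univ.filter (fun x : G => (x : G ⧸ N) = q),
          ψ x * (conj (φ x) * conj (β x)) = f q * conj (β q) := by
      intro q
      obtain ⟨x, rfl⟩ := QuotientGroup.mk_surjective q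
      rw [hf]
      simp only [F, Finset.sum_mul]
      symm
      refine Finset.sum_bij (fun (n : N) _ => (n : G) * x) ?_ ?_ ?_ ?_
      · intro n _
        simp [(QuotientGroup.eq_one_iff (n : G)).2 n.2]
      · intro n _ m _ hnm
        exact Subtype.ext (mul_right_cancel hnm)
      · intro y hy
        refine ⟨⟨y * x⁻¹, ?_⟩, Finset.mem_univ _, by simp⟩
        rw [← QuotientGroup.eq_one_iff, QuotientGroup.mk_mul, (Finset.mem_filter.1 hy).2,
          QuotientGroup.mk_inv, mul_inv_cancel]
      · intro n _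
        simp [(QuotientGroup.eq_one_iff (n : G)).2 n.2, mul_assoc]
    rw [Finset.sum_congr rfl fun q _ => key q, ← Subgroup.index_eq_card,
      ← Subgroup.index_mul_card N, Nat.cast_mul]
    field_simp [subgroup_card_ne_zero N]

include hφ hθ in
/-- The average of `|φ|²` over every coset is one. -/
theorem sum_coset_mul_conj (g : G) :
    ∑ n : N, φ ((n : G) * g) * conj (φ ((n : G) * g)) = (Nat.card N : ℂ) := by
  classical
  haveI := Fintype.ofFinite (G ⧸ N)
  obtain ⟨f, hfcl, hf, hfi⟩ := exists_coset_sum N hφ (isClassFunction_of_isIrr hφ)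
  have hfin : f = fun _ => (Nat.card N : ℂ) := by
    refine classFunction_ext hfcl (fun _ _ => rfl) fun β => ?_
    let one' : Cfsg.IrrCharacter (G ⧸ N) := ⟨fun _ => 1, isIrr_one⟩
    have h1 := classInner_prodInfl N hφ hθ one' β
    have h2 : Cfsg.classInner (one' : G ⧸ N → ℂ) (β : G ⧸ N → ℂ) =
        if one' = β then 1 else 0 := classInner_irr one' β
    have h3 : prodInfl N φ (one' : G ⧸ N → ℂ) = φ := funext fun x => mul_one _
    rw [h3] at h1
    rw [hfi, h1, ← h2, ← classInner_smul_left]
    congr 1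
    funext x
    simp [one']
  rw [← hf, hfin]

end CfsgLib.CharactersDeep.Gallagher
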