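import Cfsg.Agent.CoxeterSym.Basic
import Mathlib.LinearAlgebra.CliffordAlgebra.Contraction
import Mathlib.LinearAlgebra.QuadraticForm.Basic
import Mathlib.Analysis.Real.Sqrt
import Mathlib.GroupTheory.SpecificGroups.Alternating

/-!
# The double cover of the alternating group

The lifts `(e_i - e_{i+1}) / √2` of the adjacent transpositions in the Clifford algebra of the
sum of squares satisfy the Coxeter relations up to sign.
-/

set_option autoImplicit false
set_option linter.style.haveILetI false
set_option linter.unusedSectionVars false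

namespace CfsgLib.CharactersDeep.SpinCover

open CliffordAlgebra

variable (k : ℕ)

/-- The sum of squares. -/
noncomputable def form : QuadraticForm ℝ (Fin (k + 1) → ℝ) :=
  QuadraticMap.weightedSumSquares ℝ (fun _ : Fin (k + 1) => (1 : ℝ))

theorem form_apply (v : Fin (k + 1) → ℝ) : form k v = ∑ i, v i * v i := by
  simp [form, QuadraticMap.weightedSumSquares_apply]

theorem polar_form (v w : Fin (k + 1) → ℝ) :
    QuadraticMap.polar (form k) v w = 2 * ∑ i, v i * w i := by
  simp only [QuadraticMap.polar, form_apply, Pi.add_apply, Finset.mul_sum]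
  rw [← Finset.sum_sub_distrib, ← Finset.sum_sub_distrib]
  exact Finset.sum_congr rfl fun i _ => by ring

/-- The unit vector of an adjacent transposition. -/
noncomputable def vec (i : Fin k) : Fin (k + 1) → ℝ := fun j =>
  (Real.sqrt 2)⁻¹ * ((if j = i.castSucc then 1 else 0) - (if j = i.succ then 1 else 0))

theorem sum_vec (i j : Fin k) :
    ∑ l, vec k i l * vec k j l =
      2⁻¹ * ((if i = j then 2 else 0) - (if i.val + 1 = j.val then 1 else 0) -
        (if j.val + 1 = i.val then 1 else 0)) := by
  have h2 : (Real.sqrt 2)⁻¹ * (Real.sqrt 2)⁻¹ = (2 : ℝ)⁻¹ := by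
    rw [← mul_inv, Real.mul_self_sqrt (by norm_num)]
  simp only [vec]
  rw [Finset.sum_congr rfl (g := fun l => (2 : ℝ)⁻¹ *
    (((if l = i.castSucc then 1 else 0) - (if l = i.succ then 1 else 0)) *
      ((if l = j.castSucc then 1 else 0) - (if l = j.succ then 1 else 0))))
    fun l _ => by rw [← h2]; ring]
  rw [← Finset.mul_sum]
  congr 1
  have hsel : ∀ a b : Fin (k + 1), ∑ l : Fin (k + 1),
      (if l = a then (1 : ℝ) else 0) * (if l = b then 1 else 0) = if a = b then 1 else 0 := fun a b => by
    simp [Finset.sum_ite_eq', eq_comm]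
  simp only [sub_mul, mul_sub, Finset.sum_sub_distrib, hsel]
  simp only [Fin.ext_iff, Fin.val_castSucc, Fin.val_succ, Nat.add_right_cancel_iff]
  split_ifs <;> first | (exfalso; omega) | norm_num

theorem form_vec (i : Fin k) : form k (vec k i) = 1 := by
  rw [form_apply, sum_vec]
  simp

theorem polar_adjacent {i j : Fin k} (h : j.val = i.val + 1) :
    QuadraticMap.polar (form k) (vec k i) (vec k j) = -1 := by
  rw [polar_form, sum_vec, if_neg (fun e => by rw [e] at h; omega), if_pos h.symm,
    if_neg (by omega)]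
  norm_num

theorem polar_far {i j : Fin k} (h : i.val + 1 < j.val) :
    QuadraticMap.polar (form k) (vec k i) (vec k j) = 0 := by
  rw [polar_form, sum_vec, if_neg (fun e => by rw [e] at h; omega), if_neg (by omega),
    if_neg (by omega)]
  norm_num

/-- The unit of the vector. -/
noncomputable def unit (i : Fin k) : (CliffordAlgebra (form k))ˣ where
  val := ι (form k) (vec k i)
  inv := ι (form k) (vec k i)
  val_inv := by rw [ι_sq_scalar, form_vec, map_one]
  inv_val := by rw [ι_sq_scalar, form_vec, map_one]

theorem unit_sq (i : Fin k) : unit k i * unit k i = 1 := by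
  ext
  exact (unit k i).val_inv

theorem unit_braid {i j : Fin k} (h : j.val = i.val + 1) :
    unit k i * unit k j * unit k i = unit k j * unit k i * unit k j := by
  ext
  simp only [Units.val_mul, unit]
  rw [ι_mul_ι_mul_ι, ι_mul_ι_mul_ι, QuadraticMap.polar_comm _ (vec k j), polar_adjacent k h,
    form_vec, form_vec, one_smul, one_smul, neg_smul, neg_smul, one_smul, one_smul,
    map_sub, map_sub, map_neg, map_neg]
  abel

theorem unit_anticomm {i j : Fin k} (h : i.val + 1 < j.val) :
    unit k i * unit k j = -(unit k j * unit k i) := by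
  ext
  simp only [Units.val_mul, Units.val_neg, unit]
  rw [eq_neg_iff_add_eq_zero, ι_mul_ι_add_swap, polar_far k h, map_zero]

theorem neg_one_ne_one : (-1 : (CliffordAlgebra (form k))ˣ) ≠ 1 := by
  intro h
  haveI : Invertible (2 : ℝ) := invertibleOfNonzero two_ne_zero
  have h1 : (-1 : CliffordAlgebra (form k)) = 1 := congrArg Units.val h
  have h2 : algebraMap ℝ (CliffordAlgebra (form k)) 2 = 0 := by
    rw [map_ofNat, ← one_add_one_eq_two]
    nth_rw 1 [← h1]
    exact neg_add_cancel _
  rw [show (0 : CliffordAlgebra (form k)) = algebraMap ℝ _ 0 from (map_zero _).symm] at h2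
  exact two_ne_zero ((algebraMap ℝ (CliffordAlgebra (form k))).injective h2)

/-- Pairs of a lift and a permutation. -/
abbrev Amb := (CliffordAlgebra (form k))ˣ × Equiv.Perm (Fin (k + 1))

/-- The generator. -/
noncomputable def gen (i : ℕ) : Amb k :=
  if h : i < k then (unit k ⟨i, h⟩, Equiv.swap (Fin.castSucc ⟨i, h⟩) (Fin.succ ⟨i, h⟩)) else 1

/-- The sign. -/
noncomputable def neg : Amb k := (-1, 1)

/-- The covering group of the symmetric group. -/
noncomputable def cover : Subgroup (Amb k) :=
  Subgroup.closure ({x | ∃ i, i < k ∧ x = gen k i} ∪ {neg k})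

theorem neg_mem : neg k ∈ cover k := Subgroup.subset_closure (Or.inr rfl)

theorem gen_mem {i : ℕ} (hi : i < k) : gen k i ∈ cover k :=
  Subgroup.subset_closure (Or.inl ⟨i, hi, rfl⟩)

theorem neg_comm (x : Amb k) : x * neg k = neg k * x := by
  refine Prod.ext ?_ ?_
  · show x.1 * -1 = -1 * x.1
    ext; simp
  · show x.2 * 1 = 1 * x.2
    simp

/-- The sign in the cover. -/
noncomputable def negC : cover k := ⟨neg k, neg_mem k⟩

theorem negC_center : negC k ∈ Subgroup.center (cover k) :=
  Subgroup.mem_center_iff.2 fun x => Subtype.ext (neg_comm k x)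

theorem orderOf_negC : orderOf (negC k) = 2 := by
  refine orderOf_eq_prime ?_ fun h => neg_one_ne_one k (congrArg (fun x : cover k => x.1.1) h)
  apply Subtype.ext
  refine Prod.ext ?_ ?_ <;> simp [negC, neg, pow_two]

instance : (Subgroup.zpowers (negC k)).Normal :=
  ⟨fun n hn g => by
    have h := Subgroup.mem_center_iff.1 ((Subgroup.zpowers_le.2 (negC_center k)) hn) g
    rwa [h, mul_inv_cancel_right]⟩

/-- The projection. -/
noncomputable def proj : cover k →* Equiv.Perm (Fin (k + 1)) :=
  (MonoidHom.snd _ _).comp (cover k).subtype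

theorem proj_surjective : Function.Surjective (proj k) := by
  intro x
  have hx : x ∈ Submonoid.closure (Set.range fun i : Fin k => Equiv.swap i.castSucc i.succ) := by
    rw [Equiv.Perm.mclosure_swap_castSucc_succ]; trivial
  refine (Submonoid.closure_le (S := (proj k).range.toSubmonoid)).2 ?_ hx
  rintro _ ⟨i, rfl⟩
  exact ⟨⟨gen k i, gen_mem k i.isLt⟩, by simp [proj, gen, i.isLt]⟩

theorem swap_braid {α : Type*} [DecidableEq α] {x y z : α} (hxy : x ≠ y) (hxz : x ≠ z)
    (hyz : y ≠ z) : Equiv.swap x y * Equiv.swap y z * Equiv.swap x y =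
      Equiv.swap y z * Equiv.swap x y * Equiv.swap y z := by
  rw [Equiv.swap_mul_swap_mul_swap hxy hxz, Equiv.swap_comm x y, Equiv.swap_comm y z,
    Equiv.swap_mul_swap_mul_swap hyz.symm hxz.symm, Equiv.swap_comm]

/-- The permutation parts satisfy the relations. -/
theorem gen_snd_braid {i : ℕ} (hi : i + 1 < k) :
    (gen k i).2 * (gen k (i + 1)).2 * (gen k i).2 =
      (gen k (i + 1)).2 * (gen k i).2 * (gen k (i + 1)).2 := by
  simp only [gen, dif_pos hi, dif_pos (show i < k by omega)]
  rw [show (Fin.castSucc ⟨i + 1, hi⟩ : Fin (k + 1)) = Fin.succ ⟨i, by omega⟩ from rfl]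
  refine swap_braid ?_ ?_ ?_ <;> simp only [Ne, Fin.ext_iff, Fin.val_castSucc, Fin.val_succ] <;> omega

theorem isSymGens_quot :
    CoxeterSym.IsSymGens k (fun i => if h : i < k then
      ((⟨gen k i, gen_mem k h⟩ : cover k) : cover k ⧸ Subgroup.zpowers (negC k)) else 1) := by
  have hg : ∀ i (h : i < k), gen k i =
      (unit k ⟨i, h⟩, Equiv.swap (Fin.castSucc ⟨i, h⟩) (Fin.succ ⟨i, h⟩)) := fun i h => dif_pos h
  refine ⟨fun i hi => ?_, fun i hi => ?_, fun i j hij hj => ?_⟩
  · simp only [dif_pos hi]
    rw [← QuotientGroup.mk_mul, QuotientGroup.eq_one_iff,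
      show (⟨gen k i, gen_mem k hi⟩ * ⟨gen k i, gen_mem k hi⟩ : cover k) = 1 from
      Subtype.ext (Prod.ext (by simp [hg i hi, unit_sq]) (by simp [hg i hi]))]
    exact one_mem _
  · simp only [dif_pos hi, dif_pos (show i < k by omega)]
    rw [← QuotientGroup.mk_mul, ← QuotientGroup.mk_mul, ← QuotientGroup.mk_mul,
      ← QuotientGroup.mk_mul]
    congr 1
    refine Subtype.ext (Prod.ext ?_ ?_)
    · simp only [Subgroup.coe_mul, hg i (by omega), hg (i + 1) hi, Prod.mk_mul_mk]
      exact unit_braid k rfl
    · simp only [Subgroup.coe_mul, hg i (by omega), hg (i + 1) hi, Prod.mk_mul_mk]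
      simpa [hg i (show i < k by omega), hg (i + 1) hi] using gen_snd_braid k hi
  · simp only [dif_pos hj, dif_pos (show i < k by omega)]
    rw [← QuotientGroup.mk_mul, ← QuotientGroup.mk_mul, QuotientGroup.eq]
    refine Subgroup.mem_zpowers_iff.2 ⟨1, ?_⟩
    rw [zpow_one, eq_inv_mul_iff_mul_eq]
    refine Subtype.ext (Prod.ext ?_ ?_)
    · simp only [negC, neg, Subgroup.coe_mul, hg i (by omega), hg j hj, Prod.mk_mul_mk]
      rw [unit_anticomm k (i := ⟨i, by omega⟩) (j := ⟨j, hj⟩) hij]
      ext; simp
    · simp only [negC, neg, Subgroup.coe_mul, hg i (by omega), hg j hj, Prod.mk_mul_mk, mul_one]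
      exact (Equiv.Perm.disjoint_iff_disjoint_support.2 (by
        rw [Equiv.Perm.support_swap (by simp [Fin.ext_iff]),
          Equiv.Perm.support_swap (by simp [Fin.ext_iff])]
        simp [Fin.ext_iff]
        omega)).commute.eq

theorem finite_cover_and_ker :
    Finite (cover k) ∧ (proj k).ker = Subgroup.zpowers (negC k) := by
  set Z := Subgroup.zpowers (negC k)
  set t : ℕ → cover k ⧸ Z := fun i => if h : i < k then
      ((⟨gen k i, gen_mem k h⟩ : cover k) : cover k ⧸ Z) else 1 with ht
  have hgen : CoxeterSym.genSubgroup k t = ⊤ := by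
    rw [eq_top_iff]
    intro x hx
    clear hx
    obtain ⟨⟨y, hy⟩, rfl⟩ := QuotientGroup.mk_surjective x
    induction hy using Subgroup.closure_induction with
    | mem y hy =>
      rcases hy with ⟨i, hi, rfl⟩ | rfl
      · have h := CoxeterSym.mem_genSubgroup t hi
        simpa [ht, dif_pos hi] using h
      · rw [show (((⟨neg k, _⟩ : cover k)) : cover k ⧸ Z) = 1 from
          (QuotientGroup.eq_one_iff _).2 (Subgroup.mem_zpowers (negC k))]
        exact one_mem _
    | one => exact one_mem _
    | mul a b ha hb iha ihb => exact mul_mem iha ihb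
    | inv a ha iha => exact inv_mem iha
  obtain ⟨hfin, hcard⟩ := CoxeterSym.finite_card_le_of_generated (isSymGens_quot k) hgen
  haveI := hfin
  have hle : Z ≤ (proj k).ker := Subgroup.zpowers_le.2 (by simp [proj, negC, neg])
  let π : cover k ⧸ Z →* Equiv.Perm (Fin (k + 1)) := QuotientGroup.lift Z (proj k) hle
  have hπ : Function.Bijective π := by
    refine (Nat.bijective_iff_surjective_and_card π).2 ⟨fun x => ?_, le_antisymm ?_ ?_⟩
    · obtain ⟨y, hy⟩ := proj_surjective k x
      exact ⟨y, hy⟩
    · rwa [Nat.card_perm, Nat.card_fin]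
    · exact Nat.card_le_card_of_surjective π fun x => by
        obtain ⟨y, hy⟩ := proj_surjective k x
        exact ⟨y, hy⟩
  haveI : Finite Z := by
    apply Nat.finite_of_card_ne_zero
    rw [Nat.card_zpowers, orderOf_negC]
    omega
  refine ⟨Finite.of_subgroup_quotient Z, le_antisymm (fun x hx => ?_) hle⟩
  rw [← QuotientGroup.eq_one_iff]
  exact hπ.1 (hx.trans (map_one π).symm)

theorem anticomm_identity {k : ℕ} {a b c : (CliffordAlgebra (form k))ˣ} (hca : a * c = -(c * a))
    (hab : a * b * a = b * a * b) (hbc : b * c * b = c * b * c) :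
    a * c * (b * a * c * b) = -(b * a * c * b * (a * c)) := by
  have hac : c * a = -(a * c) := by rw [hca, neg_neg]
  calc a * c * (b * a * c * b) = a * c * b * (a * c) * b := by simp only [mul_assoc]
    _ = -(a * (c * b * c) * a * b) :=
        (congrArg (fun t => a * c * b * t * b) hca).trans (by simp only [mul_neg, neg_mul, mul_assoc])
    _ = -(a * b * c * (b * a * b)) := by rw [← hbc]; simp only [mul_assoc]
    _ = -(a * b * (c * a) * b * a) := by rw [← hab]; simp only [mul_assoc]
    _ = a * b * a * (c * b) * a := by rw [hac]; simp only [mul_neg, neg_mul, neg_neg, mul_assoc]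
    _ = b * a * (b * c * b) * a := by rw [hab]; simp only [mul_assoc]
    _ = b * a * c * b * (c * a) := by rw [hbc]; simp only [mul_assoc]
    _ = _ := by rw [hac, mul_neg]

theorem comm_identity {M : Type*} [Group M] {a b c : M} (hca : a * c = c * a)
    (hab : a * b * a = b * a * b) (hbc : b * c * b = c * b * c) :
    a * c * (b * a * c * b) = b * a * c * b * (a * c) := by
  calc a * c * (b * a * c * b) = a * c * b * (a * c) * b := by simp only [mul_assoc]
    _ = a * (c * b * c) * a * b :=
        (congrArg (fun t => a * c * b * t * b) hca).trans (by simp only [mul_assoc])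
    _ = a * b * c * (b * a * b) := by rw [← hbc]; simp only [mul_assoc]
    _ = a * b * (c * a) * b * a := by rw [← hab]; simp only [mul_assoc]
    _ = a * b * a * (c * b) * a := by rw [← hca]; simp only [mul_assoc]
    _ = b * a * (b * c * b) * a := by rw [hab]; simp only [mul_assoc]
    _ = b * a * c * b * (c * a) := by rw [hbc]; simp only [mul_assoc]
    _ = _ := by rw [← hca]

/-- The cover of the alternating group. -/
theorem exists_double_cover (hk : 3 ≤ k) :
    ∃ (Γ : Type) (_ : Group Γ) (_ : Finite Γ) (z : Γ) (hz : z ∈ Subgroup.center Γ),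
      orderOf z = 2 ∧ z ∈ commutator Γ ∧ ∃ _ : (Subgroup.zpowers z).Normal,
        Nonempty (Γ ⧸ Subgroup.zpowers z ≃* alternatingGroup (Fin (k + 1))) := by
  obtain ⟨hfin, hker⟩ := finite_cover_and_ker k
  haveI := hfin
  let Γ : Subgroup (cover k) := (alternatingGroup (Fin (k + 1))).comap (proj k)
  let z : Γ := ⟨negC k, by simp [Γ, proj, negC, neg]⟩
  have hz : z ∈ Subgroup.center Γ := Subgroup.mem_center_iff.2 fun x =>
    Subtype.ext (Subgroup.mem_center_iff.1 (negC_center k) x)
  have hnorm : (Subgroup.zpowers z).Normal := ⟨fun n hn g => by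
    have h := Subgroup.mem_center_iff.1 ((Subgroup.zpowers_le.2 hz) hn) g
    rwa [h, mul_inv_cancel_right]⟩
  refine ⟨Γ, inferInstance, inferInstance, z, hz,
    (Subgroup.orderOf_coe z).symm.trans (orderOf_negC k), ?_, hnorm, ?_⟩
  · -- a commutator of lifts of two commuting double transpositions
    let g : Fin k → cover k := fun i => ⟨gen k i, gen_mem k i.isLt⟩
    let a := g ⟨0, by omega⟩
    let b := g ⟨1, by omega⟩
    let c := g ⟨2, by omega⟩
    have hsign : ∀ i : Fin k, Equiv.Perm.sign (proj k (g i)) = -1 := fun i => by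
      simp [g, proj, gen, i.isLt, Equiv.Perm.sign_swap, Fin.ext_iff]
    let x : Γ := ⟨a * c, by
      show proj k (a * c) ∈ alternatingGroup _
      rw [Equiv.Perm.mem_alternatingGroup, map_mul, map_mul, hsign, hsign]; rfl⟩
    let y : Γ := ⟨b * a * c * b, by
      show proj k (b * a * c * b) ∈ alternatingGroup _
      simp only [Equiv.Perm.mem_alternatingGroup, map_mul, b, a, c, hsign]
      rfl⟩
    have hxy : x * y = z * (y * x) := by
      refine Subtype.ext (Subtype.ext (Prod.ext ?_ ?_))
      · show (gen k 0).1 * (gen k 2).1 * ((gen k 1).1 * (gen k 0).1 * (gen k 2).1 * (gen k 1).1) =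
          -1 * ((gen k 1).1 * (gen k 0).1 * (gen k 2).1 * (gen k 1).1 * ((gen k 0).1 * (gen k 2).1))
        simp only [gen, dif_pos (show 0 < k by omega), dif_pos (show 1 < k by omega),
          dif_pos (show 2 < k by omega)]
        rw [neg_one_mul]
        exact anticomm_identity
          (unit_anticomm k (i := ⟨0, by omega⟩) (j := ⟨2, by omega⟩) (show 0 + 1 < 2 by omega))
          (unit_braid k (i := ⟨0, by omega⟩) (j := ⟨1, by omega⟩) rfl)
          (unit_braid k (i := ⟨1, by omega⟩) (j := ⟨2, by omega⟩) rfl)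
      · show (gen k 0).2 * (gen k 2).2 * ((gen k 1).2 * (gen k 0).2 * (gen k 2).2 * (gen k 1).2) =
          1 * ((gen k 1).2 * (gen k 0).2 * (gen k 2).2 * (gen k 1).2 * ((gen k 0).2 * (gen k 2).2))
        rw [one_mul]
        refine comm_identity ?_ (gen_snd_braid k (by omega)) (gen_snd_braid k (by omega))
        simp only [gen, dif_pos (show 0 < k by omega), dif_pos (show 2 < k by omega)]
        exact (Equiv.Perm.disjoint_iff_disjoint_support.2 (by
          rw [Equiv.Perm.support_swap (by simp [Fin.ext_iff]),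
            Equiv.Perm.support_swap (by simp [Fin.ext_iff])]
          simp [Fin.ext_iff])).commute.eq
    have hzc : z = x * y * (y * x)⁻¹ := by rw [hxy, mul_inv_cancel_right]
    rw [hzc, mul_inv_rev, ← mul_assoc]
    exact Subgroup.commutator_mem_commutator (Subgroup.mem_top x) (Subgroup.mem_top y)
  · let f : Γ →* alternatingGroup (Fin (k + 1)) := (proj k).subgroupComap _
    have hf : Function.Surjective f := fun s => by
      obtain ⟨w, hw⟩ := proj_surjective k s
      exact ⟨⟨w, by show proj k w ∈ alternatingGroup (Fin (k + 1)); rw [hw]; exact s.2⟩, Subtype.ext hw⟩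
    have hfk : f.ker = Subgroup.zpowers z := by
      ext w
      rw [MonoidHom.mem_ker, Subtype.ext_iff]
      show proj k w = 1 ↔ _
      rw [← MonoidHom.mem_ker, hker, Subgroup.mem_zpowers_iff, Subgroup.mem_zpowers_iff]
      simp only [Subtype.ext_iff, SubgroupClass.coe_zpow]
      rfl
    exact ⟨(QuotientGroup.quotientMulEquivOfEq hfk.symm).trans
      (QuotientGroup.quotientKerEquivOfSurjective f hf)⟩

end CfsgLib.CharactersDeep.SpinCover
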