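import Cfsg.Agent.CoxeterSym.Basic
import Mathlib.GroupTheory.SemidirectProduct
import Mathlib.GroupTheory.SpecificGroups.Cyclic

/-!
# A presentation of the alternating group

The elements `r i = s 0 * s (i + 1)`, `s` the adjacent transpositions, generate the even
permutations, and a group generated by elements with their relations has order at most half that of
the symmetric group.
-/

set_option autoImplicit false
set_option linter.style.haveILetI false
set_option linter.unusedSectionVars false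

namespace CfsgLib.CharactersDeep.AltPresentation

open CoxeterSym

/-- The relations of the generators `s 0 * s (i + 1)`. -/
structure IsAltGens {W : Type*} [Group W] (k : ℕ) (t : ℕ → W) : Prop where
  cube : 0 < k → t 0 ^ 3 = 1
  sq : ∀ i, 0 < i → i < k → t i ^ 2 = 1
  adj : ∀ i, i + 1 < k → (t i * t (i + 1)) ^ 3 = 1
  far : ∀ i j, i + 1 < j → j < k → (t i * t j) ^ 2 = 1

theorem inv_mul_inv_pow {W : Type*} [Group W] {a b : W} {m : ℕ} (h : (a * b) ^ m = 1) :
    (a⁻¹ * b⁻¹) ^ m = 1 := by
  rw [show a⁻¹ * b⁻¹ = (a⁻¹ * (a * b) * a)⁻¹ by group, inv_pow, inv_eq_one,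
    show a⁻¹ * (a * b) * a = a⁻¹ * (a * b) * (a⁻¹)⁻¹ by rw [inv_inv], conj_pow, h]
  group

theorem inv_mul_pow {W : Type*} [Group W] {a b : W} {m : ℕ} (hb : b * b = 1)
    (h : (a * b) ^ m = 1) : (a⁻¹ * b) ^ m = 1 := by
  conv_lhs => arg 1; arg 2; rw [← inv_eq_of_mul_eq_one_right hb]
  exact inv_mul_inv_pow h

theorem IsAltGens.inv {W : Type*} [Group W] {k : ℕ} {t : ℕ → W} (h : IsAltGens k t) :
    IsAltGens k (fun i => (t i)⁻¹) where
  cube h0 := by rw [inv_pow, h.cube h0, inv_one]
  sq i hi hik := by rw [inv_pow, h.sq i hi hik, inv_one]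
  adj i hi := inv_mul_inv_pow (h.adj i hi)
  far i j hij hj := inv_mul_inv_pow (h.far i j hij hj)

variable (k : ℕ)

/-- The relators. -/
def altRels : Set (FreeGroup (Fin k)) :=
  {g | ∃ i : Fin k, i.val = 0 ∧ g = FreeGroup.of i ^ 3} ∪
    {g | ∃ i : Fin k, 0 < i.val ∧ g = FreeGroup.of i ^ 2} ∪
    {g | ∃ i j : Fin k, j.val = i.val + 1 ∧ g = (FreeGroup.of i * FreeGroup.of j) ^ 3} ∪
    {g | ∃ i j : Fin k, i.val + 1 < j.val ∧ g = (FreeGroup.of i * FreeGroup.of j) ^ 2}

/-- The presented group. -/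
abbrev Pres := PresentedGroup (altRels k)

/-- Its generators. -/
def pgen (i : ℕ) : Pres k := if h : i < k then PresentedGroup.of ⟨i, h⟩ else 1

theorem pgen_eq (i : Fin k) : pgen k i = PresentedGroup.of i := by simp [pgen, i.isLt]

theorem pgen_isAltGens : IsAltGens k (pgen k) where
  cube h0 := by
    rw [show pgen k 0 = PresentedGroup.of ⟨0, h0⟩ from pgen_eq k ⟨0, h0⟩]
    exact PresentedGroup.one_of_mem (rels := altRels k) (x := FreeGroup.of (⟨0, h0⟩ : Fin k) ^ 3)
      (Or.inl (Or.inl (Or.inl ⟨_, rfl, rfl⟩)))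
  sq i hi hik := by
    rw [show pgen k i = PresentedGroup.of ⟨i, hik⟩ from pgen_eq k ⟨i, hik⟩]
    exact PresentedGroup.one_of_mem (rels := altRels k) (x := FreeGroup.of (⟨i, hik⟩ : Fin k) ^ 2)
      (Or.inl (Or.inl (Or.inr ⟨_, hi, rfl⟩)))
  adj i hi := by
    rw [show pgen k i = PresentedGroup.of ⟨i, by omega⟩ from pgen_eq k ⟨i, by omega⟩,
      show pgen k (i + 1) = PresentedGroup.of ⟨i + 1, hi⟩ from pgen_eq k ⟨i + 1, hi⟩]
    exact PresentedGroup.one_of_mem (rels := altRels k)
      (x := (FreeGroup.of (⟨i, by omega⟩ : Fin k) * FreeGroup.of ⟨i + 1, hi⟩) ^ 3)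
      (Or.inl (Or.inr ⟨_, _, rfl, rfl⟩))
  far i j hij hj := by
    rw [show pgen k i = PresentedGroup.of ⟨i, by omega⟩ from pgen_eq k ⟨i, by omega⟩,
      show pgen k j = PresentedGroup.of ⟨j, hj⟩ from pgen_eq k ⟨j, hj⟩]
    exact PresentedGroup.one_of_mem (rels := altRels k)
      (x := (FreeGroup.of (⟨i, by omega⟩ : Fin k) * FreeGroup.of ⟨j, hj⟩) ^ 2)
      (Or.inr ⟨_, _, hij, rfl⟩)

variable {k}

theorem exists_hom {W : Type*} [Group W] {t : ℕ → W} (h : IsAltGens k t) :
    ∃ φ : Pres k →* W, ∀ i : Fin k, φ (PresentedGroup.of i) = t i := by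
  have hrel : ∀ r ∈ altRels k, FreeGroup.lift (fun i : Fin k => t i) r = 1 := by
    rintro r (((⟨i, h0, rfl⟩ | ⟨i, h0, rfl⟩) | ⟨i, j, hij, rfl⟩) | ⟨i, j, hij, rfl⟩)
    · rw [map_pow, FreeGroup.lift_apply_of, h0]
      exact h.cube (by omega)
    · rw [map_pow, FreeGroup.lift_apply_of]
      exact h.sq i h0 i.isLt
    · rw [map_pow, map_mul, FreeGroup.lift_apply_of, FreeGroup.lift_apply_of, hij]
      exact h.adj i (hij ▸ j.isLt)
    · rw [map_pow, map_mul, FreeGroup.lift_apply_of, FreeGroup.lift_apply_of]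
      exact h.far i j hij j.isLt
  exact ⟨PresentedGroup.toGroup hrel, fun i => PresentedGroup.toGroup.of hrel⟩

/-- A group generated by such elements has order at most half of `(k + 2)!`. -/
theorem finite_card_le {W : Type*} [Group W] {t : ℕ → W} (h : IsAltGens k t)
    (hgen : Subgroup.closure {x | ∃ i, i < k ∧ x = t i} = ⊤) :
    Finite W ∧ Nat.card W * 2 ≤ (k + 2).factorial := by
  classical
  obtain ⟨f, hf⟩ := exists_hom (pgen_isAltGens k).inv
  have hff : f.comp f = MonoidHom.id _ := PresentedGroup.ext fun i => by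
    simp [hf, pgen_eq]
  let τ : MulAut (Pres k) := MonoidHom.toMulEquiv f f hff hff
  have hτ : ∀ i, i < k → τ (pgen k i) = (pgen k i)⁻¹ := fun i hi => by
    show f (pgen k i) = _
    rw [show pgen k i = PresentedGroup.of ⟨i, hi⟩ from pgen_eq k ⟨i, hi⟩, hf]
    exact congrArg (·⁻¹) (pgen_eq k ⟨i, hi⟩)
  have hτ2 : τ * τ = 1 := by
    ext x
    exact DFunLike.congr_fun hff x
  let c : MulAut (Pres k) × Multiplicative (ZMod 2) := (τ, Multiplicative.ofAdd 1)
  have hc : orderOf c = 2 := by
    refine orderOf_eq_prime ?_ ?_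
    · rw [pow_two]
      exact Prod.ext hτ2
        (show Multiplicative.ofAdd (1 : ZMod 2) * Multiplicative.ofAdd 1 = 1 by decide)
    · intro h
      exact (show Multiplicative.ofAdd (1 : ZMod 2) ≠ 1 by decide) (congrArg Prod.snd h)
  let C := Subgroup.zpowers c
  let φ : C →* MulAut (Pres k) := (MonoidHom.fst _ _).comp C.subtype
  let S := Pres k ⋊[φ] C
  let g : C := ⟨c, Subgroup.mem_zpowers c⟩
  have hg : g * g = 1 := Subtype.ext (by
    show c * c = 1
    have h := pow_orderOf_eq_one c
    rwa [hc, pow_two] at h)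
  let T : ℕ → S := fun i => match i with
    | 0 => SemidirectProduct.inr g
    | i + 1 => SemidirectProduct.inr g * SemidirectProduct.inl (pgen k i)
  have hTT : (SemidirectProduct.inr g : S) * SemidirectProduct.inr g = 1 := by
    rw [← map_mul, hg, map_one]
  have hswap : ∀ i, i < k → (SemidirectProduct.inr g : S) * SemidirectProduct.inl (pgen k i) =
      SemidirectProduct.inl (pgen k i)⁻¹ * SemidirectProduct.inr g := fun i hi => by
    have h := SemidirectProduct.inl_aut (φ := φ) g (pgen k i)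
    rw [show φ g (pgen k i) = (pgen k i)⁻¹ from hτ i hi] at h
    rw [h, map_inv, inv_mul_cancel_right]
  have hmul : ∀ i j, i < k → T (i + 1) * T (j + 1) =
      SemidirectProduct.inl ((pgen k i)⁻¹ * pgen k j) := fun i j hi => by
    show SemidirectProduct.inr g * SemidirectProduct.inl (pgen k i) *
      (SemidirectProduct.inr g * SemidirectProduct.inl (pgen k j)) = _
    rw [hswap i hi, map_mul]
    simp only [mul_assoc, ← mul_assoc (SemidirectProduct.inr g : S), hTT, one_mul]
  have hzero : ∀ i, T 0 * T (i + 1) = SemidirectProduct.inl (pgen k i) := fun i => by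
    show SemidirectProduct.inr g * (SemidirectProduct.inr g * SemidirectProduct.inl (pgen k i)) = _
    rw [← mul_assoc, hTT, one_mul]
  have hP := pgen_isAltGens k
  have hsq : ∀ i, i < k + 1 → T i * T i = 1 := by
    rintro (_ | i) hi
    · exact hTT
    · rw [hmul i i (by omega), inv_mul_cancel, map_one]
  have hS : IsSymGens (k + 1) T := by
    refine ⟨hsq, fun i hi => ?_, fun i j hij hj => ?_⟩
    · rw [braid_iff (hsq i (by omega)) (hsq (i + 1) hi)]
      cases i with
      | zero => rw [hzero, ← map_pow, hP.cube (by omega), map_one]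
      | succ i =>
        rw [hmul i (i + 1) (by omega), ← map_pow, inv_mul_pow (by
          rw [← pow_two]; exact hP.sq (i + 1) (by omega) (by omega)) (hP.adj i (by omega)), map_one]
    · rw [comm_iff (hsq i (by omega)) (hsq j hj)]
      obtain ⟨j, rfl⟩ : ∃ j', j = j' + 1 := ⟨j - 1, by omega⟩
      cases i with
      | zero => rw [hzero, ← map_pow, hP.sq j (by omega) (by omega), map_one]
      | succ i =>
        rw [hmul i j (by omega), ← map_pow, inv_mul_pow (by
          rw [← pow_two]; exact hP.sq j (by omega) (by omega)) (hP.far i j (by omega) (by omega)),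
          map_one]
  have hgenS : genSubgroup (k + 1) T = ⊤ := by
    rw [eq_top_iff]
    intro x hx
    clear hx
    have hr : (SemidirectProduct.inr g : S) ∈ genSubgroup (k + 1) T :=
      mem_genSubgroup T (show 0 < k + 1 by omega)
    rw [← SemidirectProduct.inl_left_mul_inr_right x]
    refine mul_mem ?_ ?_
    · have hle : (⊤ : Subgroup (Pres k)) ≤
          (genSubgroup (k + 1) T).comap (SemidirectProduct.inl : Pres k →* S) := by
        intro y _
        refine PresentedGroup.generated_by _ _ (fun j => ?_) y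
        show SemidirectProduct.inl (PresentedGroup.of j) ∈ genSubgroup (k + 1) T
        rw [← pgen_eq, ← hzero]
        exact mul_mem hr (mem_genSubgroup T (show (j : ℕ) + 1 < k + 1 by omega))
      exact hle (Subgroup.mem_top x.left)
    · obtain ⟨m, hm⟩ := Subgroup.mem_zpowers_iff.1 x.right.2
      rw [show x.right = g ^ m from Subtype.ext hm.symm, map_zpow]
      exact zpow_mem hr m
  obtain ⟨hfin, hcard⟩ := finite_card_le_of_generated hS hgenS
  haveI := hfin
  haveI : Finite (Pres k) :=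
    Finite.of_injective (SemidirectProduct.inl : Pres k →* S) SemidirectProduct.inl_injective
  have hSc : Nat.card S = Nat.card (Pres k) * 2 := by
    rw [Nat.card_congr (SemidirectProduct.equivProd (φ := φ)), Nat.card_prod, Nat.card_zpowers, hc]
  obtain ⟨ψ, hψ⟩ := exists_hom h
  have hsurj : Function.Surjective ψ := by
    rw [← MonoidHom.range_eq_top, eq_top_iff, ← hgen, Subgroup.closure_le]
    rintro _ ⟨i, hi, rfl⟩
    exact ⟨_, hψ ⟨i, hi⟩⟩
  refine ⟨Finite.of_surjective ψ hsurj, ?_⟩
  calc Nat.card W * 2 ≤ Nat.card (Pres k) * 2 :=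
        Nat.mul_le_mul_right 2 (Nat.card_le_card_of_surjective ψ hsurj)
    _ = Nat.card S := hSc.symm
    _ ≤ _ := hcard

/-- The adjacent transpositions, indexed by naturals. -/
def sw (k : ℕ) (i : ℕ) : Equiv.Perm (Fin (k + 2)) :=
  if h : i < k + 1 then Equiv.swap (Fin.castSucc ⟨i, h⟩) (Fin.succ ⟨i, h⟩) else 1

/-- The even generators. -/
def er (k : ℕ) (i : ℕ) : Equiv.Perm (Fin (k + 2)) := sw k 0 * sw k (i + 1)

theorem sw_isSymGens (k : ℕ) : IsSymGens (k + 1) (sw k) := by
  refine ⟨fun i hi => ?_, fun i hi => ?_, fun i j hij hj => ?_⟩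
  · simp [sw, hi]
  · simp only [sw, dif_pos hi, dif_pos (show i < k + 1 by omega)]
    rw [show (Fin.castSucc ⟨i + 1, hi⟩ : Fin (k + 2)) = Fin.succ ⟨i, by omega⟩ from rfl]
    have h1 : (Fin.castSucc ⟨i, by omega⟩ : Fin (k + 2)) ≠ Fin.succ ⟨i, by omega⟩ := by
      simp [Fin.ext_iff]
    have h2 : (Fin.castSucc ⟨i, by omega⟩ : Fin (k + 2)) ≠ Fin.succ ⟨i + 1, hi⟩ := by
      simp [Fin.ext_iff]; omega
    have h3 : (Fin.succ ⟨i, by omega⟩ : Fin (k + 2)) ≠ Fin.succ ⟨i + 1, hi⟩ := by
      simp [Fin.ext_iff]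
    rw [Equiv.swap_mul_swap_mul_swap h1 h2, Equiv.swap_comm (Fin.castSucc _) (Fin.succ _),
      Equiv.swap_comm (Fin.succ ⟨i, _⟩) (Fin.succ ⟨i + 1, hi⟩),
      Equiv.swap_mul_swap_mul_swap h3.symm h2.symm, Equiv.swap_comm]
  · simp only [sw, dif_pos hj, dif_pos (show i < k + 1 by omega)]
    exact (Equiv.Perm.disjoint_iff_disjoint_support.2 (by
      rw [Equiv.Perm.support_swap (by simp [Fin.ext_iff]),
        Equiv.Perm.support_swap (by simp [Fin.ext_iff])]
      simp [Fin.ext_iff]
      omega)).commute.eq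

theorem sign_sw (k : ℕ) {i : ℕ} (hi : i < k + 1) : Equiv.Perm.sign (sw k i) = -1 := by
  simp [sw, hi, Fin.ext_iff]

theorem sign_er (k : ℕ) {i : ℕ} (hi : i < k) : Equiv.Perm.sign (er k i) = 1 := by
  rw [er, map_mul, sign_sw k (Nat.succ_pos k), sign_sw k (by omega)]
  decide

theorem er_isAltGens (k : ℕ) : IsAltGens k (er k) := by
  have hs := sw_isSymGens k
  have h2 : ∀ i, 0 < i → i < k → sw k 0 * sw k (i + 1) = sw k (i + 1) * sw k 0 :=
    fun i hi hik => hs.comm 0 (i + 1) (by omega) (by omega)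
  refine ⟨fun hk => ?_, fun i hi hik => ?_, fun i hi => ?_, fun i j hij hj => ?_⟩
  · exact (braid_iff (hs.sq 0 (by omega)) (hs.sq 1 (by omega))).1 (hs.braid 0 (by omega))
  · exact (comm_iff (hs.sq 0 (by omega)) (hs.sq (i + 1) (by omega))).1 (h2 i hi hik)
  all_goals
    have key : ∀ j, 0 < j → j < k → sw k 0 * sw k (i + 1) * (sw k 0 * sw k (j + 1)) =
        sw k 0 * (sw k (i + 1) * sw k (j + 1)) * (sw k 0)⁻¹ := fun j hj0 hjk => by
      rw [inv_eq_of_mul_eq_one_right (hs.sq 0 (by omega)), h2 j hj0 hjk]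
      simp only [mul_assoc]
  · simp only [er]
    rw [key (i + 1) (by omega) hi, conj_pow,
      (braid_iff (hs.sq (i + 1) (by omega)) (hs.sq (i + 1 + 1) (by omega))).1
        (hs.braid (i + 1) (by omega))]
    group
  · simp only [er]
    rw [key j (by omega) hj, conj_pow,
      (comm_iff (hs.sq (i + 1) (by omega)) (hs.sq (j + 1) (by omega))).1
        (hs.comm (i + 1) (j + 1) (by omega) (by omega))]
    group

/-- The even generators generate the even permutations. -/
theorem closure_er (k : ℕ) {g : Equiv.Perm (Fin (k + 2))} (hg : Equiv.Perm.sign g = 1) :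
    g ∈ Subgroup.closure {x | ∃ i, i < k ∧ x = er k i} := by
  set R := Subgroup.closure {x | ∃ i, i < k ∧ x = er k i}
  have hs := sw_isSymGens k
  have hR : ∀ r ∈ R, sw k 0 * r * sw k 0 ∈ R := by
    intro r hr
    induction hr using Subgroup.closure_induction with
    | mem r hr =>
      obtain ⟨i, hi, rfl⟩ := hr
      have h : sw k 0 * er k i * sw k 0 = (er k i)⁻¹ := by
        rw [er, ← mul_assoc, hs.sq 0 (by omega), one_mul, mul_inv_rev,
          inv_eq_of_mul_eq_one_right (hs.sq 0 (by omega)),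
          inv_eq_of_mul_eq_one_right (hs.sq (i + 1) (by omega))]
      rw [h]
      exact inv_mem (Subgroup.subset_closure ⟨i, hi, rfl⟩)
    | one => rw [mul_one, hs.sq 0 (by omega)]; exact one_mem _
    | mul a b _ _ ha hb =>
      rw [show sw k 0 * (a * b) * sw k 0 = (sw k 0 * a * sw k 0) * (sw k 0 * b * sw k 0) by
        rw [show sw k 0 * a * sw k 0 * (sw k 0 * b * sw k 0) =
          sw k 0 * a * (sw k 0 * sw k 0) * (b * sw k 0) by simp only [mul_assoc],
          hs.sq 0 (by omega), mul_one]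
        simp only [mul_assoc]]
      exact mul_mem ha hb
    | inv a _ ha =>
      rw [show sw k 0 * a⁻¹ * sw k 0 = (sw k 0 * a * sw k 0)⁻¹ by
        rw [mul_inv_rev, mul_inv_rev, inv_eq_of_mul_eq_one_right (hs.sq 0 (by omega)), mul_assoc]]
      exact inv_mem ha
  have hall : ∀ g, (g ∈ R ∧ Equiv.Perm.sign g = 1) ∨ (sw k 0 * g ∈ R ∧ Equiv.Perm.sign g = -1) := by
    intro g
    have hmem : g ∈ Submonoid.closure
        (Set.range fun i : Fin (k + 1) => Equiv.swap i.castSucc i.succ) := by
      rw [Equiv.Perm.mclosure_swap_castSucc_succ]; trivial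
    induction hmem using Submonoid.closure_induction_left with
    | one => exact Or.inl ⟨one_mem _, map_one _⟩
    | mul_left x hx y _ ih =>
      obtain ⟨i, rfl⟩ := hx
      have hxi : Equiv.swap i.castSucc i.succ = sw k i := by simp [sw, i.isLt]
      have hxs := sign_sw k i.isLt
      simp only [hxi]
      rcases Nat.eq_zero_or_pos (i : ℕ) with h0 | hpos
      · rw [h0] at hxs ⊢
        rcases ih with ⟨h, hsg⟩ | ⟨h, hsg⟩
        · refine Or.inr ⟨?_, by rw [map_mul, hxs, hsg, mul_one]⟩
          rw [← mul_assoc, hs.sq 0 (by omega), one_mul]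
          exact h
        · exact Or.inl ⟨h, by rw [map_mul, hxs, hsg]; decide⟩
      · obtain ⟨j, hj⟩ : ∃ j, (i : ℕ) = j + 1 := ⟨i - 1, by omega⟩
        rw [hj] at hxs ⊢
        have hjk : j < k := by omega
        have her : sw k (j + 1) = sw k 0 * er k j := by
          rw [er, ← mul_assoc, hs.sq 0 (by omega), one_mul]
        have hrm : er k j ∈ R := Subgroup.subset_closure ⟨j, hjk, rfl⟩
        rcases ih with ⟨h, hsg⟩ | ⟨h, hsg⟩
        · refine Or.inr ⟨?_, by rw [map_mul, hxs, hsg, mul_one]⟩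
          rw [← mul_assoc, show sw k 0 * sw k (j + 1) = er k j from rfl]
          exact mul_mem hrm h
        · refine Or.inl ⟨?_, by rw [map_mul, hxs, hsg]; decide⟩
          have h2 := mul_mem (hR _ hrm) h
          rwa [show sw k 0 * er k j * sw k 0 * (sw k 0 * y) = sw k (j + 1) * y by
            rw [her, ← mul_assoc, mul_assoc (sw k 0 * er k j), hs.sq 0 (by omega), mul_one]] at h2
  rcases hall g with h | h
  · exact h.1
  · rw [hg] at h
    exact absurd h.2 (by decide)

end CfsgLib.CharactersDeep.AltPresentation
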