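import Cfsg.Agent.Characters.Integrality
import Cfsg.Agent.Characters.Classes

/-!
# Sums of a character over products of two conjugacy classes
-/

set_option autoImplicit false
set_option linter.unusedSectionVars false

namespace CfsgLib.CharactersDeep.ClassPairs

open CfsgLib.Characters
open scoped ComplexConjugate

variable {G : Type*} [Group G] [Fintype G]

open Classical in
/-- The conjugacy class of `a` as a finset. -/
noncomputable def classSet (a : G) : Finset G := Finset.univ.filter (IsConj a)

theorem mem_classSet {a x : G} : x ∈ classSet a ↔ IsConj a x := by simp [classSet]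

theorem conj_mem_classSet {a x : G} (h : G) : h * x * h⁻¹ ∈ classSet a ↔ x ∈ classSet a := by
  rw [mem_classSet, mem_classSet]
  exact ⟨fun hh => hh.trans (isConj_iff.mpr ⟨h⁻¹, by group⟩),
    fun hh => hh.trans (isConj_iff.mpr ⟨h, rfl⟩)⟩

theorem card_classSet (a : G) : Nat.card {x : G // IsConj a x} = (classSet a).card := by
  classical
  rw [Nat.card_eq_fintype_card, Fintype.card_subtype]
  unfold classSet
  convert rfl

variable {V : Type*} [AddCommGroup V] [Module ℂ V] [FiniteDimensional ℂ V]

/-- A class sum acts as the scalar given by the central character. -/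
theorem classSum_scalar (ρ : Representation ℂ G V) [ρ.IsIrreducible] (a : G) :
    ∑ x ∈ classSet a, ρ x =
      (((classSet a).card : ℂ) * ρ.character a / ρ.character 1) • LinearMap.id := by
  have hn : ρ.character 1 ≠ 0 := irr_one_ne_zero (isIrrCharacter_character ρ)
  obtain ⟨c, hc⟩ := schur_scalar ρ (∑ x ∈ classSet a, ρ x) fun h v => by
    simp only [LinearMap.sum_apply, map_sum, ← Module.End.mul_apply, ← map_mul]
    refine Finset.sum_bij (fun g _ => h⁻¹ * g * h) ?_ ?_ ?_ ?_
    · intro g hg
      simpa using (conj_mem_classSet h⁻¹).2 hg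
    · intro g _ g' _ hgg
      simpa using hgg
    · intro g hg
      exact ⟨h * g * h⁻¹, (conj_mem_classSet h).2 hg, by group⟩
    · intro g _
      congr 2
      group
  have ht := congrArg (LinearMap.trace ℂ V) hc
  rw [map_sum, trace_smul_id, ← Representation.char_one ρ,
    Finset.sum_congr rfl (g := fun _ => ρ.character a) fun x hx => ?_, Finset.sum_const,
    nsmul_eq_mul] at ht
  · rw [hc]; congr 1; rw [ht, mul_div_cancel_right₀ _ hn]
  · exact (classFunction_isConj (isClassFunction_of_isCharacter (isCharacter_character ρ))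
      (mem_classSet.1 hx)).symm

/-- The sum of an irreducible character over the products of two classes. -/
theorem sum_pairs_char {χ : G → ℂ} (hχ : Cfsg.IsIrrCharacter G χ) (a b : G) :
    ∑ p ∈ classSet a ×ˢ classSet b, χ (p.1 * p.2) =
      ((classSet a).card : ℂ) * ((classSet b).card : ℂ) * χ a * χ b / χ 1 := by
  obtain ⟨n, ρ, hρ, rfl⟩ := hχ
  have h1 : (∑ x ∈ classSet a, ρ x) * (∑ y ∈ classSet b, ρ y) =
      ∑ p ∈ classSet a ×ˢ classSet b, ρ (p.1 * p.2) := by
    rw [Finset.sum_mul_sum, Finset.sum_product]
    simp only [map_mul]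
  rw [classSum_scalar, classSum_scalar, smul_mul_smul_comm,
    show (LinearMap.id : (Fin n → ℂ) →ₗ[ℂ] _) * LinearMap.id = LinearMap.id from rfl] at h1
  have h2 := congrArg (LinearMap.trace ℂ _) h1
  rw [trace_smul_id, map_sum, ← Representation.char_one ρ] at h2
  refine Eq.trans h2.symm ?_
  have hn : ρ.character 1 ≠ 0 := irr_one_ne_zero ⟨n, ρ, hρ, rfl⟩
  field_simp

end CfsgLib.CharactersDeep.ClassPairs
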