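import Cfsg.Agent.Characters.Induction
import Cfsg.Agent.Characters.Classes
import Cfsg.Agent.Characters.Linear
import Cfsg.Agent.OddOrderChar.Induced

/-!
# Clifford theory

Constituents of the restriction to a normal subgroup are conjugate, the restriction is a multiple of
an orbit sum, and the Clifford correspondence for inertia groups.
Conjugates are written `CfsgLib.OddOrderChar.conjBy N θ g` (`n ↦ θ (g n g⁻¹)`).
-/

set_option autoImplicit false
set_option linter.style.haveILetI false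
set_option linter.unusedSectionVars false

namespace CfsgLib.CharactersDeep.Clifford

open CfsgLib.Characters CfsgLib.OddOrderChar
open scoped ComplexConjugate

universe u v

variable {G : Type u} [Group G] [Fintype G]

/-- A character with a constituent of at least the same degree equals it. -/
theorem eq_of_constituent_of_degree_le {F χ : G → ℂ} (hF : Cfsg.IsCharacter G F)
    (hχ : Cfsg.IsIrrCharacter G χ) (hne : Cfsg.classInner F χ ≠ 0) {a b : ℕ}
    (ha : F 1 = a) (hb : χ 1 = b) (hab : a ≤ b) : F = χ := by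
  classical
  obtain ⟨m, hm⟩ := exists_nat_coeff hF
  let χ' : Cfsg.IrrCharacter G := ⟨χ, hχ⟩
  have hdeg : ∀ ψ : Cfsg.IrrCharacter G, ∃ d : ℕ, 0 < d ∧ (ψ : G → ℂ) 1 = d := fun ψ =>
    exists_degree_pos ψ.2
  choose d hd0 hd using hdeg
  have hmχ : (m χ' : ℂ) = Cfsg.classInner F χ := by
    rw [hm]; exact (classInner_irr_coeff (fun ψ => (m ψ : ℂ)) χ').symm
  have hpos : 0 < m χ' := Nat.pos_of_ne_zero fun h => hne (by rw [← hmχ, h, Nat.cast_zero])
  have hbd : d χ' = b := Nat.cast_injective (R := ℂ) ((hd χ').symm.trans hb)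
  have hsum : ∑ ψ, m ψ * d ψ = a := by
    apply Nat.cast_injective (R := ℂ)
    rw [← ha, hm, Finset.sum_apply]
    push_cast
    exact Finset.sum_congr rfl fun ψ _ => by rw [Pi.smul_apply, smul_eq_mul, hd]
  rw [← Finset.add_sum_erase _ _ (Finset.mem_univ χ')] at hsum
  have hle : d χ' ≤ m χ' * d χ' := Nat.le_mul_of_pos_left _ hpos
  have hrest : ∑ ψ ∈ Finset.univ.erase χ', m ψ * d ψ = 0 := by omega
  have hm1 : m χ' = 1 := Nat.eq_of_mul_eq_mul_right (hd0 χ') (by omega)
  rw [hm, ← Finset.add_sum_erase _ _ (Finset.mem_univ χ'), hm1, Nat.cast_one, one_smul,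
    Finset.sum_eq_zero fun ψ hψ => ?_, add_zero]
  have := Finset.sum_eq_zero_iff.1 hrest ψ hψ
  rw [Nat.mul_eq_zero, or_iff_left (hd0 ψ).ne'] at this
  rw [this, Nat.cast_zero, zero_smul]

/-- The inner product is invariant under isomorphisms. -/
theorem classInner_comp_equiv {A : Type v} [Group A] [Fintype A] {B : Type*} [Group B] [Fintype B]
    (e : A ≃* B) (φ ψ : B → ℂ) :
    Cfsg.classInner (fun a => φ (e a)) (fun a => ψ (e a)) = Cfsg.classInner φ ψ := by
  simp only [Cfsg.classInner]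
  rw [Nat.card_congr e.toEquiv]
  congr 1
  exact Fintype.sum_equiv e.toEquiv _ _ fun a => rfl

section Normal

variable (N : Subgroup G) [hN : N.Normal] [Fintype N]

theorem isIrr_conjBy {θ : N → ℂ} (hθ : Cfsg.IsIrrCharacter N θ) (g : G) :
    Cfsg.IsIrrCharacter N (conjBy N θ g) := by
  convert isIrr_comp (MulAut.conjNormal (H := N) g).toMonoidHom
    (MulAut.conjNormal (H := N) g).surjective hθ using 2
  exact congrArg θ (Subtype.ext (by simp [MulAut.conjNormal_apply]))

theorem classInner_conjBy (θ φ : N → ℂ) (g : G) :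
    Cfsg.classInner (conjBy N θ g) (conjBy N φ g) = Cfsg.classInner θ φ :=
  classInner_comp_equiv (MulAut.conjNormal (H := N) g) θ φ

theorem conjBy_restrict {χ : G → ℂ} (hχ : Cfsg.IsClassFunction G χ) (g : G) :
    conjBy N (fun n : N => χ n) g = fun n : N => χ n :=
  funext fun n => hχ n g

theorem classInner_restrict_conjBy {χ : G → ℂ} (hχ : Cfsg.IsClassFunction G χ) (θ : N → ℂ)
    (g : G) :
    Cfsg.classInner (fun n : N => χ n) (conjBy N θ g) =
      Cfsg.classInner (fun n : N => χ n) θ := by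
  conv_lhs => rw [← conjBy_restrict N hχ g]
  exact classInner_conjBy N _ θ g

/-- Every irreducible character of `N` lies under one of `G`. -/
theorem exists_over {θ : N → ℂ} (hθ : Cfsg.IsIrrCharacter N θ) :
    ∃ χ : G → ℂ, Cfsg.IsIrrCharacter G χ ∧ Cfsg.classInner (fun n : N => χ n) θ ≠ 0 := by
  classical
  by_contra hno
  push Not at hno
  have h0 : Cfsg.indFun N θ = 0 := by
    refine classFunction_eq_zero (isClassFunction_indFun N θ) fun χ => ?_
    rw [classInner_indFun N θ (isClassFunction_of_isIrr χ.2), classInner_conj_symm,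
      hno _ χ.2, map_zero]
  have h1 := indFun_one N θ
  rw [h0, Pi.zero_apply, eq_comm, mul_eq_zero] at h1
  exact h1.elim (Nat.cast_ne_zero.2 Subgroup.index_ne_zero_of_finite) (irr_one_ne_zero hθ)

/-- Constituents of the restriction of an irreducible character are conjugate. -/
theorem exists_conjBy_of_constituents {χ : G → ℂ} (hχ : Cfsg.IsIrrCharacter G χ) {θ φ : N → ℂ}
    (hθ : Cfsg.IsIrrCharacter N θ) (hφ : Cfsg.IsIrrCharacter N φ)
    (h₁ : Cfsg.classInner (fun n : N => χ n) θ ≠ 0)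
    (h₂ : Cfsg.classInner (fun n : N => χ n) φ ≠ 0) : ∃ g : G, φ = conjBy N θ g := by
  classical
  by_contra hno
  push Not at hno
  have hFc : Cfsg.IsCharacter G (Cfsg.indFun N θ) :=
    isCharacter_indFun N (isCharacter_of_isIrr hθ)
  obtain ⟨m, hm⟩ := exists_nat_coeff hFc
  -- the inner product with `φ` vanishes
  have hzero : Cfsg.classInner (fun n : N => Cfsg.indFun N θ n) φ = 0 := by
    have : (fun n : N => Cfsg.indFun N θ n) =
        (Nat.card N : ℂ)⁻¹ • ∑ g : G, conjBy N θ g := by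
      funext n
      rw [indFun_normal_apply, Pi.smul_apply, Finset.sum_apply, smul_eq_mul]
    rw [this, classInner_smul_left, classInner_sum_left, Finset.sum_eq_zero, mul_zero]
    exact fun g _ => classInner_isIrr_ne (isIrr_conjBy N hθ g) hφ fun h => hno g h.symm
  have hexp : (fun n : N => Cfsg.indFun N θ n) =
      ∑ ψ : Cfsg.IrrCharacter G, (m ψ : ℂ) • (fun n : N => (ψ : G → ℂ) n) := by
    funext n
    rw [hm]
    simp [Finset.sum_apply]
  rw [hexp, classInner_sum_left] at hzero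
  have hnat : ∀ ψ : Cfsg.IrrCharacter G, ∃ k : ℕ,
      Cfsg.classInner (fun n : N => (ψ : G → ℂ) n) φ = k := fun ψ =>
    classInner_character_irr (isCharacter_restrict N (isCharacter_of_isIrr ψ.2)) hφ
  choose k hk using hnat
  have hz : ∑ ψ, m ψ * k ψ = 0 := by
    apply Nat.cast_injective (R := ℂ)
    rw [Nat.cast_zero, ← hzero]
    push_cast
    exact Finset.sum_congr rfl fun ψ _ => by rw [classInner_smul_left, hk]
  have := Finset.sum_eq_zero_iff.1 hz ⟨χ, hχ⟩ (Finset.mem_univ _)
  rcases Nat.mul_eq_zero.1 this with hm0 | hk0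
  · have hval : Cfsg.classInner (Cfsg.indFun N θ) χ = (m ⟨χ, hχ⟩ : ℂ) := by
      rw [hm]; exact classInner_irr_coeff (fun ψ => (m ψ : ℂ)) ⟨χ, hχ⟩
    rw [classInner_indFun N θ (isClassFunction_of_isIrr hχ), classInner_conj_symm, hm0,
      Nat.cast_zero, map_eq_zero] at hval
    exact h₁ hval
  · exact h₂ (by rw [hk ⟨χ, hχ⟩, hk0, Nat.cast_zero])

open Classical in
/-- The set of conjugates. -/
noncomputable def orbit (θ : N → ℂ) : Finset (N → ℂ) := Finset.univ.image (conjBy N θ)

theorem mem_orbit {θ φ : N → ℂ} : φ ∈ orbit N θ ↔ ∃ g : G, conjBy N θ g = φ := by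
  simp [orbit]

/-- The restriction is a multiple of the sum over the orbit of any constituent. -/
theorem restrict_eq_orbit_sum {χ : G → ℂ} (hχ : Cfsg.IsIrrCharacter G χ) {θ : N → ℂ}
    (hθ : Cfsg.IsIrrCharacter N θ) (h : Cfsg.classInner (fun n : N => χ n) θ ≠ 0) :
    (fun n : N => χ n) = Cfsg.classInner (fun n : N => χ n) θ • ∑ φ ∈ orbit N θ, φ := by
  classical
  refine classFunction_ext
    (isClassFunction_of_isCharacter (isCharacter_restrict N (isCharacter_of_isIrr hχ))) ?_ ?_
  · intro a b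
    simp only [Pi.smul_apply, Finset.sum_apply]
    congr 1
    refine Finset.sum_congr rfl fun φ hφ => ?_
    obtain ⟨g, rfl⟩ := (mem_orbit N).1 hφ
    exact isClassFunction_of_isIrr (isIrr_conjBy N hθ g) a b
  · intro φ
    rw [classInner_smul_left, classInner_sum_left]
    by_cases hφ : (φ : N → ℂ) ∈ orbit N θ
    · rw [Finset.sum_eq_single (φ : N → ℂ) (fun ψ hψ hne => ?_) (fun h => absurd hφ h),
        classInner_isIrr_self φ.2, mul_one]
      · obtain ⟨g, hg⟩ := (mem_orbit N).1 hφ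
        rw [← hg, classInner_restrict_conjBy N (isClassFunction_of_isIrr hχ)]
      · obtain ⟨g, rfl⟩ := (mem_orbit N).1 hψ
        exact classInner_isIrr_ne (isIrr_conjBy N hθ g) φ.2 hne
    · rw [Finset.sum_eq_zero fun ψ hψ => ?_, mul_zero]
      · by_contra h0
        obtain ⟨g, hg⟩ := exists_conjBy_of_constituents N hχ hθ φ.2 h h0
        exact hφ ((mem_orbit N).2 ⟨g, hg.symm⟩)
      · obtain ⟨g, rfl⟩ := (mem_orbit N).1 hψ
        exact classInner_isIrr_ne (isIrr_conjBy N hθ g) φ.2 fun he => hφ (he ▸ hψ)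

/-- An invariant constituent is the only one. -/
theorem restrict_eq_smul {χ : G → ℂ} (hχ : Cfsg.IsIrrCharacter G χ) {θ : N → ℂ}
    (hθ : Cfsg.IsIrrCharacter N θ) (hinv : ∀ g, conjBy N θ g = θ)
    (h : Cfsg.classInner (fun n : N => χ n) θ ≠ 0) :
    ∃ e : ℕ, 0 < e ∧ (fun n : N => χ n) = (e : ℂ) • θ ∧
      Cfsg.classInner (fun n : N => χ n) θ = e := by
  classical
  obtain ⟨e, he⟩ := classInner_character_irr (isCharacter_restrict N (isCharacter_of_isIrr hχ)) hθ
  refine ⟨e, Nat.pos_of_ne_zero fun h0 => h (by rw [he, h0, Nat.cast_zero]), ?_, he⟩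
  have horb : orbit N θ = {θ} := by
    ext φ
    simp only [mem_orbit, hinv, Finset.mem_singleton, exists_const]
    exact eq_comm
  conv_lhs => rw [restrict_eq_orbit_sum N hχ hθ h, horb, Finset.sum_singleton, he]

/-- `|orbit| * |stabiliser| = |G|`. -/
theorem card_orbit_mul (θ : N → ℂ) (T : Subgroup G) (hT : ∀ g, g ∈ T ↔ conjBy N θ g = θ) :
    (orbit N θ).card * Nat.card T = Nat.card G := by
  classical
  have hfib : ∀ φ ∈ orbit N θ,
      (Finset.univ.filter (fun g : G => conjBy N θ g = φ)).card = Nat.card T := by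
    intro φ hφ
    obtain ⟨g₀, rfl⟩ := (mem_orbit N).1 hφ
    rw [← Fintype.card_subtype, ← Nat.card_eq_fintype_card]
    refine Nat.card_congr
      { toFun := fun g => ⟨g.1 * g₀⁻¹, (hT _).2 ?_⟩
        invFun := fun t => ⟨t.1 * g₀, ?_⟩
        left_inv := fun g => Subtype.ext (by simp)
        right_inv := fun t => Subtype.ext (by simp) }
    · rw [← conjBy_mul, g.2, conjBy_mul, mul_inv_cancel, conjBy_one]
    · rw [← conjBy_mul, (hT _).1 t.2]
  rw [Nat.card_eq_fintype_card (α := G), ← Finset.card_univ,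
    Finset.card_eq_sum_card_fiberwise (t := orbit N θ) (f := conjBy N θ)
      (fun g _ => (mem_orbit N).2 ⟨g, rfl⟩),
    Finset.sum_congr rfl hfib, Finset.sum_const, smul_eq_mul]

/-- The Clifford correspondence: a character over `θ` is induced from the inertia group. -/
theorem exists_induced_from_inertia {θ : N → ℂ} (hθ : Cfsg.IsIrrCharacter N θ) (T : Subgroup G)
    [Fintype T] (hT : ∀ g, g ∈ T ↔ conjBy N θ g = θ) (hNT : N ≤ T) {χ : G → ℂ}
    (hχ : Cfsg.IsIrrCharacter G χ) (h : Cfsg.classInner (fun n : N => χ n) θ ≠ 0) :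
    ∃ (ψ : T → ℂ) (e : ℕ), 0 < e ∧ Cfsg.IsIrrCharacter T ψ ∧ Cfsg.indFun T ψ = χ ∧
      (fun n : N => ψ ⟨n, hNT n.2⟩) = (e : ℂ) • θ ∧
      Cfsg.classInner (fun n : N => χ n) θ = e := by
  classical
  let N' := N.subgroupOf T
  haveI : N'.Normal := Subgroup.normal_subgroupOf
  let E : N' ≃* N := Subgroup.subgroupOfEquivOfLe hNT
  let θ' : N' → ℂ := fun x => θ (E x)
  have hθ' : Cfsg.IsIrrCharacter N' θ' := isIrr_comp E.toMonoidHom E.surjective hθ
  have hinv' : ∀ t : T, conjBy N' θ' t = θ' := fun t => funext fun x => by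
    have h2 := congrFun ((hT t).1 t.2) (E x)
    exact h2
  have htrans : ∀ F : T → ℂ, Cfsg.classInner (fun n : N => F ⟨n, hNT n.2⟩) θ =
      Cfsg.classInner (fun x : N' => F x) θ' := fun F => by
    rw [← classInner_comp_equiv E]
    rfl
  obtain ⟨m, hm⟩ := exists_nat_coeff (isCharacter_restrict T (isCharacter_of_isIrr hχ))
  have hnat : ∀ ψ : Cfsg.IrrCharacter T, ∃ k : ℕ,
      Cfsg.classInner (fun x : N' => (ψ : T → ℂ) x) θ' = k := fun ψ =>
    classInner_character_irr (isCharacter_restrict N' (isCharacter_of_isIrr ψ.2)) hθ'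
  choose k hk using hnat
  obtain ⟨e₀, he₀⟩ := classInner_character_irr (isCharacter_restrict N (isCharacter_of_isIrr hχ)) hθ
  have hsum : e₀ = ∑ ψ, m ψ * k ψ := by
    apply Nat.cast_injective (R := ℂ)
    rw [← he₀]
    have h1 : (fun n : N => χ n) = ∑ ψ : Cfsg.IrrCharacter T,
        (m ψ : ℂ) • (fun n : N => (ψ : T → ℂ) ⟨n, hNT n.2⟩) := by
      funext n
      have := congrFun hm ⟨n, hNT n.2⟩
      rw [this]
      simp [Finset.sum_apply]
    rw [h1, classInner_sum_left]
    push_cast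
    exact Finset.sum_congr rfl fun ψ _ => by rw [classInner_smul_left, htrans, hk]
  have hne : ∑ ψ, m ψ * k ψ ≠ 0 := fun h0 => h (by rw [he₀, hsum, h0, Nat.cast_zero])
  obtain ⟨ψ, -, hψ⟩ := Finset.exists_ne_zero_of_sum_ne_zero hne
  have hm0 : m ψ ≠ 0 := fun h0 => hψ (by rw [h0, zero_mul])
  have hk0 : k ψ ≠ 0 := fun h0 => hψ (by rw [h0, mul_zero])
  obtain ⟨e, he, heq, hee⟩ := restrict_eq_smul N' ψ.2 hθ' hinv'
    (by rw [hk]; exact_mod_cast hk0)
  have hek : k ψ = e := Nat.cast_injective (R := ℂ) ((hk ψ).symm.trans hee)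
  have hle : e ≤ e₀ := by
    rw [hsum, ← hek]
    exact (Nat.le_mul_of_pos_left _ (Nat.pos_of_ne_zero hm0)).trans
      (Finset.single_le_sum (f := fun φ => m φ * k φ) (fun _ _ => Nat.zero_le _) (Finset.mem_univ ψ))
  have hψN : (fun n : N => (ψ : T → ℂ) ⟨n, hNT n.2⟩) = (e : ℂ) • θ := by
    funext n
    have h2 := congrFun heq (E.symm n)
    have h3 : θ' (E.symm n) = θ n := by simp [θ']
    have h8 : ((E.symm n : N') : T) = ⟨n, hNT n.2⟩ := Subtype.ext rfl
    simpa [Pi.smul_apply, h3, h8] using h2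
  obtain ⟨d, hd⟩ := exists_degree (isCharacter_of_isIrr hθ)
  obtain ⟨c, hc⟩ := exists_degree (isCharacter_of_isIrr hχ)
  have hψ1 : (ψ : T → ℂ) 1 = (e : ℂ) * θ 1 := congrFun hψN 1
  have hidx : (orbit N θ).card = T.index := by
    have h4 := card_orbit_mul N θ T hT
    rw [← Subgroup.index_mul_card T] at h4
    exact Nat.eq_of_mul_eq_mul_right Nat.card_pos h4
  have hc' : c = e₀ * (T.index * d) := by
    apply Nat.cast_injective (R := ℂ)
    have h5 := congrFun (restrict_eq_orbit_sum N hχ hθ h) 1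
    simp only [Pi.smul_apply, Finset.sum_apply, smul_eq_mul, he₀, OneMemClass.coe_one] at h5
    rw [← hc, h5, Finset.sum_congr rfl (g := fun _ => θ 1) fun φ hφ => ?_, Finset.sum_const, hidx, nsmul_eq_mul, hd]
    · push_cast; ring
    · obtain ⟨g, rfl⟩ := (mem_orbit N).1 hφ
      exact congrArg θ (Subtype.ext (by simp))
  have hcoef : Cfsg.classInner (Cfsg.indFun T (ψ : T → ℂ)) χ ≠ 0 := by
    rw [classInner_indFun T _ (isClassFunction_of_isIrr hχ), classInner_conj_symm, hm,
      classInner_irr_coeff (fun φ => (m φ : ℂ)) ψ, Complex.conj_natCast]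
    exact_mod_cast hm0
  have hind : Cfsg.indFun T (ψ : T → ℂ) = χ := by
    refine eq_of_constituent_of_degree_le (isCharacter_indFun T (isCharacter_of_isIrr ψ.2)) hχ
      hcoef (a := e * (T.index * d)) (b := c) ?_ hc ?_
    · rw [indFun_one, hψ1, hd]; push_cast; ring
    · rw [hc']; exact Nat.mul_le_mul_right _ hle
  refine ⟨ψ, e, he, ψ.2, hind, hψN, ?_⟩
  rw [he₀]
  congr 1
  -- comparing degrees
  have h6 : (c : ℂ) = ((e * (T.index * d) : ℕ) : ℂ) := by
    rw [← hc, ← hind, indFun_one, hψ1, hd]; push_cast; ring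
  have h7 : c = e * (T.index * d) := Nat.cast_injective h6
  have hpos : 0 < T.index * d := by
    refine Nat.mul_pos (Nat.pos_of_ne_zero Subgroup.index_ne_zero_of_finite) ?_
    exact Nat.pos_of_ne_zero fun h0 => irr_one_ne_zero hθ (by rw [hd, h0, Nat.cast_zero])
  exact Nat.eq_of_mul_eq_mul_right hpos (hc'.symm.trans h7)

end Normal

end CfsgLib.CharactersDeep.Clifford
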