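import Cfsg.Agent.CharactersDeep.SectionFun
import Cfsg.Agent.Characters.Generalized

/-!
# Brauer–Suzuki normal complement criterion

A Hall subgroup controlling its fusion which contains a conjugate of every elementary subgroup of
order dividing its own has a normal complement.
-/

set_option autoImplicit false
set_option linter.style.haveILetI false
set_option linter.unusedSectionVars false

namespace CfsgLib.CharactersDeep.NormalComplement

open CfsgLib.Characters CfsgLib.CharactersDeep
open scoped ComplexConjugate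

universe u

variable {G : Type u} [Group G] [Fintype G] (H : Subgroup G)

/-- The hypothesis on elementary subgroups. -/
def ContainsElementary : Prop :=
  ∀ (E : Subgroup G) (p : ℕ), p.Prime → Cfsg.IsElementary p E → Nat.card E ∣ Nat.card H →
    ∃ g : G, E.map (MulAut.conj g).toMonoidHom ≤ H

/-- The hypothesis on fusion. -/
def ControlsFusion : Prop := ∀ x ∈ H, ∀ y ∈ H, IsConj x y → ∃ h ∈ H, h * x * h⁻¹ = y

variable {H}

theorem isElementary_of_surjective {p : ℕ} (hp : p.Prime) {E F : Type*} [Group E] [Finite E]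
    [Group F] (f : E →* F) (hf : Function.Surjective f) (h : Cfsg.IsElementary p E) :
    Cfsg.IsElementary p F := by
  obtain ⟨x, hx, hcop, k, hk⟩ := h
  refine ⟨f x, ?_, hcop.coprime_dvd_left (orderOf_map_dvd f x), ?_⟩
  · refine Subgroup.mem_center_iff.2 fun y => ?_
    obtain ⟨z, rfl⟩ := hf y
    rw [← map_mul, ← map_mul, Subgroup.mem_center_iff.1 hx z]
  · rw [← MonoidHom.map_zpowers]
    obtain ⟨i, -, hi⟩ := (Nat.dvd_prime_pow hp).1
      (hk ▸ Subgroup.index_map_dvd (Subgroup.zpowers x) hf)
    exact ⟨i, hi⟩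

theorem exists_conj_mem (helem : ContainsElementary H) {v : G} (hv : orderOf v ∣ Nat.card H) :
    ∃ h : H, IsConj (h : G) v := by
  obtain ⟨q, hq, hqp⟩ := Nat.exists_infinite_primes (orderOf v + 1)
  have hvE : (⟨v, Subgroup.mem_zpowers v⟩ : Subgroup.zpowers v) ∈
      Subgroup.center (Subgroup.zpowers v) :=
    Subgroup.mem_center_iff.2 fun y => Subtype.ext (by
      obtain ⟨i, hi⟩ := Subgroup.mem_zpowers_iff.1 y.2
      change (y : G) * v = v * y
      rw [← hi]
      exact (Commute.zpow_self v i).eq)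
  have hE : Cfsg.IsElementary q (Subgroup.zpowers v) := by
    refine ⟨_, hvE, ?_, 0, ?_⟩
    · rw [Subgroup.orderOf_mk]
      exact (hqp.coprime_iff_not_dvd.2 fun hd =>
        (Nat.le_of_dvd (orderOf_pos v) hd).not_gt (Nat.lt_of_succ_le hq)).symm
    · rw [pow_zero, Subgroup.index_eq_one, eq_top_iff]
      intro y _
      obtain ⟨i, hi⟩ := Subgroup.mem_zpowers_iff.1 y.2
      exact ⟨i, Subtype.ext hi⟩
  obtain ⟨g, hg⟩ := helem _ q hqp hE (by rwa [Nat.card_zpowers])
  exact ⟨⟨g * v * g⁻¹, hg ⟨v, Subgroup.mem_zpowers v, rfl⟩⟩, (isConj_iff.2 ⟨g, rfl⟩).symm⟩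

/-- The centraliser of `h` in `H` has the largest order prime to the index. -/
theorem card_dvd_centralizer (hHall : Nat.Coprime (Nat.card H) H.index) (hfus : ControlsFusion H)
    (helem : ContainsElementary H) (h : H) (B : Subgroup G)
    (hB : ∀ b ∈ B, b * (h : G) = (h : G) * b) (hcop : Nat.Coprime (Nat.card B) H.index) :
    Nat.card B ∣ Nat.card (Subgroup.centralizer ({h} : Set H)) := by
  refine (Nat.dvd_iff_prime_pow_dvd_dvd _ _).2 fun q e hq he => ?_
  haveI := Fact.mk hq
  obtain ⟨S, hS⟩ := Sylow.exists_subgroup_card_pow_prime q he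
  -- the elementary subgroup
  set C := Subgroup.zpowers (h : G) with hC
  set P : Subgroup G := S.map B.subtype with hP
  have hPcard : Nat.card P = q ^ e := by
    rw [hP, Subgroup.card_map_of_injective B.subtype_injective, hS]
  have hPh : ∀ y ∈ P, y * (h : G) = (h : G) * y := by
    rintro y ⟨s, -, rfl⟩
    exact hB s s.2
  have hPC : P ≤ Subgroup.centralizer (C : Set G) := fun y hy => by
    refine Subgroup.mem_centralizer_iff.2 fun z hz => ?_
    obtain ⟨i, rfl⟩ := Subgroup.mem_zpowers_iff.1 hz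
    exact (Commute.zpow_right (show Commute y (h : G) from hPh y hy) i).eq.symm
  set E := C ⊔ P with hE
  have hEcent : ∀ y ∈ E, Commute y (h : G) := by
    intro y hy
    have hle : E ≤ Subgroup.centralizer ({(h : G)} : Set G) := sup_le
      (Subgroup.zpowers_le.2 (Subgroup.mem_centralizer_singleton_iff.2 rfl))
      fun z hz => Subgroup.mem_centralizer_singleton_iff.2 (hPh z hz)
    exact Subgroup.mem_centralizer_singleton_iff.1 (hle hy)
  have hCE : C ≤ E := le_sup_left
  haveI hCn : (C.subgroupOf E).Normal := ⟨fun z hz y => by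
    obtain ⟨i, hi⟩ := Subgroup.mem_zpowers_iff.1 (show ((z : E) : G) ∈ C from hz)
    rw [Subgroup.mem_subgroupOf, Subgroup.coe_mul, Subgroup.coe_mul, Subgroup.coe_inv, ← hi,
      ((hEcent y y.2).zpow_right i).eq, mul_inv_cancel_right]
    exact ⟨i, rfl⟩⟩
  have hEidx : C.relIndex E ∣ q ^ e := by
    have htop : P.subgroupOf E ⊔ C.subgroupOf E = ⊤ := by
      rw [← Subgroup.subgroupOf_sup le_sup_right hCE, sup_comm, Subgroup.subgroupOf_self]
    have h1 := Subgroup.relIndex_sup_right (H := P.subgroupOf E) (K := C.subgroupOf E)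
    rw [htop, Subgroup.relIndex_top_right] at h1
    show (C.subgroupOf E).index ∣ _
    rw [h1, ← hPcard, ← Nat.card_congr (Subgroup.subgroupOfEquivOfLe
      (le_sup_right : P ≤ E)).toEquiv]
    exact Subgroup.relIndex_dvd_card _ _
  have hEcard : Nat.card E = C.relIndex E * orderOf (h : G) := by
    rw [← Subgroup.index_mul_card (C.subgroupOf E),
      Nat.card_congr (Subgroup.subgroupOfEquivOfLe hCE).toEquiv, Nat.card_zpowers]
    rfl
  have hdvd : Nat.card E ∣ Nat.card H := by
    refine Nat.Coprime.dvd_of_dvd_mul_right ?_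
      (H.card_mul_index ▸ Subgroup.card_subgroup_dvd_card E)
    rw [hEcard]
    refine Nat.Coprime.mul_left ((hcop.coprime_dvd_left he).coprime_dvd_left hEidx) ?_
    exact hHall.coprime_dvd_left (by
      rw [Subgroup.orderOf_coe]
      exact orderOf_dvd_natCard h)
  have hEelem : Cfsg.IsElementary q E := by
    set a := (orderOf (h : G)).factorization q with ha
    have hxE : (h : G) ^ q ^ a ∈ E := pow_mem (hCE (Subgroup.mem_zpowers _)) _
    have hord : orderOf ((h : G) ^ q ^ a) = orderOf (h : G) / q ^ a := by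
      rw [orderOf_pow, Nat.gcd_eq_right (Nat.ordProj_dvd _ q)]
    refine ⟨⟨_, hxE⟩, Subgroup.mem_center_iff.2 fun y => Subtype.ext
      ((hEcent y y.2).pow_right _).eq, ?_, ?_⟩
    · rw [Subgroup.orderOf_mk, hord]
      exact (Nat.coprime_ordCompl hq (orderOf_pos (h : G)).ne').symm
    · obtain ⟨i, -, hi⟩ := (Nat.dvd_prime_pow hq).1
        (show (Subgroup.zpowers (⟨_, hxE⟩ : E)).index ∣ q ^ (e + a) by
          have h2 : (Subgroup.zpowers (⟨_, hxE⟩ : E)).index * (orderOf (h : G) / q ^ a) =
              C.relIndex E * orderOf (h : G) := by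
            rw [← hord, ← hEcard, ← Subgroup.index_mul_card (Subgroup.zpowers (⟨_, hxE⟩ : E)),
              Nat.card_zpowers, Subgroup.orderOf_mk]
          have h3 : (Subgroup.zpowers (⟨_, hxE⟩ : E)).index = C.relIndex E * q ^ a := by
            refine Nat.eq_of_mul_eq_mul_right
              (Nat.ordCompl_pos q (orderOf_pos (h : G)).ne') (h2.trans ?_)
            rw [mul_assoc, Nat.ordProj_mul_ordCompl_eq_self]
          rw [h3, pow_add]
          exact Nat.mul_dvd_mul_right hEidx _)
      exact ⟨i, hi⟩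
  obtain ⟨g, hg⟩ := helem E q hq hEelem hdvd
  have hmem : ∀ y ∈ E, g * y * g⁻¹ ∈ H := fun y hy => hg ⟨y, hy, rfl⟩
  have hh' := hmem _ (hCE (Subgroup.mem_zpowers (h : G)))
  obtain ⟨h₀, hh₀, heq⟩ := hfus _ h.2 _ hh' (isConj_iff.2 ⟨g, rfl⟩)
  set t := h₀⁻¹ * g with ht
  have htH : ∀ y ∈ E, t * y * t⁻¹ ∈ H := fun y hy => by
    have := H.mul_mem (H.mul_mem (H.inv_mem hh₀) (hmem y hy)) hh₀
    convert this using 1
    rw [ht]; group
  have hth : t * (h : G) * t⁻¹ = h := by
    calc t * (h : G) * t⁻¹ = h₀⁻¹ * (g * h * g⁻¹) * h₀ := by rw [ht]; group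
      _ = h₀⁻¹ * (h₀ * h * h₀⁻¹) * h₀ := by rw [heq]
      _ = h := by group
  let φ : P →* Subgroup.centralizer ({h} : Set H) :=
    (((MulAut.conj t).toMonoidHom.comp P.subtype).codRestrict H
      fun y => htH y (Subgroup.mem_sup_right y.2)).codRestrict _ fun y =>
        Subgroup.mem_centralizer_singleton_iff.2 (Subtype.ext (by
          have e := congrArg (fun z => t * z * t⁻¹) (hPh y y.2)
          have e1 : ∀ a b : G, t * (a * b) * t⁻¹ = t * a * t⁻¹ * (t * b * t⁻¹) := fun a b => by group
          simp only [e1, hth] at e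
          simpa using e))
  have hφ : Function.Injective φ := fun a b hab => by
    have := congrArg (fun z : Subgroup.centralizer ({h} : Set H) => ((z : H) : G)) hab
    exact Subtype.ext ((MulAut.conj t).injective this)
  rw [← hPcard]
  exact Subgroup.card_dvd_of_injective φ hφ

open Classical in
/-- The functions of `G` with the values of a class function of `H` on the sections. -/
theorem sum_section (hHall : Nat.Coprime (Nat.card H) H.index) (hfus : ControlsFusion H)
    (helem : ContainsElementary H) {k : ℕ} (hk0 : H.index ∣ k)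
    (hk1 : k ≡ 1 [MOD Nat.card H]) [Fintype H] {φ : H → ℂ} (hφ : Cfsg.IsClassFunction H φ)
    (F : G → ℂ) (hF : ∀ (x : G) (h : H), IsConj (h : G) (x ^ k) → F x = φ h) :
    (Nat.card H : ℂ) * ∑ x : G, F x = (Nat.card G : ℂ) * ∑ h : H, φ h := by
  have hmn : Nat.card G = H.index * Nat.card H := H.index_mul_card.symm
  let w : H → ℕ := fun h => Nat.card (Subgroup.centralizer ({h} : Set H))
  let S : H → ℕ := fun h => (Finset.univ.filter fun x : G => IsConj (h : G) (x ^ k)).card
  -- counting pairs
  have hdouble : ∀ ψ : H → ℂ, Cfsg.IsClassFunction H ψ → ∀ Ψ : G → ℂ,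
      (∀ (x : G) (h : H), IsConj (h : G) (x ^ k) → Ψ x = ψ h) →
      ∑ h : H, (S h : ℂ) * w h * ψ h = (Nat.card H : ℂ) * ∑ x : G, Ψ x := by
    intro ψ hψ Ψ hΨ
    have h1 : ∀ h : H, (S h : ℂ) * w h * ψ h =
        ∑ x : G, if IsConj (h : G) (x ^ k) then (w h : ℂ) * Ψ x else 0 := fun h => by
      rw [← Finset.sum_filter, Finset.sum_congr rfl (g := fun _ => (w h : ℂ) * ψ h)
        fun x hx => by rw [hΨ x h (Finset.mem_filter.1 hx).2], Finset.sum_const, nsmul_eq_mul]
      simp only [S]
      ring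
    rw [Finset.sum_congr rfl fun h _ => h1 h, Finset.sum_comm, Finset.mul_sum]
    refine Finset.sum_congr rfl fun x _ => ?_
    obtain ⟨h₀, hh₀⟩ := exists_conj_mem helem (SectionFun.orderOf_pow_dvd' hmn hk0 x)
    have hiff : ∀ h : H, IsConj (h : G) (x ^ k) ↔ IsConj h h₀ := fun h =>
      ⟨fun hc => by
        obtain ⟨a, ha, he⟩ := hfus _ h.2 _ h₀.2 (hc.trans hh₀.symm)
        exact isConj_iff.2 ⟨⟨a, ha⟩, Subtype.ext he⟩,
      fun hc => (H.subtype.map_isConj hc).trans hh₀⟩
    have hw : ∀ h : H, IsConj h h₀ → w h = w h₀ := fun h hc => by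
      have e1 := card_conjugates_eq_index h
      have e2 := card_conjugates_eq_index h₀
      have e3 : Nat.card {y : H // IsConj y h} = Nat.card {y : H // IsConj y h₀} :=
        Nat.card_congr (Equiv.subtypeEquivRight fun y =>
          ⟨fun hy => hy.trans hc, fun hy => hy.trans hc.symm⟩)
      have e4 := Subgroup.index_mul_card (Subgroup.centralizer ({h} : Set H))
      have e5 := Subgroup.index_mul_card (Subgroup.centralizer ({h₀} : Set H))
      rw [← e1, e3] at e4
      rw [← e2] at e5
      exact Nat.eq_of_mul_eq_mul_left (Nat.pos_of_ne_zero fun h0 => by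
        rw [h0, zero_mul] at e4
        exact Nat.card_pos.ne e4) (e4.trans e5.symm)
    rw [← Finset.sum_filter, Finset.sum_congr rfl (g := fun _ => (w h₀ : ℂ) * Ψ x)
      fun h hh => by rw [hw h ((hiff h).1 (Finset.mem_filter.1 hh).2)], Finset.sum_const,
      nsmul_eq_mul, ← mul_assoc]
    congr 1
    rw [← Nat.cast_mul, ← Subgroup.index_mul_card (Subgroup.centralizer ({h₀} : Set H)),
      ← card_conjugates_eq_index, ← Fintype.card_subtype, ← Nat.card_eq_fintype_card,
      Nat.card_congr (Equiv.subtypeEquivRight hiff)]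
  -- each section is large
  have hlarge : ∀ h : H, Nat.card G ≤ w h * S h := fun h => by
    have hint := SectionFun.section_integral hmn hHall.symm hk0 hk1 (h : G) (w h)
      (fun B hB hB' => card_dvd_centralizer hHall hfus helem h B hB hB')
      (fun x => if IsConj (h : G) (x ^ k) then (w h : ℂ) else 0) (fun x => rfl)
      (isCharacter_one (G := G))
    have h1 : Cfsg.classInner (fun x => if IsConj (h : G) (x ^ k) then (w h : ℂ) else 0)
        (fun _ : G => (1 : ℂ)) = ((w h * S h : ℕ) : ℂ) / (Nat.card G : ℂ) := by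
      simp only [Cfsg.classInner, map_one, mul_one, ← Finset.sum_filter, Finset.sum_const,
        nsmul_eq_mul, S]
      push_cast
      rw [div_eq_inv_mul]
      ring
    rw [h1] at hint
    refine Nat.le_of_dvd (Nat.mul_pos Nat.card_pos ?_) (dvd_of_isIntegral_div Nat.card_pos.ne' hint)
    refine Finset.card_pos.2 ⟨(h : G), Finset.mem_filter.2 ⟨Finset.mem_univ _, ?_⟩⟩
    rw [SectionFun.pow_eq_self_of_dvd hk1 (by
      rw [Subgroup.orderOf_coe]; exact orderOf_dvd_natCard h)]
  have htot : ∑ h : H, w h * S h = Nat.card H * Nat.card G := by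
    apply Nat.cast_injective (R := ℂ)
    have := hdouble (fun _ => 1) (fun _ _ => rfl) (fun _ => 1) (fun _ _ _ => rfl)
    push_cast
    simp only [mul_one, Finset.sum_const, Finset.card_univ, ← Nat.card_eq_fintype_card,
      nsmul_eq_mul] at this
    rw [← this]
    exact Finset.sum_congr rfl fun h _ => mul_comm _ _
  have heq : ∀ h : H, Nat.card G = w h * S h := fun h =>
    (Finset.sum_eq_sum_iff_of_le fun a _ => hlarge a).1 (by
      rw [htot, Finset.sum_const, Finset.card_univ, ← Nat.card_eq_fintype_card, smul_eq_mul])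
      h (Finset.mem_univ h)
  rw [← hdouble φ hφ F hF, Finset.mul_sum]
  refine Finset.sum_congr rfl fun h _ => ?_
  rw [heq h]
  push_cast
  ring

/-- The extension of an irreducible character of `H` along the sections. -/
theorem exists_extension (hHall : Nat.Coprime (Nat.card H) H.index) (hfus : ControlsFusion H)
    (helem : ContainsElementary H) {k : ℕ} (hk0 : H.index ∣ k) (hk1 : k ≡ 1 [MOD Nat.card H])
    {θ : H → ℂ} (hθ : Cfsg.IsIrrCharacter H θ) :
    ∃ χ : G → ℂ, Cfsg.IsIrrCharacter G χ ∧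
      ∀ (x : G) (h : H), IsConj (h : G) (x ^ k) → χ x = θ h := by
  classical
  haveI := Fintype.ofFinite H
  have hmn : Nat.card G = H.index * Nat.card H := H.index_mul_card.symm
  choose r hr using fun x : G => exists_conj_mem helem (SectionFun.orderOf_pow_dvd' hmn hk0 x)
  let χ : G → ℂ := fun x => θ (r x)
  have hval : ∀ (x : G) (h : H), IsConj (h : G) (x ^ k) → χ x = θ h := fun x h hc => by
    obtain ⟨a, ha, he⟩ := hfus _ h.2 _ (r x).2 (hc.trans (hr x).symm)
    exact classFunction_isConj (isClassFunction_of_isIrr hθ)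
      (isConj_iff.2 ⟨⟨a, ha⟩, Subtype.ext he⟩ : IsConj h (r x)).symm
  have hcl : Cfsg.IsClassFunction G χ := fun x g => by
    refine hval _ _ ?_
    rw [conj_pow]
    exact (hr x).trans (isConj_iff.2 ⟨g, rfl⟩)
  have hgen : Cfsg.IsGeneralizedCharacter G χ := by
    refine isGen_of_elementary hcl fun E p hp hE => ?_
    obtain ⟨f, hf⟩ := SectionFun.exists_powHom hp hE
      (hmn ▸ Subgroup.card_subgroup_dvd_card E) hHall.symm hk0 hk1
    set R : Subgroup G := f.range.map E.subtype with hR
    have hRE : Cfsg.IsElementary p R := isElementary_of_mulEquiv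
      (Subgroup.equivMapOfInjective f.range E.subtype E.subtype_injective)
      (isElementary_of_surjective hp f.rangeRestrict f.rangeRestrict_surjective hE)
    have hRcard : Nat.card R ∣ Nat.card H := by
      refine Nat.Coprime.dvd_of_dvd_mul_left ?_ (hmn ▸ Subgroup.card_subgroup_dvd_card R)
      refine Nat.coprime_of_dvd fun q hq hqR hqm => ?_
      haveI := Fact.mk hq
      obtain ⟨⟨y, z, ⟨e, rfl⟩, rfl⟩, hy⟩ := exists_prime_orderOf_dvd_card' q hqR
      have h1 : orderOf (E.subtype (f e)) ∣ Nat.card H := by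
        rw [hf, map_pow]
        exact SectionFun.orderOf_pow_dvd' hmn hk0 _
      rw [← Subgroup.orderOf_coe] at hy
      change orderOf (E.subtype (f e)) = q at hy
      rw [hy] at h1
      exact hq.ne_one (Nat.eq_one_of_dvd_coprimes hHall h1 hqm)
    obtain ⟨g, hg⟩ := helem R p hp hRE hRcard
    let ι : E →* H := ((MulAut.conj g).toMonoidHom.comp (E.subtype.comp f)).codRestrict H
      fun e => hg ⟨_, ⟨f e, ⟨e, rfl⟩, rfl⟩, rfl⟩
    have : (fun e : E => χ e) = fun e => θ (ι e) := funext fun e => hval _ _ (by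
      refine (isConj_iff.2 ⟨g, rfl⟩ : IsConj ((E.subtype.comp f) e) _).symm.trans ?_
      rw [MonoidHom.comp_apply, hf, map_pow]
      rfl)
    rw [this]
    exact isGen_of_isCharacter (isCharacter_comp ι (isCharacter_of_isIrr hθ))
  have hnorm : Cfsg.classInner χ χ = 1 := by
    have h1 := sum_section hHall hfus helem hk0 hk1
      (φ := fun h => θ h * conj (θ h))
      (fun a b => by simp only [isClassFunction_of_isIrr hθ a b])
      (fun x => χ x * conj (χ x)) fun x h hc => by rw [hval x h hc]
    have h2 := classInner_isIrr_self hθ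
    rw [Cfsg.classInner, inv_mul_eq_one₀ natCard_ne_zero] at h2
    rw [← h2, mul_comm (Nat.card G : ℂ)] at h1
    rw [Cfsg.classInner, inv_mul_eq_one₀ natCard_ne_zero]
    exact (mul_left_cancel₀ natCard_ne_zero h1).symm
  have h1 : χ 1 = θ 1 := hval 1 1 (by rw [one_pow, OneMemClass.coe_one])
  obtain ⟨d, hd0, hd⟩ := exists_degree_pos hθ
  refine ⟨χ, isIrr_of_gen_norm_one hgen hnorm ?_, hval⟩
  rw [h1, hd]
  simp

/-- The normal complement. -/
theorem exists_normal_complement (hHall : Nat.Coprime (Nat.card H) H.index)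
    (hfus : ControlsFusion H) (helem : ContainsElementary H) :
    ∃ K : Subgroup G, K.Normal ∧ K ⊔ H = ⊤ ∧ K ⊓ H = ⊥ := by
  classical
  obtain ⟨⟨k, hk0', hk1⟩⟩ : Nonempty { k // k ≡ 0 [MOD H.index] ∧ k ≡ 1 [MOD Nat.card H] } :=
    ⟨Nat.chineseRemainder hHall.symm 0 1⟩
  have hk0 : H.index ∣ k := Nat.modEq_zero_iff_dvd.1 hk0'
  choose χ hχ hval using fun θ : Cfsg.IrrCharacter H =>
    exists_extension hHall hfus helem hk0 hk1 θ.2
  choose d R hR hRχ using hχ
  let K : Subgroup G := ⨅ θ, MonoidHom.ker (R θ)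
  have hone : ∀ x : G, x ^ k = 1 → x ∈ K := fun x hx => by
    refine Subgroup.mem_iInf.2 fun θ => MonoidHom.mem_ker.2 ((char_eq_finrank_iff (R θ) x).1 ?_)
    rw [← (R θ).char_one, hRχ θ, hval θ x 1 (by rw [hx, OneMemClass.coe_one]),
      hval θ 1 1 (by rw [one_pow, OneMemClass.coe_one])]
  have hinf : K ⊓ H = ⊥ := by
    rw [eq_bot_iff]
    intro x hx
    obtain ⟨hxK, hxH⟩ := Subgroup.mem_inf.1 hx
    haveI := Fintype.ofFinite H
    have h1 : IsConj (⟨x, hxH⟩ : H) 1 := by
      refine isConj_of_irr_eq fun θ => ?_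
      have h2 := MonoidHom.mem_ker.1 (Subgroup.mem_iInf.1 hxK θ)
      have h3 : χ θ x = χ θ 1 := by
        rw [← hRχ θ]
        simp only [Representation.character, h2, map_one]
      rwa [hval θ x ⟨x, hxH⟩ (by rw [SectionFun.pow_eq_self_of_dvd hk1
          (show orderOf x ∣ Nat.card H by
            rw [← Subgroup.orderOf_mk x hxH]; exact orderOf_dvd_natCard _)]),
        hval θ 1 1 (by rw [one_pow, OneMemClass.coe_one])] at h3
    exact Subgroup.mem_bot.2 (congrArg Subtype.val (isConj_one_left.1 h1))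
  have hidx : H.index ∣ Nat.card K := by
    refine (Nat.dvd_iff_prime_pow_dvd_dvd _ _).2 fun q e hq he => ?_
    haveI := Fact.mk hq
    obtain ⟨S, hS⟩ := Sylow.exists_subgroup_card_pow_prime q (he.trans H.index_dvd_card)
    rw [← hS]
    refine Subgroup.card_dvd_of_le fun y hy => hone y ?_
    refine SectionFun.pow_eq_one_of_dvd hk0 (dvd_trans ?_ he)
    rw [← hS]
    exact Subgroup.orderOf_dvd_natCard S hy
  have hKn : K.Normal := ⟨fun x hx g => Subgroup.mem_iInf.2 fun θ =>
    (inferInstance : (MonoidHom.ker (R θ)).Normal).conj_mem x (Subgroup.mem_iInf.1 hx θ) g⟩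
  refine ⟨K, hKn, ?_, hinf⟩
  apply Subgroup.eq_top_of_card_eq
  refine Nat.dvd_antisymm (Subgroup.card_subgroup_dvd_card _) ?_
  rw [← H.index_mul_card]
  have hc : Nat.Coprime H.index (Nat.card H) := hHall.symm
  exact hc.mul_dvd_of_dvd_of_dvd (hidx.trans (Subgroup.card_dvd_of_le le_sup_left))
    (Subgroup.card_dvd_of_le le_sup_right)

end CfsgLib.CharactersDeep.NormalComplement
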