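import Cfsg.Agent.CharactersDeep.Clifford
import Cfsg.Agent.Characters.Linear
import Cfsg.Agent.Characters.Integrality
import Cfsg.Agent.GaloisAverage.Ito
import Mathlib.GroupTheory.SpecificGroups.Cyclic
import Mathlib.RingTheory.IntegralDomain

/-!
# All character degrees powers of one prime
-/

set_option autoImplicit false
set_option linter.style.haveILetI false

namespace CfsgLib.CharactersDeep.PrimePowerDegrees

open CfsgLib.Characters CfsgLib.OddOrderChar CfsgLib.CharactersDeep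

universe u

variable {G : Type u} [Group G] [Fintype G]

/-- When all irreducible characters are linear the group is abelian. -/
theorem comm_of_linear (h : ∀ χ : Cfsg.IrrCharacter G, (χ : G → ℂ) 1 = 1) (a b : G) :
    a * b = b * a := by
  have h1 : IsConj (a * b * a⁻¹ * b⁻¹) 1 := isConj_of_irr_eq fun χ => by
    obtain ⟨f, hf⟩ := exists_hom_of_degree_one (isCharacter_of_isIrr χ.2) (h χ)
    rw [hf]
    simp only [map_mul, map_inv, map_one]
    rw [mul_comm (f a) (f b), mul_inv_cancel_right, mul_inv_cancel]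
  have h2 := isConj_one_left.1 h1
  rw [mul_inv_eq_one, mul_inv_eq_iff_eq_mul] at h2
  exact h2

/-- An abelian normal subgroup of index a power of `p` forces `p`-power degrees. -/
theorem degrees_of_abelian {p : ℕ} (hp : p.Prime) (A : Subgroup G) [A.Normal]
    (hA : ∀ a ∈ A, ∀ b ∈ A, a * b = b * a) {k : ℕ} (hk : A.index = p ^ k)
    (χ : Cfsg.IrrCharacter G) : ∃ j : ℕ, (χ : G → ℂ) 1 = (p : ℂ) ^ j := by
  obtain ⟨d, hd, hdvd⟩ := CfsgLib.GaloisAverage.exists_degree_dvd_index χ.2 A hA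
  obtain ⟨j, -, rfl⟩ := (Nat.dvd_prime_pow hp).1 (hk ▸ hdvd)
  exact ⟨j, by rw [hd, Nat.cast_pow]⟩

/-- The degrees of a normal subgroup divide degrees of the group. -/
theorem degrees_normal {p : ℕ} (hp : p.Prime)
    (h : ∀ χ : Cfsg.IrrCharacter G, ∃ k : ℕ, (χ : G → ℂ) 1 = (p : ℂ) ^ k) (N : Subgroup G)
    [N.Normal] [Fintype N] (θ : Cfsg.IrrCharacter N) : ∃ k : ℕ, (θ : N → ℂ) 1 = (p : ℂ) ^ k := by
  classical
  obtain ⟨χ, hχ, hne⟩ := Clifford.exists_over N θ.2
  obtain ⟨k, hk⟩ := h ⟨χ, hχ⟩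
  obtain ⟨d, hd⟩ := exists_degree (isCharacter_of_isIrr θ.2)
  obtain ⟨e, he⟩ := classInner_character_irr
    (isCharacter_restrict N (isCharacter_of_isIrr hχ)) θ.2
  have h1 := congrFun (Clifford.restrict_eq_orbit_sum N hχ θ.2 hne) 1
  simp only [OneMemClass.coe_one, Pi.smul_apply, Finset.sum_apply, smul_eq_mul, he] at h1
  rw [Finset.sum_congr rfl (g := fun _ => (θ : N → ℂ) 1) fun φ hφ => ?_, Finset.sum_const,
    nsmul_eq_mul, hd] at h1
  swap
  · obtain ⟨g, rfl⟩ := (Clifford.mem_orbit N).1 hφ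
    exact congrArg (θ : N → ℂ) (Subtype.ext (by simp))
  have h2 : p ^ k = e * ((Clifford.orbit N (θ : N → ℂ)).card * d) := by
    apply Nat.cast_injective (R := ℂ)
    push_cast
    rw [← hk]
    exact h1
  obtain ⟨j, -, rfl⟩ := (Nat.dvd_prime_pow hp).1
    (show d ∣ p ^ k from h2 ▸ Dvd.dvd.mul_left (dvd_mul_left _ _) _)
  exact ⟨j, by rw [hd, Nat.cast_pow]⟩

/-- Some normal subgroup has index `p`. -/
theorem exists_normal_index {p : ℕ} (hp : p.Prime)
    (h : ∀ χ : Cfsg.IrrCharacter G, ∃ k : ℕ, (χ : G → ℂ) 1 = (p : ℂ) ^ k)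
    (hdvd : p ∣ Nat.card G) : ∃ N : Subgroup G, N.Normal ∧ N.index = p := by
  classical
  haveI := Fact.mk hp
  choose k hk using h
  have hsum : ∑ χ : Cfsg.IrrCharacter G, p ^ (2 * k χ) = Nat.card G := by
    apply Nat.cast_injective (R := ℂ)
    rw [← sum_degree_sq]
    push_cast
    exact Finset.sum_congr rfl fun χ _ => by rw [hk, ← pow_mul, mul_comm]
  have hlin : ∀ χ : Cfsg.IrrCharacter G, k χ = 0 ↔ (χ : G → ℂ) 1 = 1 := fun χ => by
    rw [hk]
    refine ⟨fun h0 => by rw [h0, pow_zero], fun h1 => ?_⟩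
    have h2 : p ^ k χ = 1 := by exact_mod_cast h1
    exact (pow_eq_one_iff.1 h2).resolve_left hp.ne_one
  rw [← Finset.sum_filter_add_sum_filter_not Finset.univ (fun χ => k χ = 0)] at hsum
  have h2 : p ∣ ∑ χ ∈ Finset.univ.filter (fun χ => ¬ k χ = 0), p ^ (2 * k χ) :=
    Finset.dvd_sum fun χ hχ => dvd_pow_self p (by
      have := (Finset.mem_filter.1 hχ).2
      omega)
  have h3 : ∑ χ ∈ Finset.univ.filter (fun χ => k χ = 0), p ^ (2 * k χ) =
      (commutator G).index := by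
    rw [Finset.sum_congr rfl (g := fun _ => 1) fun χ hχ => by
      rw [(Finset.mem_filter.1 hχ).2, mul_zero, pow_zero], ← card_linear_char,
      Finset.sum_const, smul_eq_mul, mul_one, Nat.card_eq_fintype_card, Fintype.card_subtype]
    exact congrArg Finset.card (Finset.filter_congr fun χ _ => hlin χ)
  have h4 : p ∣ (commutator G).index := by
    rw [← h3]
    exact (Nat.dvd_add_left h2).1 (hsum ▸ hdvd)
  haveI : Finite (Abelianization G) := Quotient.finite _
  obtain ⟨f, hf⟩ : ∃ f : G →* ℂˣ, orderOf f = p := by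
    have hc : Nat.card (G →* ℂˣ) = (commutator G).index := by
      rw [Nat.card_congr (linearCharEquiv (G := G)), card_linear_char]
    haveI : Finite (G →* ℂˣ) := Nat.finite_of_card_ne_zero (by
      rw [hc]; exact Subgroup.index_ne_zero_of_finite)
    exact exists_prime_orderOf_dvd_card' p (hc ▸ h4)
  refine ⟨f.ker, inferInstance, ?_⟩
  rw [Subgroup.index_ker]
  haveI : Finite f.range := Finite.of_surjective f.rangeRestrict f.rangeRestrict_surjective
  haveI : IsCyclic f.range := isCyclic_of_subgroup_isDomain ((Units.coeHom ℂ).comp f.range.subtype)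
    fun a b hab => Subtype.ext (Units.ext hab)
  obtain ⟨c, hc⟩ := IsCyclic.exists_generator (α := f.range)
  rw [← orderOf_eq_card_of_forall_mem_zpowers hc]
  refine orderOf_eq_prime ?_ ?_
  · obtain ⟨⟨x, y, rfl⟩, hxy⟩ : ∃ d : f.range, d = c := ⟨c, rfl⟩
    subst hxy
    refine Subtype.ext ?_
    show f y ^ p = 1
    rw [← MonoidHom.pow_apply, ← hf, pow_orderOf_eq_one, MonoidHom.one_apply]
  · intro hc1
    have hf1 : f = 1 := MonoidHom.ext fun y => by
      obtain ⟨i, hi⟩ := Subgroup.mem_zpowers_iff.1 (hc ⟨f y, y, rfl⟩)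
      rw [hc1, one_zpow] at hi
      exact (congrArg Subtype.val hi).symm
    rw [hf1, orderOf_one] at hf
    exact hp.ne_one hf.symm

/-- The abelian normal `p`-complement. -/
theorem exists_complement_aux {p : ℕ} (hp : p.Prime) (n : ℕ) :
    ∀ (G : Type u) [Group G] [Fintype G], Nat.card G = n →
      (∀ χ : Cfsg.IrrCharacter G, ∃ k : ℕ, (χ : G → ℂ) 1 = (p : ℂ) ^ k) →
      ∃ A : Subgroup G, A.Normal ∧ (∀ a ∈ A, ∀ b ∈ A, a * b = b * a) ∧
        Nat.Coprime (Nat.card A) p ∧ ∃ k : ℕ, A.index = p ^ k := by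
  induction n using Nat.strong_induction_on with
  | _ n ih =>
  intro G _ _ hn h
  classical
  by_cases hdvd : p ∣ Nat.card G
  swap
  · refine ⟨⊤, inferInstance, fun a _ b _ => comm_of_linear (fun χ => ?_) a b, ?_, 0, by simp⟩
    · obtain ⟨k, hk⟩ := h χ
      obtain ⟨d, ρ, hρ, hχ⟩ := χ.2
      haveI := hρ
      have h1 := finrank_dvd_card ρ
      rw [← hχ, Representation.char_one] at hk ⊢
      rw [Nat.cast_inj.1 (hk.trans (Nat.cast_pow p k).symm)] at h1 ⊢
      rcases Nat.eq_zero_or_pos k with h0 | h0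
      · simp [h0]
      · exact absurd ((dvd_pow_self p h0.ne').trans h1) hdvd
    · rw [Subgroup.card_top]
      exact (hp.coprime_iff_not_dvd.2 hdvd).symm
  obtain ⟨N, hN, hidx⟩ := exists_normal_index hp h hdvd
  haveI := hN
  haveI := Fintype.ofFinite N
  obtain ⟨A, hA, hab, hcop, k, hk⟩ := ih (Nat.card N) (by
    rw [← hn, ← Subgroup.index_mul_card N, hidx]
    exact (lt_mul_iff_one_lt_left Nat.card_pos).2 hp.one_lt) N rfl (degrees_normal hp h N)
  haveI := hA
  -- `A` consists of the elements of `N` of order prime to `p`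
  have hchar : ∀ x : N, x ∈ A ↔ Nat.Coprime (orderOf x) p := fun x => by
    refine ⟨fun hx => hcop.coprime_dvd_left (Subgroup.orderOf_dvd_natCard A hx), fun hx => ?_⟩
    have h1 : orderOf (x : N ⧸ A) ∣ p ^ k := hk ▸ (A.index_eq_card ▸ orderOf_dvd_natCard _)
    have h2 : Nat.Coprime (orderOf (x : N ⧸ A)) (p ^ k) :=
      (hx.pow_right k).coprime_dvd_left (orderOf_map_dvd (QuotientGroup.mk' A) x)
    exact (QuotientGroup.eq_one_iff x).1 (orderOf_eq_one_iff.1
      (Nat.eq_one_of_dvd_coprimes h2 dvd_rfl h1))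
  refine ⟨A.map N.subtype, ⟨?_⟩, ?_, ?_, k + 1, ?_⟩
  · rintro _ ⟨x, hx, rfl⟩ g
    refine ⟨⟨g * x * g⁻¹, hN.conj_mem x x.2 g⟩, (hchar _).2 ?_, rfl⟩
    have h1 : orderOf (⟨g * x * g⁻¹, hN.conj_mem x x.2 g⟩ : N) = orderOf x := by
      rw [Subgroup.orderOf_mk, ← Subgroup.orderOf_coe x]
      exact MulEquiv.orderOf_eq (MulAut.conj g) (x : G)
    rw [h1]
    exact (hchar x).1 hx
  · rintro _ ⟨a, ha, rfl⟩ _ ⟨b, hb, rfl⟩
    rw [← map_mul, ← map_mul, hab a ha b hb]
  · rwa [Subgroup.card_map_of_injective N.subtype_injective]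
  · rw [Subgroup.index_map_subtype, hk, hidx, pow_succ]

/-- Degrees are powers of `p` exactly when there is an abelian normal `p`-complement. -/
theorem degrees_iff {p : ℕ} (hp : p.Prime) :
    (∀ χ : Cfsg.IrrCharacter G, ∃ k : ℕ, (χ : G → ℂ) 1 = (p : ℂ) ^ k) ↔
      ∃ A : Subgroup G, A.Normal ∧ (∀ a ∈ A, ∀ b ∈ A, a * b = b * a) ∧
        Nat.Coprime (Nat.card A) p ∧ ∃ k : ℕ, A.index = p ^ k := by
  refine ⟨exists_complement_aux hp _ G rfl, ?_⟩
  rintro ⟨A, hA, hab, -, k, hk⟩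
  haveI := hA
  exact degrees_of_abelian hp A hab hk

end CfsgLib.CharactersDeep.PrimePowerDegrees
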