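import Cfsg.Agent.CharactersDeep.Extension
import Cfsg.Agent.CharactersDeep.Gallagher
import Cfsg.Agent.CharactersDeep.LinearChar

/-!
# Criteria for extending invariant irreducible characters

Character-level forms of the results of `Cfsg.Agent.CharactersDeep.Extension`: cyclic quotient,
determinant with coprime degree, Sylow preimages; uniqueness up to linear characters; and the
divisibility of the degree ratio by the index.
-/

set_option autoImplicit false
set_option linter.style.haveILetI false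
set_option linter.unusedSectionVars false

namespace CfsgLib.CharactersDeep.ExtensionCriteria

open CfsgLib.Characters CfsgLib.OddOrderChar CfsgLib.CharactersDeep

universe u

variable {G : Type u} [Group G] [Finite G] (N : Subgroup G) [hN : N.Normal]

theorem hinv_rep {θ : N → ℂ} (hinv : ∀ (g : G) (n : N), θ ⟨g * n * g⁻¹, hN.conj_mem n n.2 g⟩ = θ n)
    (g : G) (n : N) : θ (MulAut.conjNormal g n) = θ n := by
  rw [← hinv g n]
  exact congrArg θ (Subtype.ext (MulAut.conjNormal_apply g n))

/-- A representation of `G` restricting to an irreducible one affords an irreducible character. -/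
theorem isIrr_of_rep {d : ℕ} {ρ : Representation ℂ N (Fin d → ℂ)} [ρ.IsIrreducible]
    (R : Representation ℂ G (Fin d → ℂ)) (hR : ∀ n : N, R n = ρ n) :
    Cfsg.IsIrrCharacter G R.character ∧ ∀ n : N, R.character n = ρ.character n := by
  haveI := nontrivial_of_isIrreducible ρ
  haveI : R.IsIrreducible := by
    refine isIrreducible_of_forall R fun U hU => ?_
    have h := IsSimpleOrder.eq_bot_or_eq_top (⟨U, fun n x hx => by
      rw [← hR]; exact hU _ x hx⟩ : Subrepresentation ρ)
    exact h.imp (congrArg Subrepresentation.toSubmodule) (congrArg Subrepresentation.toSubmodule)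
  exact ⟨isIrrCharacter_character R, fun n => congrArg (LinearMap.trace ℂ _) (hR n)⟩

variable {θ : N → ℂ}

theorem detChar_invariant (hθ : Cfsg.IsIrrCharacter N θ)
    (hinv : ∀ (g : G) (n : N), θ ⟨g * n * g⁻¹, hN.conj_mem n n.2 g⟩ = θ n) (g : G) (n : N) :
    Cfsg.detChar θ ⟨g * n * g⁻¹, hN.conj_mem n n.2 g⟩ = Cfsg.detChar θ n := by
  obtain ⟨d, ρ, hρ, rfl⟩ := hθ
  have h1 : ρ.character = Representation.character (ρ.comp (MulAut.conjNormal (H := N) g).toMonoidHom) :=
    funext fun m => (hinv_rep N hinv g m).symm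
  conv_rhs => rw [h1, LinearChar.detChar_eq]
  rw [LinearChar.detChar_eq]
  congr 2

/-- A cyclic quotient: every invariant irreducible character extends. -/
theorem extends_of_cyclic (hθ : Cfsg.IsIrrCharacter N θ)
    (hinv : ∀ (g : G) (n : N), θ ⟨g * n * g⁻¹, hN.conj_mem n n.2 g⟩ = θ n)
    (hcyc : IsCyclic (G ⧸ N)) :
    ∃ χ : G → ℂ, Cfsg.IsIrrCharacter G χ ∧ ∀ n : N, χ n = θ n := by
  obtain ⟨d, ρ, hρ, rfl⟩ := hθ
  obtain ⟨μ, hμ⟩ := Extension.extends_of_cyclic N ρ hcyc
  obtain ⟨R, hR⟩ := Extension.extends_of_hom N ρ (Extension.proj_surjective N ρ (hinv_rep N hinv)) μ hμ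
  exact ⟨_, isIrr_of_rep N R hR⟩

/-- Coprime degree: extends when the determinant does. -/
theorem extends_of_det (hθ : Cfsg.IsIrrCharacter N θ)
    (hinv : ∀ (g : G) (n : N), θ ⟨g * n * g⁻¹, hN.conj_mem n n.2 g⟩ = θ n) {d : ℕ}
    (hd : θ 1 = d) (hcop : Nat.Coprime N.index d) (μ : G →* ℂˣ)
    (hμ : ∀ n : N, (μ n : ℂ) = Cfsg.detChar θ n) :
    ∃ χ : G → ℂ, Cfsg.IsIrrCharacter G χ ∧ ∀ n : N, χ n = θ n := by
  obtain ⟨e, ρ, hρ, rfl⟩ := hθ
  have he : e = d := by
    rw [Representation.char_one, Module.finrank_fin_fun] at hd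
    exact_mod_cast hd
  subst he
  have hsurj := Extension.proj_surjective N ρ (hinv_rep N hinv)
  haveI := Extension.finite_gam N ρ
  obtain ⟨ν, hν⟩ := TransferExtend.exists_extend_of_coprime (Extension.base N ρ)
    (Extension.lam N ρ) hcop (Extension.exponent_index_self N ρ hsurj)
    (Extension.exponent_det N ρ μ fun n => by rw [hμ, LinearChar.detChar_eq])
  obtain ⟨R, hR⟩ := Extension.extends_of_hom N ρ hsurj ν hν
  exact ⟨_, isIrr_of_rep N R hR⟩

/-- Extends when it extends to subgroups of index prime to each prime. -/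
theorem extends_of_sylow (hθ : Cfsg.IsIrrCharacter N θ)
    (hinv : ∀ (g : G) (n : N), θ ⟨g * n * g⁻¹, hN.conj_mem n n.2 g⟩ = θ n)
    (h : ∀ p : ℕ, p.Prime → ∃ (P : Subgroup G) (hNP : N ≤ P) (η : P → ℂ), ¬ p ∣ P.index ∧
      Cfsg.IsCharacter P η ∧ ∀ n : N, η ⟨n, hNP n.2⟩ = θ n) :
    ∃ χ : G → ℂ, Cfsg.IsIrrCharacter G χ ∧ ∀ n : N, χ n = θ n := by
  obtain ⟨d, ρ, hρ, rfl⟩ := hθ
  have hsurj := Extension.proj_surjective N ρ (hinv_rep N hinv)
  obtain ⟨ν, hν⟩ := TransferExtend.exists_extend_of_exponents (Extension.base N ρ)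
    (Extension.lam N ρ) fun p hp => by
      obtain ⟨P, hNP, η, hp', hη, hres⟩ := h p hp
      obtain ⟨R, -, hR⟩ := Extension.exists_rep_exact ρ (Subgroup.inclusion hNP) hη hres
      exact ⟨P.index, hp', Extension.exponent_index N ρ hsurj P hNP R hR⟩
  obtain ⟨R, hR⟩ := Extension.extends_of_hom N ρ hsurj ν hν
  exact ⟨_, isIrr_of_rep N R hR⟩

/-- For invariant `θ` the ramification divides the index. -/
theorem ramification_dvd_index [Fintype G] [Fintype N] (hθ : Cfsg.IsIrrCharacter N θ)
    (hinv : ∀ (g : G) (n : N), θ ⟨g * n * g⁻¹, hN.conj_mem n n.2 g⟩ = θ n) {χ : G → ℂ}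
    (hχ : Cfsg.IsIrrCharacter G χ) {e : ℕ} (he0 : 0 < e)
    (he : (fun n : N => χ n) = (e : ℂ) • θ) : e ∣ N.index := by
  obtain ⟨d, ρ, hρ, rfl⟩ := hθ
  have hsurj := Extension.proj_surjective N ρ (hinv_rep N hinv)
  haveI := Extension.finite_gam N ρ
  haveI : Fintype (Extension.Gam N ρ) := Fintype.ofFinite _
  let N' : Subgroup (Extension.Gam N ρ) := (Extension.emb N ρ).range
  haveI : N'.Normal := by
    constructor
    rintro _ ⟨n, rfl⟩ γ
    refine ⟨MulAut.conjNormal (Extension.proj N ρ γ) n, Extension.ext_gam N ρ ?_ ?_⟩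
    · simp [Extension.proj_emb, MulAut.conjNormal_apply]
    · rw [Extension.op_emb, map_mul, map_mul, Extension.op_emb,
        Extension.op_intertwines, mul_assoc, ← map_mul (Extension.op N ρ), mul_inv_cancel, map_one,
        mul_one]
  haveI : Fintype N' := Fintype.ofFinite _
  have hinj : Function.Injective (Extension.emb N ρ) := fun a b hab =>
    Subtype.ext (by simpa [Extension.proj_emb] using congrArg (Extension.proj N ρ) hab)
  let E : N ≃* N' := MonoidHom.ofInjective hinj
  let φ : Extension.Gam N ρ → ℂ := (Extension.op N ρ).character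
  have hφE : ∀ n : N, φ (E n) = ρ.character n := fun n =>
    congrArg (LinearMap.trace ℂ _) (Extension.op_emb N ρ n)
  have hθ' : Cfsg.IsIrrCharacter N' fun x : N' => φ x := by
    have h := isIrr_comp E.symm.toMonoidHom E.symm.surjective (isIrrCharacter_character ρ)
    convert h using 2 with x
    obtain ⟨n, rfl⟩ := E.surjective x
    simp [hφE]
  haveI : (Extension.op N ρ).IsIrreducible := by
    haveI := nontrivial_of_isIrreducible ρ
    refine isIrreducible_of_forall _ fun U hU => ?_
    have h := IsSimpleOrder.eq_bot_or_eq_top (⟨U, fun n x hx => by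
      rw [← Extension.op_emb]; exact hU _ x hx⟩ : Subrepresentation ρ)
    exact h.imp (congrArg Subrepresentation.toSubmodule) (congrArg Subrepresentation.toSubmodule)
  have hφ : Cfsg.IsIrrCharacter (Extension.Gam N ρ) φ := isIrrCharacter_character _
  let ψ : Extension.Gam N ρ → ℂ := fun γ => χ (Extension.proj N ρ γ)
  have hψ : Cfsg.IsIrrCharacter (Extension.Gam N ρ) ψ := isIrr_comp _ hsurj hχ
  have hres : (fun x : N' => ψ x) = (e : ℂ) • fun x : N' => φ x := by
    funext x
    obtain ⟨n, rfl⟩ := E.surjective x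
    have := congrFun he n
    simp only [Pi.smul_apply] at this ⊢
    rw [hφE, ← this]
    exact congrArg χ (Extension.proj_emb N ρ n)
  have hne : Cfsg.classInner (fun x : N' => ψ x) (fun x : N' => φ x) = (e : ℂ) := by
    rw [hres, classInner_smul_left, classInner_isIrr_self hθ', mul_one]
  obtain ⟨β, hβ, hψβ⟩ := Gallagher.exists_eq_prodInfl N' hφ hθ' hψ
    (by rw [hne]; exact_mod_cast he0.ne')
  rw [hψβ, Gallagher.classInner_restrict_prodInfl N' hφ hθ'] at hne
  obtain ⟨m, σ, hσ, rfl⟩ := hβ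
  haveI := hσ
  haveI : Fintype (Extension.Gam N ρ ⧸ N') := Fintype.ofFinite _
  have hdvd := finrank_dvd_center_index σ
  rw [Representation.char_one] at hne
  rw [Nat.cast_injective hne] at hdvd
  refine hdvd.trans ?_
  -- the kernel of the projection gives central elements of the quotient
  have hle : (Extension.proj N ρ).ker.map (QuotientGroup.mk' N') ≤ Subgroup.center _ := by
    rintro _ ⟨z, hz, rfl⟩
    rw [Subgroup.mem_center_iff]
    intro y
    obtain ⟨γ, rfl⟩ := QuotientGroup.mk_surjective y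
    rw [QuotientGroup.mk'_apply, ← QuotientGroup.mk_mul, ← QuotientGroup.mk_mul,
      Subgroup.mem_center_iff.1 (Extension.ker_le_center N ρ hz) γ]
  refine (Subgroup.index_dvd_of_le hle).trans (dvd_of_eq ?_)
  rw [← Subgroup.index_comap_of_surjective _ (QuotientGroup.mk'_surjective N'),
    Subgroup.comap_map_eq, QuotientGroup.ker_mk', ← Subgroup.index_comap_of_surjective N hsurj]
  congr 1
  refine le_antisymm (sup_le (Subgroup.comap_mono bot_le) ?_) fun γ hγ => ?_
  · rintro _ ⟨n, rfl⟩
    exact n.2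
  · rw [← mul_inv_cancel_left (Extension.emb N ρ ⟨_, Subgroup.mem_comap.1 hγ⟩) γ]
    refine mul_mem (Subgroup.mem_sup_right ⟨_, rfl⟩) (Subgroup.mem_sup_left ?_)
    rw [MonoidHom.mem_ker, map_mul, map_inv, Extension.proj_emb, inv_mul_cancel]

/-- Two extensions differ by a linear character trivial on `N`. -/
theorem exists_twist [Fintype G] [Fintype N] {χ χ' : G → ℂ} (hχ : Cfsg.IsIrrCharacter G χ)
    (hχ' : Cfsg.IsIrrCharacter G χ') (hθ : Cfsg.IsIrrCharacter N θ) (h : ∀ n : N, χ n = θ n)
    (h' : ∀ n : N, χ' n = θ n) :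
    ∃ ν : G →* ℂˣ, (∀ n : N, ν n = 1) ∧ χ' = fun g => (ν g : ℂ) * χ g := by
  have hres : (fun n : N => χ n) = θ := funext h
  have hres' : (fun n : N => χ' n) = θ := funext h'
  have hθ' : Cfsg.IsIrrCharacter N fun n : N => χ n := hres.symm ▸ hθ
  have hone : Cfsg.classInner (fun n : N => χ' n) (fun n : N => χ n) = 1 := by
    rw [hres, hres', classInner_isIrr_self hθ]
  obtain ⟨β, hβ, heq⟩ := Gallagher.exists_eq_prodInfl N hχ hθ' hχ'
    (by rw [hone]; exact one_ne_zero)
  rw [heq, Gallagher.classInner_restrict_prodInfl N hχ hθ'] at hone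
  obtain ⟨f, rfl⟩ := LinearChar.exists_hom (isCharacter_of_isIrr hβ) hone
  refine ⟨f.comp (QuotientGroup.mk' N), fun n => ?_, heq.trans (funext fun g => mul_comm _ _)⟩
  rw [MonoidHom.comp_apply, QuotientGroup.mk'_apply, (QuotientGroup.eq_one_iff (n : G)).2 n.2,
    map_one]

/-- Twisting by a linear character keeps irreducibility and multiplies the determinant. -/
theorem twist {χ : G → ℂ} (hχ : Cfsg.IsIrrCharacter G χ) {d : ℕ} (hd : χ 1 = d) (ν : G →* ℂˣ) :
    Cfsg.IsIrrCharacter G (fun g => (ν g : ℂ) * χ g) ∧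
      ∀ g, Cfsg.detChar (fun g => (ν g : ℂ) * χ g) g = (ν g : ℂ) ^ d * Cfsg.detChar χ g := by
  haveI := Fintype.ofFinite G
  obtain ⟨n, ρ, hρ, rfl⟩ := hχ
  obtain ⟨σ, hσ, hdet⟩ := LinearChar.detChar_smul ν ρ
  have hn : n = d := by
    rw [Representation.char_one, Module.finrank_fin_fun] at hd
    exact_mod_cast hd
  subst hn
  refine ⟨?_, fun g => ?_⟩
  · refine isIrr_of_classInner_self (hσ ▸ isCharacter_character σ) ?_
    rw [← classInner_isIrr_self (isIrrCharacter_character ρ), Cfsg.classInner, Cfsg.classInner]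
    congr 1
    refine Finset.sum_congr rfl fun g _ => ?_
    have h1 : (ν g : ℂ) * (starRingEnd ℂ) (ν g : ℂ) = 1 := by
      rw [Complex.mul_conj']
      have hn : ‖(ν g : ℂ)‖ = 1 := by
        refine Complex.norm_eq_one_of_pow_eq_one (n := Nat.card G) ?_ Nat.card_pos.ne'
        rw [← Units.val_pow_eq_pow_val, ← map_pow, pow_card_eq_one', map_one, Units.val_one]
      rw [hn]
      simp
    rw [map_mul, mul_mul_mul_comm, h1, one_mul]
  · rw [← hσ, LinearChar.detChar_eq, LinearChar.detChar_eq]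
    simp [hdet]

/-- The determinantal character of an extension extends the determinantal character. -/
theorem detChar_restrict {χ : G → ℂ} (hχ : Cfsg.IsCharacter G χ) (h : ∀ n : N, χ n = θ n)
    (n : N) : Cfsg.detChar χ n = Cfsg.detChar θ n := by
  obtain ⟨m, ρ, rfl⟩ := hχ
  have h1 : θ = Representation.character (ρ.comp N.subtype) := funext fun k => (h k).symm
  rw [h1, LinearChar.detChar_eq, LinearChar.detChar_eq]
  rfl

end CfsgLib.CharactersDeep.ExtensionCriteria
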