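import Cfsg.Agent.CharactersDeep.Gallagher
import Cfsg.Agent.Characters.Generalized
import Mathlib.GroupTheory.Abelianization.Defs

/-!
# Invariant characters over an abelian chief factor

An invariant irreducible character restricted to the next term of an abelian chief factor is
irreducible, fully ramified, or a sum of conjugates.
-/

set_option autoImplicit false
set_option linter.style.haveILetI false
set_option linter.unusedSectionVars false

namespace CfsgLib.CharactersDeep.GoingDown

open CfsgLib.Characters CfsgLib.OddOrderChar CfsgLib.CharactersDeep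
open scoped ComplexConjugate

universe u v

variable {K : Type u} [Group K] [Fintype K] (L : Subgroup K) [L.Normal] [Fintype L]

theorem linear_of_abelian {Q : Type v} [Group Q] [Fintype Q] (h : ∀ a b : Q, a * b = b * a)
    (β : Cfsg.IrrCharacter Q) : (β : Q → ℂ) 1 = 1 := by
  obtain ⟨d, ρ, hρ, hβ⟩ := β.2
  haveI := hρ
  have hscal : ∀ g : Q, ‖ρ.character g‖ = (d : ℝ) := fun g => by
    have h1 := (norm_char_eq_iff_scalar ρ g).2 (central_scalar ρ (Subgroup.mem_center_iff.2 fun x => h x g))
    rwa [Module.finrank_fin_fun] at h1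
  have hself := classInner_isIrr_self (isIrrCharacter_character ρ)
  rw [Cfsg.classInner, Finset.sum_congr rfl (g := fun _ => (d : ℂ) ^ 2)
    fun g _ => by rw [Complex.mul_conj', hscal g, Complex.ofReal_natCast],
    Finset.sum_const, Finset.card_univ, nsmul_eq_mul, ← Nat.card_eq_fintype_card, ← mul_assoc,
    inv_mul_cancel₀ natCard_ne_zero, one_mul] at hself
  rw [← hβ, Representation.char_one, Module.finrank_fin_fun,
    show d = 1 from Nat.pow_left_injective two_ne_zero (by simpa using (by exact_mod_cast hself : d ^ 2 = 1)),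
    Nat.cast_one]

theorem norm_linear {β : K ⧸ L → ℂ} {f : K ⧸ L →* ℂˣ} (hf : β = fun g => (f g : ℂ)) (g : K ⧸ L) :
    ‖β g‖ = 1 := by
  rw [hf]
  refine Complex.norm_eq_one_of_pow_eq_one (n := orderOf g) ?_ (orderOf_pos g).ne'
  rw [← Units.val_pow_eq_pow_val, ← map_pow, pow_orderOf_eq_one, map_one, Units.val_one]

variable {ϑ : K → ℂ} (hϑ : Cfsg.IsIrrCharacter K ϑ) (hab : ∀ a b : K, a * b * a⁻¹ * b⁻¹ ∈ L)

include hab in
theorem quotient_comm (a b : K ⧸ L) : a * b = b * a := by
  obtain ⟨a, rfl⟩ := QuotientGroup.mk'_surjective L a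
  obtain ⟨b, rfl⟩ := QuotientGroup.mk'_surjective L b
  have h := (QuotientGroup.eq_one_iff _).2 (hab a b)
  rw [← QuotientGroup.mk'_apply, map_mul, map_mul, map_mul, map_inv, map_inv, mul_inv_eq_one,
    mul_inv_eq_iff_eq_mul] at h
  exact h

include hϑ hab in
/-- The norm of the restriction counts the linear characters of the quotient fixing `ϑ`. -/
theorem classInner_restrict :
    Cfsg.classInner (fun x : L => ϑ x) (fun x : L => ϑ x) =
      (Nat.card {β : Cfsg.IrrCharacter (K ⧸ L) //
        (fun g : K => ϑ g * (β : K ⧸ L → ℂ) g) = ϑ} : ℂ) := by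
  classical
  haveI := Fintype.ofFinite (K ⧸ L)
  rw [← classInner_indFun L _ (isClassFunction_of_isIrr hϑ), Gallagher.indFun_restrict L hϑ,
    classInner_sum_left, Nat.card_eq_fintype_card, Fintype.card_subtype, ← Finset.sum_boole]
  refine Finset.sum_congr rfl fun β _ => ?_
  have hlin := linear_of_abelian (quotient_comm L hab) β
  obtain ⟨f, hf⟩ := exists_hom_of_degree_one (isCharacter_of_isIrr β.2) hlin
  rw [classInner_smul_left, hlin, one_mul]
  have hirr : Cfsg.IsIrrCharacter K (Gallagher.prodInfl L ϑ (β : K ⧸ L → ℂ)) := by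
    refine isIrr_of_classInner_self (Gallagher.isCharacter_prodInfl L (isCharacter_of_isIrr hϑ)
      (isCharacter_of_isIrr β.2)) ?_
    rw [← classInner_isIrr_self hϑ, Cfsg.classInner, Cfsg.classInner]
    congr 1
    refine Finset.sum_congr rfl fun g _ => ?_
    rw [Gallagher.prodInfl, map_mul, mul_mul_mul_comm, Complex.mul_conj' ((β : K ⧸ L → ℂ) g),
      norm_linear L hf]
    simp
  by_cases h : (fun g : K => ϑ g * (β : K ⧸ L → ℂ) g) = ϑ
  · rw [if_pos h, show Gallagher.prodInfl L ϑ (β : K ⧸ L → ℂ) = ϑ from h, classInner_isIrr_self hϑ]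
  · rw [if_neg h, classInner_isIrr_ne hirr hϑ h]

include hϑ hab in
/-- If no nontrivial linear character of the quotient fixes `ϑ` the restriction has norm 1. -/
theorem classInner_restrict_of_free
    (hfree : ∀ f : K →* ℂˣ, (∀ x ∈ L, f x = 1) → (∀ g, ϑ g * (f g : ℂ) = ϑ g) → f = 1) :
    Cfsg.classInner (fun x : L => ϑ x) (fun x : L => ϑ x) = 1 := by
  classical
  rw [classInner_restrict L hϑ hab]
  haveI := Fintype.ofFinite (K ⧸ L)
  have h1 : ∀ β : Cfsg.IrrCharacter (K ⧸ L), (fun g : K => ϑ g * (β : K ⧸ L → ℂ) g) = ϑ →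
      (β : K ⧸ L → ℂ) = fun _ => 1 := by
    intro β h
    obtain ⟨f, hf⟩ := exists_hom_of_degree_one (isCharacter_of_isIrr β.2)
      (linear_of_abelian (quotient_comm L hab) β)
    have hf1 : f.comp (QuotientGroup.mk' L) = 1 := hfree _
      (fun x hx => by rw [MonoidHom.comp_apply, QuotientGroup.mk'_apply, (QuotientGroup.eq_one_iff x).2 hx, map_one])
      (fun g => by
        have := congrFun h g
        rw [hf] at this
        exact this)
    funext q
    obtain ⟨g, rfl⟩ := QuotientGroup.mk'_surjective L q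
    rw [hf]
    exact congrArg Units.val (DFunLike.congr_fun hf1 g)
  haveI : Subsingleton {β : Cfsg.IrrCharacter (K ⧸ L) //
      (fun g : K => ϑ g * (β : K ⧸ L → ℂ) g) = ϑ} :=
    ⟨fun a b => Subtype.ext (Subtype.ext ((h1 _ a.2).trans (h1 _ b.2).symm))⟩
  haveI : Nonempty {β : Cfsg.IrrCharacter (K ⧸ L) //
      (fun g : K => ϑ g * (β : K ⧸ L → ℂ) g) = ϑ} :=
    ⟨⟨⟨_, isIrr_one⟩, funext fun g => mul_one _⟩⟩
  rw [Nat.card_unique, Nat.cast_one]

include hϑ hab in
/-- The trichotomy, for any family of automorphisms under which the factor is minimal. -/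
theorem trichotomy {ι : Type v} (α : ι → K ≃* K) (hL : ∀ i x, α i x ∈ L ↔ x ∈ L)
    (hinv : ∀ i x, ϑ (α i x) = ϑ x)
    (hchief : ∀ M : Subgroup K, L ≤ M → (∀ i x, x ∈ M → α i x ∈ M) → M = L ∨ M = ⊤) :
    Cfsg.IsIrrCharacter L (fun x : L => ϑ x) ∨
      (∃ (φ : L → ℂ) (e : ℕ), Cfsg.IsIrrCharacter L φ ∧ (fun x : L => ϑ x) = (e : ℂ) • φ ∧
        e ^ 2 = L.index) ∨
      ∃ F : Finset (L → ℂ), (∀ φ ∈ F, Cfsg.IsIrrCharacter L φ) ∧ F.card = L.index ∧
        (fun x : L => ϑ x) = ∑ φ ∈ F, φ := by
  classical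
  have hres : Cfsg.IsCharacter L (fun x : L => ϑ x) := isCharacter_restrict L (isCharacter_of_isIrr hϑ)
  obtain ⟨φ, hφ⟩ : ∃ φ : Cfsg.IrrCharacter L,
      Cfsg.classInner (fun x : L => ϑ x) (φ : L → ℂ) ≠ 0 := by
    by_contra h
    push Not at h
    refine irr_one_ne_zero hϑ ?_
    have := congrFun (classFunction_eq_zero (isClassFunction_of_isCharacter hres) fun χ => h χ) 1
    simpa using this
  -- the inertia group
  let T : Subgroup K :=
    { carrier := {g | conjBy L (φ : L → ℂ) g = (φ : L → ℂ)}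
      one_mem' := conjBy_one L _
      mul_mem' := fun {a b} ha hb => by
        show conjBy L (φ : L → ℂ) (a * b) = _
        rw [← conjBy_mul, ha, hb]
      inv_mem' := fun {a} ha => by
        show conjBy L (φ : L → ℂ) a⁻¹ = _
        conv_lhs => rw [← show conjBy L (φ : L → ℂ) a = (φ : L → ℂ) from ha]
        rw [conjBy_mul, mul_inv_cancel, conjBy_one] }
  have hTmem : ∀ g, g ∈ T ↔ conjBy L (φ : L → ℂ) g = (φ : L → ℂ) := fun g => Iff.rfl
  have hLT : L ≤ T := fun g hg => funext fun n =>
    isClassFunction_of_isIrr φ.2 n ⟨g, hg⟩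
  have hTn : T.Normal := ⟨fun t ht g => by
    rw [show g * t * g⁻¹ = g * t * g⁻¹ * t⁻¹ * t by group]
    exact T.mul_mem (hLT (hab g t)) ht⟩
  have hTα : ∀ i x, x ∈ T → α i x ∈ T := by
    intro i x hx
    -- `φ ∘ α` is a constituent of the restriction
    let e : L ≃* L :=
      { toFun := fun n => ⟨α i n, (hL i n).2 n.2⟩
        invFun := fun n => ⟨(α i).symm n, (hL i _).1 (by rw [MulEquiv.apply_symm_apply]; exact n.2)⟩
        left_inv := fun n => Subtype.ext ((α i).symm_apply_apply n)
        right_inv := fun n => Subtype.ext ((α i).apply_symm_apply n)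
        map_mul' := fun a b => Subtype.ext (map_mul (α i) (a : K) b) }
    have hψ : Cfsg.IsIrrCharacter L (fun n => (φ : L → ℂ) (e n)) :=
      isIrr_comp e.toMonoidHom e.surjective φ.2
    obtain ⟨k, hk⟩ := Clifford.exists_conjBy_of_constituents L hϑ φ.2 hψ hφ (by
      have h := Clifford.classInner_comp_equiv e (fun n : L => ϑ n) (φ : L → ℂ)
      rw [show (fun a : L => (fun n : L => ϑ n) (e a)) = fun n : L => ϑ n from
        funext fun a => hinv i a] at h
      rwa [h])
    have h2 : conjBy L (conjBy L (φ : L → ℂ) k) x = conjBy L (φ : L → ℂ) k := by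
      have h3 : k * x * k⁻¹ ∈ T := hTn.conj_mem x hx k
      rw [conjBy_mul, show k * x = k * x * k⁻¹ * k by group, ← conjBy_mul, (hTmem _).1 h3]
    rw [hTmem]
    funext n
    have h4 := congrFun h2 (e.symm n)
    rw [← hk] at h4
    simp only [conjBy_apply] at h4
    rw [e.apply_symm_apply] at h4
    refine Eq.trans (congrArg (φ : L → ℂ) (Subtype.ext ?_)) h4
    show α i x * n * (α i x)⁻¹ = α i (x * (e.symm n : L) * x⁻¹)
    rw [map_mul, map_mul, map_inv,
      show α i (e.symm n : L) = n from congrArg Subtype.val (e.apply_symm_apply n)]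
  obtain ⟨e₀, he₀⟩ := classInner_character_irr hres φ.2
  have he0 : e₀ ≠ 0 := fun h => hφ (by rw [he₀, h, Nat.cast_zero])
  have hsum := Clifford.restrict_eq_orbit_sum L hϑ φ.2 hφ
  have horbirr : ∀ ψ ∈ Clifford.orbit L (φ : L → ℂ), Cfsg.IsIrrCharacter L ψ := fun ψ hψ => by
    obtain ⟨g, rfl⟩ := (Clifford.mem_orbit L).1 hψ
    exact Clifford.isIrr_conjBy L φ.2 g
  have hnorm : Cfsg.classInner (fun x : L => ϑ x) (fun x : L => ϑ x) =
      ((e₀ ^ 2 * (Clifford.orbit L (φ : L → ℂ)).card : ℕ) : ℂ) := by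
    rw [hsum, classInner_smul_left, classInner_smul_right, classInner_sum_left,
      Finset.sum_congr rfl (g := fun _ => (1 : ℂ)) fun ψ hψ => ?_, Finset.sum_const, nsmul_one,
      he₀, Complex.conj_natCast]
    · push_cast; ring
    · rw [classInner_sum_right, Finset.sum_eq_single ψ
        (fun ξ hξ hne => classInner_isIrr_ne (horbirr ψ hψ) (horbirr ξ hξ) hne.symm)
        (fun h => absurd hψ h), classInner_isIrr_self (horbirr ψ hψ)]
  rcases hchief T hLT hTα with hT | hT
  · -- all conjugates differ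
    refine Or.inr (Or.inr ⟨Clifford.orbit L (φ : L → ℂ), horbirr, ?_, ?_⟩)
    · refine Nat.eq_of_mul_eq_mul_right (Nat.card_pos (α := L)) ?_
      rw [Subgroup.index_mul_card]
      exact Clifford.card_orbit_mul L (φ : L → ℂ) L fun g => by rw [← hTmem g, hT]
    · have hle : Cfsg.classInner (fun x : L => ϑ x) (fun x : L => ϑ x) =
          (Nat.card {β : Cfsg.IrrCharacter (K ⧸ L) //
            (fun g : K => ϑ g * (β : K ⧸ L → ℂ) g) = ϑ} : ℂ) := classInner_restrict L hϑ hab
      rw [hnorm, Nat.cast_inj] at hle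
      have h5 : Nat.card (Cfsg.IrrCharacter (K ⧸ L)) ≤ L.index := by
        rw [Subgroup.index_eq_card, card_irrCharacter]
        exact Nat.card_le_card_of_surjective (ConjClasses.mk (α := K ⧸ L)) ConjClasses.mk_surjective
      have h6 := (hle.le.trans (Finite.card_subtype_le _)).trans h5
      have hcard : (Clifford.orbit L (φ : L → ℂ)).card = L.index := by
        refine Nat.eq_of_mul_eq_mul_right (Nat.card_pos (α := L)) ?_
        rw [Subgroup.index_mul_card]
        exact Clifford.card_orbit_mul L (φ : L → ℂ) L fun g => by rw [← hTmem g, hT]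
      rw [hcard] at h6
      have h7 : e₀ ^ 2 ≤ 1 := by
        have := Nat.pos_of_ne_zero (Subgroup.index_ne_zero_of_finite (H := L))
        nlinarith
      have h8 : e₀ = 1 := by nlinarith [Nat.pos_of_ne_zero he0]
      conv_lhs => rw [hsum, he₀, h8, Nat.cast_one, one_smul]
  · -- the constituent is invariant
    have hφinv : ∀ g, conjBy L (φ : L → ℂ) g = (φ : L → ℂ) := fun g =>
      (hTmem g).1 (by rw [hT]; exact Subgroup.mem_top g)
    obtain ⟨e, -, heq, hee⟩ := Clifford.restrict_eq_smul L hϑ φ.2 hφinv hφ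
    -- the common kernel of the linear characters fixing `ϑ`
    let U : Subgroup K := ⨅ f : {f : K →* ℂˣ // (∀ x ∈ L, f x = 1) ∧ ∀ g, ϑ g * (f g : ℂ) = ϑ g},
      f.1.ker
    have hLU : L ≤ U := le_iInf fun f x hx => f.2.1 x hx
    have hUα : ∀ i x, x ∈ U → α i x ∈ U := by
      intro i x hx
      rw [Subgroup.mem_iInf] at hx ⊢
      intro f
      have h := hx ⟨f.1.comp (α i).toMonoidHom,
        fun y hy => f.2.1 _ ((hL i y).2 hy), fun g => by
          have := f.2.2 (α i g)
          rwa [hinv i g] at this⟩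
      exact h
    have hsq : Cfsg.classInner (fun x : L => ϑ x) (fun x : L => ϑ x) = ((e ^ 2 : ℕ) : ℂ) := by
      rw [heq, classInner_smul_left, classInner_smul_right, classInner_isIrr_self φ.2,
        Complex.conj_natCast]
      push_cast; ring
    rcases hchief U hLU hUα with hU | hU
    · -- fully ramified
      refine Or.inr (Or.inl ⟨φ, e, φ.2, heq, ?_⟩)
      have hout : ∀ g : K, g ∉ L → ϑ g = 0 := by
        intro g hg
        rw [← hU, Subgroup.mem_iInf] at hg
        push Not at hg
        obtain ⟨f, hf⟩ := hg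
        have h := f.2.2 g
        by_contra hne
        exact hf (MonoidHom.mem_ker.2 (Units.val_eq_one.1 ((mul_eq_left₀ hne).1 h)))
      have h1 := classInner_isIrr_self hϑ
      rw [Cfsg.classInner, ← Finset.sum_subset
        (Finset.subset_univ (Finset.univ.filter (· ∈ L)))
        (fun g _ hg => by rw [hout g (by simpa using hg), zero_mul]),
        ← Finset.sum_subtype_eq_sum_filter, Finset.subtype_univ] at h1
      rw [Cfsg.classInner] at hsq
      apply Nat.cast_injective (R := ℂ)
      rw [← hsq]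
      rw [← Subgroup.index_mul_card L, Nat.cast_mul, mul_inv, mul_assoc] at h1
      exact ((inv_mul_eq_one₀ (Nat.cast_ne_zero.2 Subgroup.index_ne_zero_of_finite)).1 h1).symm
    · left
      refine isIrr_of_classInner_self hres (classInner_restrict_of_free L hϑ hab fun f h1 h2 => ?_)
      refine MonoidHom.ext fun g => ?_
      have hg : g ∈ U := by rw [hU]; exact Subgroup.mem_top g
      rw [Subgroup.mem_iInf] at hg
      exact hg ⟨f, h1, h2⟩

end CfsgLib.CharactersDeep.GoingDown

namespace CfsgLib.CharactersDeep.GoingDown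

open CfsgLib.Characters
open scoped commutatorElement

universe u

variable {G : Type u} [Group G] [Fintype G]

/-- The trichotomy for a chief factor of `G`. -/
theorem trichotomy_chief (K L : Subgroup G) [hK : K.Normal] [hL : L.Normal] [Fintype K] [Fintype L]
    (hLK : L ≤ K) (hchief : ∀ M : Subgroup G, M.Normal → L ≤ M → M ≤ K → M = L ∨ M = K)
    (hab : ⁅K, K⁆ ≤ L) {ϑ : K → ℂ} (hϑ : Cfsg.IsIrrCharacter K ϑ)
    (hinv : ∀ (g : G) (n : K), ϑ ⟨g * n * g⁻¹, hK.conj_mem (n : G) n.2 g⟩ = ϑ n) :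
    Cfsg.IsIrrCharacter L (fun x : L => ϑ ⟨(x : G), hLK x.2⟩) ∨
      (∃ (φ : L → ℂ) (e : ℕ), Cfsg.IsIrrCharacter L φ ∧
        (fun x : L => ϑ ⟨(x : G), hLK x.2⟩) = (e : ℂ) • φ ∧ e ^ 2 = L.relIndex K) ∨
      ∃ F : Finset (L → ℂ), (∀ φ ∈ F, Cfsg.IsIrrCharacter L φ) ∧ F.card = L.relIndex K ∧
        (fun x : L => ϑ ⟨(x : G), hLK x.2⟩) = ∑ φ ∈ F, φ := by
  classical
  haveI := Fintype.ofFinite (L.subgroupOf K)
  let E : L ≃* L.subgroupOf K := (Subgroup.subgroupOfEquivOfLe hLK).symm
  have hval : ∀ x : L, ((E x : L.subgroupOf K) : K) = ⟨(x : G), hLK x.2⟩ := fun x => rfl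
  have hab' : ∀ a b : K, a * b * a⁻¹ * b⁻¹ ∈ L.subgroupOf K := fun a b =>
    hab (Subgroup.commutator_mem_commutator a.2 b.2)
  have h := trichotomy (L.subgroupOf K) hϑ hab' (fun g : G => MulAut.conjNormal (H := K) g)
    (fun g x => by
      simp only [Subgroup.mem_subgroupOf, MulAut.conjNormal_apply]
      exact ⟨fun h => by simpa [mul_assoc] using hL.conj_mem _ h g⁻¹, fun h => hL.conj_mem _ h g⟩)
    (fun g x => (congrArg ϑ (Subtype.ext (MulAut.conjNormal_apply g x))).trans (hinv g x))
    (fun M hLM hM => by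
      have hmap : (M.map K.subtype).Normal := ⟨by
        rintro _ ⟨x, hx, rfl⟩ g
        exact ⟨MulAut.conjNormal (H := K) g x, hM g x hx, MulAut.conjNormal_apply g x⟩⟩
      rcases hchief _ hmap (fun x hx => ⟨⟨x, hLK hx⟩, hLM (Subgroup.mem_subgroupOf.2 hx), rfl⟩)
        (Subgroup.map_subtype_le M) with h | h
      · left
        rw [← h]
        exact (Subgroup.comap_map_eq_self_of_injective K.subtype_injective M).symm
      · right
        rw [← Subgroup.comap_map_eq_self_of_injective K.subtype_injective M, h]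
        exact Subgroup.subgroupOf_self K)
  have hE : (fun x : L => (fun y : L.subgroupOf K => ϑ y) (E x)) =
      fun x : L => ϑ ⟨(x : G), hLK x.2⟩ := funext fun x => congrArg ϑ (hval x)
  have hirr : ∀ {φ : L.subgroupOf K → ℂ}, Cfsg.IsIrrCharacter (L.subgroupOf K) φ →
      Cfsg.IsIrrCharacter L fun x => φ (E x) := fun hφ =>
    isIrr_comp E.toMonoidHom E.surjective hφ
  have hinjE : Function.Injective (fun (φ : L.subgroupOf K → ℂ) (x : L) => φ (E x)) :=
    fun φ ψ h => funext fun y => by simpa using congrFun h (E.symm y)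
  rcases h with h | ⟨φ, e, hφ, heq, he⟩ | ⟨F, hF, hcard, heq⟩
  · exact Or.inl (hE ▸ hirr h)
  · refine Or.inr (Or.inl ⟨fun x => φ (E x), e, hirr hφ, ?_, he⟩)
    rw [← hE, heq]
    rfl
  · refine Or.inr (Or.inr ⟨F.image (fun φ x => φ (E x)), ?_, ?_, ?_⟩)
    · intro ψ hψ
      obtain ⟨φ, hφ, rfl⟩ := Finset.mem_image.1 hψ
      exact hirr (hF φ hφ)
    · rw [Finset.card_image_of_injective _ hinjE, hcard]
      rfl
    · rw [← hE, heq, Finset.sum_image fun a _ b _ hab => hinjE hab]
      funext x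
      simp [Finset.sum_apply]

end CfsgLib.CharactersDeep.GoingDown
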