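import Cfsg.Agent.CharactersDeep.GoingDown
import Cfsg.Agent.Characters.BrauerInduction
import Mathlib.GroupTheory.Solvable

/-!
# Relative M-groups

If no chief factor below a subgroup containing `N` has square order, every irreducible character is
induced from one that restricts irreducibly to `N`.
-/

set_option autoImplicit false
set_option linter.style.haveILetI false
set_option linter.unusedSectionVars false

namespace CfsgLib.CharactersDeep.RelativeMGroup

open CfsgLib.Characters CfsgLib.OddOrderChar CfsgLib.CharactersDeep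
open scoped commutatorElement

universe u

variable {G : Type u} [Group G]

/-- A maximal normal subgroup under `K` with solvable quotient gives an abelian factor. -/
theorem commutator_le_of_chief (K L : Subgroup G) [K.Normal] [L.Normal]
    [Group.IsSolvable (G ⧸ L)] (hlt : L < K)
    (hmax : ∀ M : Subgroup G, M.Normal → L ≤ M → M ≤ K → M = L ∨ M = K) : ⁅K, K⁆ ≤ L := by
  haveI : (⁅K, K⁆ : Subgroup G).Normal := Subgroup.commutator_normal K K
  haveI : (⁅K, K⁆ ⊔ L : Subgroup G).Normal := Subgroup.sup_normal _ _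
  rcases hmax (⁅K, K⁆ ⊔ L) inferInstance le_sup_right
    (sup_le (Subgroup.commutator_le_self K) hlt.le) with h | h
  · exact sup_eq_right.1 h
  · exfalso
    set π := QuotientGroup.mk' L with hπ
    have hne : K.map π ≠ ⊥ := fun hbot => hlt.not_ge (by
      rw [Subgroup.map_eq_bot_iff, QuotientGroup.ker_mk'] at hbot
      exact hbot)
    have h1 := congrArg (Subgroup.map π) h
    rw [Subgroup.map_sup, Subgroup.map_commutator, QuotientGroup.map_mk'_self, sup_bot_eq] at h1
    exact (Group.IsSolvable.commutator_lt_of_ne_bot hne).ne h1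

variable [Fintype G]

theorem restrict_irr_or_exists (N : Subgroup G) [N.Normal] [Fintype N]
    [Group.IsSolvable (G ⧸ N)] {χ : G → ℂ} (hχ : Cfsg.IsIrrCharacter G χ)
    (hnsq : ∀ K L : Subgroup G, K.Normal → L.Normal → N ≤ L → L < K →
      (∀ M : Subgroup G, M.Normal → L ≤ M → M ≤ K → M = L ∨ M = K) → ¬ IsSquare (L.relIndex K)) :
    Cfsg.IsIrrCharacter N (fun n : N => χ n) ∨
      ∃ (T : Subgroup G) (ψ : T → ℂ), T ≠ ⊤ ∧ N ≤ T ∧ Cfsg.IsIrrCharacter T ψ ∧
        Cfsg.indFun T ψ = χ := by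
  classical
  let P : Subgroup G → Prop := fun K =>
    K.Normal ∧ N ≤ K ∧ Cfsg.IsIrrCharacter K (fun k : K => χ k)
  have htop : P ⊤ := ⟨inferInstance, le_top,
    isIrr_comp (Subgroup.topEquiv (G := G)).toMonoidHom Subgroup.topEquiv.surjective hχ⟩
  obtain ⟨K, -, hK⟩ := Set.Finite.exists_le_minimal (Set.toFinite {K | P K}) htop
  obtain ⟨hKn, hNK, hKirr⟩ := hK.prop
  rcases hNK.eq_or_lt with rfl | hlt
  · exact Or.inl hKirr
  haveI := hKn
  -- a maximal normal subgroup below `K`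
  let Q : Subgroup G → Prop := fun L => L.Normal ∧ N ≤ L ∧ L < K
  obtain ⟨L, -, hL⟩ := Set.Finite.exists_le_maximal (Set.toFinite {L | Q L})
    (show N ∈ {L | Q L} from ⟨inferInstance, le_rfl, hlt⟩)
  obtain ⟨hLn, hNL, hLK⟩ := hL.prop
  haveI := hLn
  have hchief : ∀ M : Subgroup G, M.Normal → L ≤ M → M ≤ K → M = L ∨ M = K := by
    intro M hM hLM hMK
    rcases hMK.eq_or_lt with h | h
    · exact Or.inr h
    · exact Or.inl (le_antisymm (hL.2 ⟨hM, hNL.trans hLM, h⟩ hLM) hLM)
  haveI : Group.IsSolvable (G ⧸ L) :=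
    Group.isSolvable_of_surjective
      (f := QuotientGroup.map N L (MonoidHom.id G) hNL)
      (fun q => by
        obtain ⟨g, rfl⟩ := QuotientGroup.mk'_surjective L q
        exact ⟨QuotientGroup.mk' N g, rfl⟩)
  haveI := Fintype.ofFinite K
  haveI := Fintype.ofFinite L
  have hinv : ∀ (g : G) (n : K), (fun k : K => χ k) ⟨g * n * g⁻¹, hKn.conj_mem (n : G) n.2 g⟩ =
      (fun k : K => χ k) n := fun g n => isClassFunction_of_isIrr hχ (n : G) g
  rcases GoingDown.trichotomy_chief K L hLK.le hchief (commutator_le_of_chief K L hLK hchief)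
    hKirr hinv with h | ⟨φ, e, -, -, he⟩ | ⟨F, hF, hcard, hsum⟩
  · exact absurd (hK.2 ⟨hLn, hNL, h⟩ hLK.le) hLK.not_ge
  · exact absurd ⟨e, by rw [← he, sq]⟩ (hnsq K L hKn hLn hNL hLK hchief)
  · right
    have hidx : 1 < L.relIndex K := by
      rcases Nat.lt_or_ge 1 (L.relIndex K) with h | h
      · exact h
      · have h0 : L.relIndex K ≠ 0 := Subgroup.index_ne_zero_of_finite (H := L.subgroupOf K)
        exact absurd (Subgroup.relIndex_eq_one.1 (le_antisymm h (Nat.pos_of_ne_zero h0))) hLK.not_ge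
    obtain ⟨φ, hφ, ψ', hψ', hne⟩ := Finset.one_lt_card.1 (hcard ▸ hidx)
    have hin : ∀ ξ ∈ F, Cfsg.classInner (fun x : L => χ x) ξ = 1 := by
      intro ξ hξ
      rw [show (fun x : L => χ x) = ∑ φ ∈ F, φ from hsum, classInner_sum_left,
        Finset.sum_eq_single ξ (fun η hη hne => classInner_isIrr_ne (hF η hη) (hF ξ hξ) hne)
          (fun h => absurd hξ h), classInner_isIrr_self (hF ξ hξ)]
    let T : Subgroup G :=
      { carrier := {g | conjBy L φ g = φ}
        one_mem' := conjBy_one L _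
        mul_mem' := fun {a b} ha hb => by
          show conjBy L φ (a * b) = _
          rw [← conjBy_mul, ha, hb]
        inv_mem' := fun {a} ha => by
          show conjBy L φ a⁻¹ = _
          conv_lhs => rw [← show conjBy L φ a = φ from ha]
          rw [conjBy_mul, mul_inv_cancel, conjBy_one] }
    haveI := Fintype.ofFinite T
    have hLT : L ≤ T := fun g hg => funext fun n =>
      isClassFunction_of_isIrr (hF φ hφ) n ⟨g, hg⟩
    obtain ⟨ψ, -, -, hψ, hind, -⟩ := Clifford.exists_induced_from_inertia L (hF φ hφ) T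
      (fun g => Iff.rfl) hLT hχ (by rw [hin φ hφ]; exact one_ne_zero)
    refine ⟨T, ψ, fun htop => hne ?_, hNL.trans hLT, hψ, hind⟩
    obtain ⟨g, hg⟩ := Clifford.exists_conjBy_of_constituents L hχ (hF φ hφ) (hF ψ' hψ')
      (by rw [hin φ hφ]; exact one_ne_zero) (by rw [hin ψ' hψ']; exact one_ne_zero)
    have hgT : g ∈ T := by rw [htop]; exact Subgroup.mem_top g
    exact (hg.trans hgT).symm

/-- Every irreducible character of every subgroup above `N` is induced as required. -/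
theorem relative_aux (N : Subgroup G) [N.Normal] (hsolv : Group.IsSolvable (G ⧸ N))
    (hchief : ∀ (H K L : Subgroup G), N ≤ L → L < K → K ≤ H →
      (∀ h ∈ H, ∀ k ∈ K, h * k * h⁻¹ ∈ K) → (∀ h ∈ H, ∀ l ∈ L, h * l * h⁻¹ ∈ L) →
      (∀ M : Subgroup G, L ≤ M → M ≤ K → (∀ h ∈ H, ∀ m ∈ M, h * m * h⁻¹ ∈ M) → M = L ∨ M = K) →
      ¬ IsSquare (L.relIndex K)) (n : ℕ) :
    ∀ (H : Subgroup G), Nat.card H = n → N ≤ H → ∀ χ : H → ℂ, Cfsg.IsIrrCharacter H χ →
      ∃ (H' : Subgroup G) (hNH : N ≤ H') (ψ : H' → ℂ), Cfsg.IsIrrCharacter H' ψ ∧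
        Cfsg.indFun H' ψ = Cfsg.indFun H χ ∧
        Cfsg.IsIrrCharacter N (fun n : N => ψ ⟨(n : G), hNH n.2⟩) := by
  induction n using Nat.strong_induction_on with
  | _ n ih =>
  intro H hn hNH χ hχ
  classical
  haveI := Fintype.ofFinite H
  haveI : (N.subgroupOf H).Normal := Subgroup.normal_subgroupOf
  haveI := Fintype.ofFinite (N.subgroupOf H)
  haveI := hsolv
  haveI : Group.IsSolvable (H ⧸ N.subgroupOf H) :=
    Group.isSolvable_of_isSolvable_injective
      (f := QuotientGroup.map (N.subgroupOf H) N H.subtype le_rfl)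
      ((injective_iff_map_eq_one _).2 fun q hq => by
        obtain ⟨g, rfl⟩ := QuotientGroup.mk'_surjective _ q
        have hq' : ((g : G) : G ⧸ N) = 1 := hq
        exact (QuotientGroup.eq_one_iff g).2 ((QuotientGroup.eq_one_iff (g : G)).1 hq'))
  have hnsq : ∀ K L : Subgroup H, K.Normal → L.Normal → N.subgroupOf H ≤ L → L < K →
      (∀ M : Subgroup H, M.Normal → L ≤ M → M ≤ K → M = L ∨ M = K) →
      ¬ IsSquare (L.relIndex K) := by
    intro K L hK hL hNL hLK hm
    have hconj : ∀ S : Subgroup H, S.Normal → ∀ h ∈ H, ∀ k ∈ S.map H.subtype,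
        h * k * h⁻¹ ∈ S.map H.subtype := by
      rintro S hS h hh _ ⟨k, hk, rfl⟩
      exact ⟨⟨h, hh⟩ * k * ⟨h, hh⟩⁻¹, hS.conj_mem k hk _, rfl⟩
    rw [← Subgroup.relIndex_map_map_of_injective L K H.subtype_injective]
    refine hchief H _ _ (fun x hx => ⟨⟨x, hNH hx⟩, hNL hx, rfl⟩)
      ((Subgroup.map_lt_map_iff_of_injective H.subtype_injective).2 hLK)
      (Subgroup.map_subtype_le K) (hconj K hK) (hconj L hL) fun M hLM hMK hM => ?_
    have hMH : M ≤ H := hMK.trans (Subgroup.map_subtype_le K)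
    have hback : (M.subgroupOf H).map H.subtype = M := Subgroup.map_subgroupOf_eq_of_le hMH
    have hnorm : (M.subgroupOf H).Normal := ⟨fun x hx g => hM g g.2 x hx⟩
    rcases hm (M.subgroupOf H) hnorm
      (fun x hx => hLM (Subgroup.mem_map_of_mem _ hx))
      (fun x hx => by
        obtain ⟨y, hy, hyx⟩ := hMK (show (x : G) ∈ M from hx)
        rwa [← H.subtype_injective hyx]) with h | h
    · exact Or.inl (by rw [← hback, h])
    · exact Or.inr (by rw [← hback, h])
  rcases restrict_irr_or_exists (N.subgroupOf H) hχ hnsq with h | ⟨T, ψ, hTne, hNT, hψ, hind⟩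
  · refine ⟨H, hNH, χ, hχ, rfl, ?_⟩
    exact isIrr_comp (Subgroup.subgroupOfEquivOfLe hNH).symm.toMonoidHom
      (Subgroup.subgroupOfEquivOfLe hNH).symm.surjective h
  · let e : T ≃* T.map H.subtype := T.equivMapOfInjective H.subtype H.subtype_injective
    have hcard : Nat.card (T.map H.subtype) < n := by
      rw [← hn, Subgroup.card_map_of_injective H.subtype_injective]
      exact lt_of_le_of_ne (Subgroup.card_le_card_group T)
        fun h => hTne (Subgroup.eq_top_of_card_eq T h)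
    have hNT' : N ≤ T.map H.subtype := fun x hx =>
      ⟨⟨x, hNH hx⟩, hNT (Subgroup.mem_subgroupOf.2 hx), rfl⟩
    obtain ⟨H', hNH', ψ', h1, h2, h3⟩ := ih _ hcard _ rfl hNT' (fun x => ψ (e.symm x))
      (isIrr_comp e.symm.toMonoidHom e.symm.surjective hψ)
    refine ⟨H', hNH', ψ', h1, ?_, h3⟩
    rw [h2, ← hind, indFun_indFun]

/-- Relative M-groups. -/
theorem relative (N : Subgroup G) [N.Normal] (hsolv : Group.IsSolvable (G ⧸ N))
    (hchief : ∀ (H K L : Subgroup G), N ≤ L → L < K → K ≤ H →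
      (∀ h ∈ H, ∀ k ∈ K, h * k * h⁻¹ ∈ K) → (∀ h ∈ H, ∀ l ∈ L, h * l * h⁻¹ ∈ L) →
      (∀ M : Subgroup G, L ≤ M → M ≤ K → (∀ h ∈ H, ∀ m ∈ M, h * m * h⁻¹ ∈ M) → M = L ∨ M = K) →
      ¬ IsSquare (L.relIndex K)) {χ : G → ℂ} (hχ : Cfsg.IsIrrCharacter G χ) :
    ∃ (H : Subgroup G) (hNH : N ≤ H) (ψ : H → ℂ), Cfsg.IsIrrCharacter H ψ ∧
      Cfsg.indFun H ψ = χ ∧ Cfsg.IsIrrCharacter N (fun n : N => ψ ⟨(n : G), hNH n.2⟩) := by
  obtain ⟨H, hNH, ψ, h1, h2, h3⟩ := relative_aux N hsolv hchief _ ⊤ rfl le_top (fun x => χ x)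
    (isIrr_comp (Subgroup.topEquiv (G := G)).toMonoidHom Subgroup.topEquiv.surjective hχ)
  exact ⟨H, hNH, ψ, h1, h2.trans (indFun_top_classFunction (isClassFunction_of_isIrr hχ)), h3⟩

end CfsgLib.CharactersDeep.RelativeMGroup
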