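import Cfsg.Agent.CharactersDeep.Clifford
import Cfsg.Agent.Characters.Linear

/-!
# Invariant characters of normal subgroups

Full ramification, and multiplication by an extension as a bijection between the characters over
two invariant characters.
-/

set_option autoImplicit false
set_option linter.style.haveILetI false
set_option linter.unusedSectionVars false

namespace CfsgLib.CharactersDeep.Ramification

open CfsgLib.Characters CfsgLib.OddOrderChar CfsgLib.CharactersDeep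
open scoped ComplexConjugate

universe u v

variable {G : Type u} [Group G] [Fintype G]

/-- A combination of characters with the norm of its coefficient vector is orthonormal. -/
theorem orthonormal_of_norm {ι : Type v} [Fintype ι] [DecidableEq ι] (m : ι → ℕ) {F : ι → G → ℂ}
    (hF : ∀ i, Cfsg.IsCharacter G (F i)) (hne : ∀ i, m i ≠ 0 → F i 1 ≠ 0)
    (hnorm : Cfsg.classInner (∑ i, (m i : ℂ) • F i) (∑ i, (m i : ℂ) • F i) =
      ((∑ i, m i * m i : ℕ) : ℂ)) :
    ∀ i j, m i ≠ 0 → m j ≠ 0 → Cfsg.classInner (F i) (F j) = if i = j then 1 else 0 := by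
  classical
  choose k hk using fun p : ι × ι => classInner_characters (hF p.1) (hF p.2)
  have hsum : ∑ p : ι × ι, m p.1 * m p.2 * k p = ∑ i, m i * m i := by
    apply Nat.cast_injective (R := ℂ)
    rw [← hnorm, classInner_sum_left, Fintype.sum_prod_type]
    push_cast
    refine Finset.sum_congr rfl fun a _ => ?_
    rw [classInner_sum_right]
    exact Finset.sum_congr rfl fun b _ => by
      rw [classInner_smul_left, classInner_smul_right, hk (a, b), Complex.conj_natCast, mul_assoc]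
  have hdiag : ∀ i, m i ≠ 0 → 0 < k (i, i) := fun i hi => Nat.pos_of_ne_zero fun h0 => hne i hi (by
    obtain ⟨c, hc⟩ := exists_nat_coeff (hF i)
    have h1 : Cfsg.classInner (F i) (F i) = 0 := by rw [hk (i, i), h0, Nat.cast_zero]
    rw [classInner_eq_sum (isClassFunction_of_isCharacter (hF i))] at h1
    simp only [hc, classInner_irr_coeff, Complex.conj_natCast] at h1
    have h2 : ∑ ψ, c ψ * c ψ = 0 := by exact_mod_cast h1
    rw [hc, Finset.sum_apply, Finset.sum_eq_zero]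
    intro ψ _
    rw [mul_self_eq_zero.1 (Finset.sum_eq_zero_iff.1 h2 ψ (Finset.mem_univ ψ)), Nat.cast_zero,
      zero_smul, Pi.zero_apply])
  have hle : ∀ p : ι × ι, m p.1 * m p.2 * (if p.1 = p.2 then 1 else 0) ≤ m p.1 * m p.2 * k p := by
    rintro ⟨a, b⟩
    dsimp only
    split_ifs with h
    · subst h
      rcases Nat.eq_zero_or_pos (m a) with h0 | h0
      · simp [h0]
      · exact Nat.mul_le_mul_left _ (hdiag a h0.ne')
    · simp
  have heq := (Finset.sum_eq_sum_iff_of_le fun p _ => hle p).1 (by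
    rw [hsum, Fintype.sum_prod_type]
    exact Finset.sum_congr rfl fun a _ => by simp [mul_ite])
  intro i j hi hj
  have h1 : k (i, j) = if i = j then 1 else 0 :=
    ((Nat.eq_of_mul_eq_mul_left (Nat.mul_pos (Nat.pos_of_ne_zero hi) (Nat.pos_of_ne_zero hj))
      (heq (i, j) (Finset.mem_univ _))).symm).trans (by split_ifs <;> rfl)
  rw [hk (i, j), h1]
  split_ifs <;> simp

variable (N : Subgroup G) [hN : N.Normal] [Fintype N]

theorem indFun_invariant {θ : N → ℂ}
    (hinv : ∀ (g : G) (n : N), θ ⟨g * n * g⁻¹, hN.conj_mem n n.2 g⟩ = θ n) :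
    (fun n : N => Cfsg.indFun N θ n) = (N.index : ℂ) • θ := by
  funext n
  rw [indFun_normal_apply, Finset.sum_congr rfl (g := fun _ => θ n) fun g _ => (show conjBy N θ g n = θ n from hinv g n),
    Finset.sum_const, Finset.card_univ, ← Nat.card_eq_fintype_card, nsmul_eq_mul,
    ← Subgroup.index_mul_card N, Pi.smul_apply, smul_eq_mul]
  push_cast
  field_simp [subgroup_card_ne_zero N]

/-- The norm of the function induced from an invariant irreducible character. -/
theorem norm_indFun {θ : N → ℂ} (hθ : Cfsg.IsIrrCharacter N θ)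
    (hinv : ∀ (g : G) (n : N), θ ⟨g * n * g⁻¹, hN.conj_mem n n.2 g⟩ = θ n) :
    Cfsg.classInner (Cfsg.indFun N θ) (Cfsg.indFun N θ) = (N.index : ℂ) := by
  rw [classInner_indFun N _ (isClassFunction_indFun N _), indFun_invariant N hinv,
    classInner_smul_right, classInner_isIrr_self hθ, mul_one, Complex.conj_natCast]

/-- The squares of the ramifications over an invariant character sum to the index. -/
theorem exists_coeff_indFun {θ : N → ℂ} (hθ : Cfsg.IsIrrCharacter N θ)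
    (hinv : ∀ (g : G) (n : N), θ ⟨g * n * g⁻¹, hN.conj_mem n n.2 g⟩ = θ n) :
    ∃ m : Cfsg.IrrCharacter G → ℕ,
      Cfsg.indFun N θ = ∑ ψ, (m ψ : ℂ) • (ψ : G → ℂ) ∧
      (∀ ψ : Cfsg.IrrCharacter G, Cfsg.classInner (Cfsg.indFun N θ) (ψ : G → ℂ) = m ψ) ∧
      ∑ ψ, m ψ * m ψ = N.index := by
  obtain ⟨m, hm⟩ := exists_nat_coeff (isCharacter_indFun N (isCharacter_of_isIrr hθ))
  have hval : ∀ ψ : Cfsg.IrrCharacter G,
      Cfsg.classInner (Cfsg.indFun N θ) (ψ : G → ℂ) = m ψ := fun ψ => by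
    rw [hm, classInner_irr_coeff]
  refine ⟨m, hm, hval, Nat.cast_injective (R := ℂ) ?_⟩
  rw [← norm_indFun N hθ hinv, classInner_eq_sum (isClassFunction_indFun N θ)]
  push_cast
  exact Finset.sum_congr rfl fun ψ _ => by rw [hval, Complex.conj_natCast]

/-- An irreducible character vanishes off `N` exactly when its restriction has norm the index. -/
theorem vanish_iff {χ : G → ℂ} (hχ : Cfsg.IsIrrCharacter G χ) :
    (∀ g, g ∉ N → χ g = 0) ↔
      Cfsg.classInner (fun n : N => χ n) (fun n : N => χ n) = (N.index : ℂ) := by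
  classical
  have h1 := classInner_isIrr_self hχ
  rw [Cfsg.classInner, inv_mul_eq_one₀ natCard_ne_zero,
    ← Finset.sum_filter_add_sum_filter_not Finset.univ (· ∈ N),
    Finset.sum_subtype (p := (· ∈ N)) (Finset.univ.filter (· ∈ N)) (by simp),
    ← Subgroup.index_mul_card N, Nat.cast_mul] at h1
  have h2 : Cfsg.classInner (fun n : N => χ n) (fun n : N => χ n) = (N.index : ℂ) ↔
      ∑ g ∈ Finset.univ.filter (· ∉ N), χ g * conj (χ g) = 0 := by
    rw [Cfsg.classInner, inv_mul_eq_iff_eq_mul₀ (subgroup_card_ne_zero N), mul_comm, h1]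
    constructor
    · intro h; linear_combination (-1 : ℂ) * h
    · intro h; linear_combination (-1 : ℂ) * h
  rw [h2]
  constructor
  · intro h
    exact Finset.sum_eq_zero fun g hg => by rw [h g (Finset.mem_filter.1 hg).2, zero_mul]
  · intro h g hg
    simp only [Complex.mul_conj'] at h
    have h3 : ∑ g ∈ Finset.univ.filter (· ∉ N), ‖χ g‖ ^ 2 = 0 := by exact_mod_cast h
    exact norm_eq_zero.1 (pow_eq_zero_iff two_ne_zero |>.1
      ((Finset.sum_eq_zero_iff_of_nonneg fun g _ => sq_nonneg _).1 h3 g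
        (Finset.mem_filter.2 ⟨Finset.mem_univ _, hg⟩)))

/-- Full ramification. -/
theorem fully_ramified {χ : G → ℂ} (hχ : Cfsg.IsIrrCharacter G χ) {θ : N → ℂ}
    (hθ : Cfsg.IsIrrCharacter N θ) (hcon : Cfsg.classInner (fun n : N => χ n) θ ≠ 0) :
    ((∃ e : ℕ, (fun n : N => χ n) = (e : ℂ) • θ ∧ e ^ 2 = N.index) ↔
      ((∀ g : G, g ∉ N → χ g = 0) ∧
        ∀ (g : G) (n : N), θ ⟨g * n * g⁻¹, hN.conj_mem n n.2 g⟩ = θ n)) ∧
    ((∃ e : ℕ, (fun n : N => χ n) = (e : ℂ) • θ ∧ e ^ 2 = N.index) ↔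
      (∀ (g : G) (n : N), θ ⟨g * n * g⁻¹, hN.conj_mem n n.2 g⟩ = θ n ∧
        ∀ ψ : G → ℂ, Cfsg.IsIrrCharacter G ψ → Cfsg.classInner (Cfsg.indFun N θ) ψ ≠ 0 →
          ψ = χ)) := by
  classical
  have hinv_of : ∀ e : ℕ, (fun n : N => χ n) = (e : ℂ) • θ →
      ∀ (g : G) (n : N), θ ⟨g * n * g⁻¹, hN.conj_mem n n.2 g⟩ = θ n := fun e he g n => by
    have h0 : (e : ℂ) ≠ 0 := fun h0 => hcon (by rw [he, h0, zero_smul, classInner_zero_left])
    refine mul_left_cancel₀ h0 ?_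
    have h1 := congrFun he ⟨g * n * g⁻¹, hN.conj_mem n n.2 g⟩
    have h2 := congrFun he n
    simp only [Pi.smul_apply, smul_eq_mul] at h1 h2
    rw [← h1, ← h2]
    exact isClassFunction_of_isIrr hχ n g
  have hnorm : ∀ e : ℕ, (fun n : N => χ n) = (e : ℂ) • θ →
      Cfsg.classInner (fun n : N => χ n) (fun n : N => χ n) = ((e ^ 2 : ℕ) : ℂ) := fun e he => by
    rw [he, classInner_smul_left, classInner_smul_right, classInner_isIrr_self hθ,
      Complex.conj_natCast]
    push_cast; ring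
  have hmult : (∀ (g : G) (n : N), θ ⟨g * n * g⁻¹, hN.conj_mem n n.2 g⟩ = θ n) →
      ∃ e : ℕ, (fun n : N => χ n) = (e : ℂ) • θ ∧
        Cfsg.classInner (fun n : N => χ n) θ = e := fun hinv => by
    obtain ⟨e, -, he, he'⟩ := Clifford.restrict_eq_smul N hχ hθ (fun g => funext (hinv g)) hcon
    exact ⟨e, he, he'⟩
  have hcoeff : ∀ e : ℕ, Cfsg.classInner (fun n : N => χ n) θ = e →
      Cfsg.classInner (Cfsg.indFun N θ) χ = e := fun e he => by
    rw [classInner_indFun N θ (isClassFunction_of_isIrr hχ), classInner_conj_symm, he,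
      Complex.conj_natCast]
  refine ⟨⟨?_, ?_⟩, ⟨?_, ?_⟩⟩
  · rintro ⟨e, he, he2⟩
    exact ⟨(vanish_iff N hχ).2 (by rw [hnorm e he, he2]), hinv_of e he⟩
  · rintro ⟨hv, hinv⟩
    obtain ⟨e, he, -⟩ := hmult hinv
    refine ⟨e, he, Nat.cast_injective (R := ℂ) ?_⟩
    rw [← hnorm e he, (vanish_iff N hχ).1 hv]
  · rintro ⟨e, he, he2⟩ g n
    refine ⟨hinv_of e he g n, fun ψ hψ hne => ?_⟩
    obtain ⟨m, -, hval, hsq⟩ := exists_coeff_indFun N hθ (hinv_of e he)
    have h1 : m ⟨χ, hχ⟩ = e := Nat.cast_injective (R := ℂ) ((hval ⟨χ, hχ⟩).symm.trans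
      (hcoeff e (by rw [he, classInner_smul_left, classInner_isIrr_self hθ, mul_one])))
    rw [← Finset.add_sum_erase _ _ (Finset.mem_univ (⟨χ, hχ⟩ : Cfsg.IrrCharacter G)), h1, ← he2,
      sq] at hsq
    have h2 : ∑ ψ ∈ Finset.univ.erase (⟨χ, hχ⟩ : Cfsg.IrrCharacter G), m ψ * m ψ = 0 := by omega
    by_contra hne'
    have h3 := Finset.sum_eq_zero_iff.1 h2 ⟨ψ, hψ⟩
      (Finset.mem_erase.2 ⟨fun h => hne' (congrArg Subtype.val h), Finset.mem_univ _⟩)
    exact hne (by rw [hval ⟨ψ, hψ⟩, mul_self_eq_zero.1 h3, Nat.cast_zero])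
  · intro h
    have hinv := fun g n => (h g n).1
    obtain ⟨e, he, he'⟩ := hmult hinv
    obtain ⟨m, -, hval, hsq⟩ := exists_coeff_indFun N hθ hinv
    refine ⟨e, he, ?_⟩
    have h1 : m ⟨χ, hχ⟩ = e :=
      Nat.cast_injective (R := ℂ) ((hval ⟨χ, hχ⟩).symm.trans (hcoeff e he'))
    rw [← hsq, ← Finset.add_sum_erase _ _ (Finset.mem_univ (⟨χ, hχ⟩ : Cfsg.IrrCharacter G)), h1,
      Finset.sum_eq_zero, add_zero, sq]
    intro ψ hψ
    have : m ψ = 0 := by
      by_contra h0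
      refine (Finset.mem_erase.1 hψ).1 (Subtype.ext ((h 1 1).2 _ ψ.2 ?_))
      rw [hval]
      exact_mod_cast h0
    rw [this, mul_zero]

/-- Multiplication by an extension. -/
theorem bijOn_mul {φ θ : N → ℂ} (hφ : Cfsg.IsIrrCharacter N φ)
    (hφinv : ∀ (g : G) (n : N), φ ⟨g * n * g⁻¹, hN.conj_mem n n.2 g⟩ = φ n)
    (hθinv : ∀ (g : G) (n : N), θ ⟨g * n * g⁻¹, hN.conj_mem n n.2 g⟩ = θ n)
    (hprod : Cfsg.IsIrrCharacter N (φ * θ)) {χ : G → ℂ} (hχ : Cfsg.IsIrrCharacter G χ)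
    (hext : ∀ n : N, χ n = θ n) :
    Set.BijOn (fun β : G → ℂ => β * χ)
      {β : G → ℂ | Cfsg.IsIrrCharacter G β ∧ Cfsg.classInner (Cfsg.indFun N φ) β ≠ 0}
      {ψ : G → ℂ | Cfsg.IsIrrCharacter G ψ ∧
        Cfsg.classInner (Cfsg.indFun N (φ * θ)) ψ ≠ 0} := by
  classical
  obtain ⟨m, hm, hval, hsq⟩ := exists_coeff_indFun N hφ hφinv
  let F : Cfsg.IrrCharacter G → G → ℂ := fun β => (β : G → ℂ) * χ
  have hF : ∀ β, Cfsg.IsCharacter G (F β) := fun β =>
    isCharacter_mul (isCharacter_of_isIrr β.2) (isCharacter_of_isIrr hχ)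
  have hne : ∀ β, m β ≠ 0 → F β 1 ≠ 0 := fun β _ =>
    mul_ne_zero (irr_one_ne_zero β.2) (irr_one_ne_zero hχ)
  have hexp : Cfsg.indFun N (φ * θ) = ∑ β, (m β : ℂ) • F β := by
    have h1 := indFun_mul N φ (isClassFunction_of_isIrr hχ)
    rw [show (fun h : N => φ h * χ h) = φ * θ from funext fun h => by rw [hext]; rfl] at h1
    rw [h1, hm]
    funext g
    simp [F, Finset.sum_apply, Finset.sum_mul, mul_assoc]
  have hnorm := norm_indFun N hprod fun g n => by
    rw [Pi.mul_apply, Pi.mul_apply, hφinv, hθinv]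
  rw [hexp, ← hsq] at hnorm
  have horth := orthonormal_of_norm m hF hne hnorm
  have hirr : ∀ β, m β ≠ 0 → Cfsg.IsIrrCharacter G (F β) := fun β hβ =>
    isIrr_of_classInner_self (hF β) (by rw [horth β β hβ hβ, if_pos rfl])
  have hinner : ∀ β, m β ≠ 0 →
      Cfsg.classInner (Cfsg.indFun N (φ * θ)) (F β) = m β := fun β hβ => by
    rw [hexp, classInner_sum_left, Finset.sum_eq_single β]
    · rw [classInner_smul_left, horth β β hβ hβ, if_pos rfl, mul_one]
    · intro γ _ hγ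
      rw [classInner_smul_left]
      rcases eq_or_ne (m γ) 0 with h | h
      · rw [h, Nat.cast_zero, zero_mul]
      · rw [horth γ β h hβ, if_neg hγ, mul_zero]
    · simp
  have hmem : ∀ β, Cfsg.IsIrrCharacter G β → Cfsg.classInner (Cfsg.indFun N φ) β ≠ 0 →
      ∃ β' : Cfsg.IrrCharacter G, (β' : G → ℂ) = β ∧ m β' ≠ 0 := fun β hβ hne' =>
    ⟨⟨β, hβ⟩, rfl, fun h0 => hne' (by rw [hval ⟨β, hβ⟩, h0, Nat.cast_zero])⟩
  refine ⟨?_, ?_, ?_⟩
  · rintro β ⟨hβ, hne'⟩
    obtain ⟨β', rfl, hm0⟩ := hmem β hβ hne'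
    exact ⟨hirr β' hm0, by rw [hinner β' hm0]; exact_mod_cast hm0⟩
  · rintro β ⟨hβ, hne₁⟩ γ ⟨hγ, hne₂⟩ h
    obtain ⟨β', rfl, hβ'⟩ := hmem β hβ hne₁
    obtain ⟨γ', rfl, hγ'⟩ := hmem γ hγ hne₂
    by_contra hne'
    have h1 := horth β' γ' hβ' hγ'
    rw [if_neg fun he => hne' (congrArg Subtype.val he), show F β' = F γ' from h,
      horth γ' γ' hγ' hγ', if_pos rfl] at h1
    exact one_ne_zero h1
  · rintro ψ ⟨hψ, hne'⟩
    rw [hexp, classInner_sum_left] at hne'
    obtain ⟨β, -, hβ⟩ := Finset.exists_ne_zero_of_sum_ne_zero hne'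
    rw [classInner_smul_left] at hβ
    have hm0 : m β ≠ 0 := fun h0 => hβ (by rw [h0, Nat.cast_zero, zero_mul])
    refine ⟨β, ⟨β.2, by rw [hval]; exact_mod_cast hm0⟩, ?_⟩
    by_contra hne''
    exact hβ (by rw [classInner_isIrr_ne (hirr β hm0) hψ hne'', mul_zero])

end CfsgLib.CharactersDeep.Ramification
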