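import Cfsg.Agent.SquareRoots.Basic
import Mathlib.LinearAlgebra.Matrix.Determinant.Basic

/-!
# Real characters of odd degree have indicator 1

A nonzero invariant bilinear form of an irreducible representation is non-degenerate, and a
non-degenerate alternating form lives in even dimension.
-/

set_option autoImplicit false
set_option linter.style.haveILetI false
set_option linter.unusedSectionVars false

namespace CfsgLib.CharactersDeep.OddDegreeIndicator

open scoped ComplexConjugate
open Matrix CfsgLib.SquareRoots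

universe u

variable {G : Type u} [Group G] {n : ℕ}

/-- A nonzero invariant form is non-degenerate. -/
theorem det_ne_zero_of_invariant (ρ : Representation ℂ G (Fin n → ℂ)) [ρ.IsIrreducible]
    {J : Matrix (Fin n) (Fin n) ℂ} (hJ : J ∈ (sqRep ρ).invariants) (h0 : J ≠ 0) : J.det ≠ 0 := by
  have hA : ∀ (g : G) (v : Fin n → ℂ), LinearMap.toMatrix' (ρ g) *ᵥ v = ρ g v := fun g v => by
    rw [← Matrix.toLin'_apply, Matrix.toLin'_toMatrix']
  have hcom : ∀ g : G, LinearMap.toMatrix' (ρ g) * J = J * (LinearMap.toMatrix' (ρ g⁻¹))ᵀ := by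
    intro g
    have h := congrArg (· * (LinearMap.toMatrix' (ρ g⁻¹))ᵀ) (hJ g)
    simp only [sqRep_apply, Matrix.mul_assoc, ← Matrix.transpose_mul, ← LinearMap.toMatrix'_mul,
      ← map_mul, inv_mul_cancel, map_one] at h
    rw [show LinearMap.toMatrix' (1 : Module.End ℂ (Fin n → ℂ)) = 1 from LinearMap.toMatrix'_id,
      Matrix.transpose_one, Matrix.mul_one] at h
    exact h
  let W : Subrepresentation ρ :=
    { toSubmodule := LinearMap.range J.mulVecLin
      apply_mem_toSubmodule := fun g v hv => by
        obtain ⟨w, rfl⟩ := hv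
        refine ⟨(LinearMap.toMatrix' (ρ g⁻¹))ᵀ *ᵥ w, ?_⟩
        rw [Matrix.mulVecLin_apply, Matrix.mulVecLin_apply, Matrix.mulVec_mulVec, ← hcom,
          ← Matrix.mulVec_mulVec, hA] }
  rcases IsSimpleOrder.eq_bot_or_eq_top W with h | h
  · refine absurd ?_ h0
    have hz : J.mulVecLin = 0 := LinearMap.range_eq_bot.1 (congrArg Subrepresentation.toSubmodule h)
    exact Matrix.ext_iff_mulVec.2 fun v => by simpa using LinearMap.congr_fun hz v
  · have hs : Function.Surjective J.mulVecLin :=
      LinearMap.range_eq_top.1 (congrArg Subrepresentation.toSubmodule h)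
    exact ((Matrix.isUnit_iff_isUnit_det J).1 (Matrix.mulVec_surjective_iff_isUnit.1 hs)).ne_zero

/-- The indicator of a real irreducible character of odd degree is 1. -/
theorem indicator_aux [Fintype G] (ρ : Representation ℂ G (Fin n → ℂ)) [ρ.IsIrreducible]
    (heq : (fun g => conj (ρ.character g)) = ρ.character) (hodd : Odd n) :
    (Nat.card G : ℂ)⁻¹ * ∑ g : G, ρ.character (g * g) = 1 := by
  classical
  refine ((indicator_cases_aux ρ).2 heq).resolve_right fun hneg => ?_
  letI := invertibleOfNonzero (CfsgLib.Characters.natCard_ne_zero (G := G))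
  haveI : Invertible (Fintype.card G : ℂ) := by
    rw [Fintype.card_eq_nat_card]; infer_instance
  set P := (sqRep ρ).averageMap with hP
  have hproj := Representation.isProj_averageMap (ρ := sqRep ρ)
  have hPval : P = (Nat.card G : ℂ)⁻¹ • ∑ g : G, sqRep ρ g := by
    rw [hP, Representation.averageMap, GroupAlgebra.average, map_smul, map_sum, invOf_eq_inv,
      Nat.card_eq_fintype_card]
    simp [Representation.asAlgebraHom]
  have hν : LinearMap.trace ℂ _ (transposeLin n ∘ₗ P) = -1 := by
    rw [← hneg, hPval, LinearMap.comp_smul, map_smul, smul_eq_mul, ← Module.End.mul_eq_comp,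
      Finset.mul_sum, map_sum]
    simp only [Module.End.mul_eq_comp]
    simp only [trace_transpose_sqRep]
  have hrank : (Module.finrank ℂ (sqRep ρ).invariants : ℂ) = 1 := by
    rw [← CfsgLib.Characters.classInner_isIrr_self (CfsgLib.Characters.isIrrCharacter_character ρ),
      ← Representation.card_inv_mul_sum_char_eq_finrank, Cfsg.classInner]
    simp only [char_sqRep, congrFun heq]
  rw [← Nat.cast_one, Nat.cast_inj] at hrank
  obtain ⟨⟨J, hJ⟩, hJ0, hJspan⟩ := finrank_eq_one_iff'.1 hrank
  have hJne : J ≠ 0 := fun h => hJ0 (Subtype.ext h)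
  have hJT : Jᵀ ∈ (sqRep ρ).invariants := by
    intro g
    have := congrArg Matrix.transpose (hJ g)
    rw [sqRep_apply, Matrix.transpose_mul, Matrix.transpose_mul, Matrix.transpose_transpose,
      ← Matrix.mul_assoc] at this
    rw [sqRep_apply]
    exact this
  obtain ⟨ε, hε⟩ := hJspan ⟨Jᵀ, hJT⟩
  have hεJ : ε • J = Jᵀ := congrArg Subtype.val hε
  have hcomp : transposeLin n ∘ₗ P = ε • P := by
    refine LinearMap.ext fun E => ?_
    obtain ⟨c, hc⟩ := hJspan ⟨P E, hproj.map_mem E⟩
    have hc' : c • J = P E := congrArg Subtype.val hc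
    rw [LinearMap.comp_apply, transposeLin_apply, LinearMap.smul_apply, ← hc',
      Matrix.transpose_smul, ← hεJ, smul_comm]
  rw [hcomp, map_smul, hP, hproj.trace, hrank, Nat.cast_one, smul_eq_mul, mul_one] at hν
  have hd := congrArg Matrix.det hεJ
  rw [Matrix.det_smul, Matrix.det_transpose, Fintype.card_fin, hν, hodd.neg_one_pow, neg_one_mul,
    neg_eq_self] at hd
  exact det_ne_zero_of_invariant ρ hJ hJne hd

theorem indicator_eq_one [Fintype G] {χ : G → ℂ} (hχ : Cfsg.IsIrrCharacter G χ)
    (hreal : ∀ g, (χ g).im = 0) {d : ℕ} (hd : χ 1 = d) (hodd : Odd d) :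
    (Nat.card G : ℂ)⁻¹ * ∑ s : G, χ (s * s) = 1 := by
  obtain ⟨n, ρ, hρ, rfl⟩ := hχ
  refine indicator_aux ρ (funext fun g => Complex.conj_eq_iff_im.2 (hreal g)) ?_
  rw [Representation.char_one, Module.finrank_fin_fun] at hd
  rwa [show n = d by exact_mod_cast hd]

end CfsgLib.CharactersDeep.OddDegreeIndicator
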