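import Cfsg.Agent.CharactersDeep.Zassenhaus
import Cfsg.Agent.OddOrder.CN.Frobenius
import Cfsg.Agent.Zassenhaus.Basic
import Mathlib.GroupTheory.Transfer
import Mathlib.GroupTheory.SpecificGroups.ZGroup

/-!
# Simple Zassenhaus groups with two-point stabiliser of odd order

The transfer into the two-point stabiliser shows that every element interchanging the two points
inverts it, so it is abelian, indeed cyclic.
-/

set_option autoImplicit false
set_option linter.style.haveILetI false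
set_option linter.unusedSectionVars false

namespace CfsgLib.CharactersDeep.ZassenhausOdd

open MulAction

variable {G Ω : Type*} [Group G] [Finite G] [MulAction G Ω]

/-- A simple Zassenhaus group has no non-trivial homomorphism to an abelian group. -/
theorem hom_eq_one (hZ : Cfsg.IsZassenhausGroup G Ω) [IsSimpleGroup G] {A : Type*} [CommGroup A]
    (f : G →* A) (g : G) : f g = 1 := by
  haveI := hZ.1
  rcases (MonoidHom.normal_ker f).eq_bot_or_eq_top with h | h
  · exfalso
    have hcomm : ∀ x y : G, x * y = y * x := fun x y =>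
      (MonoidHom.ker_eq_bot_iff f).1 h (by rw [map_mul, map_mul, mul_comm])
    obtain ⟨x, hx, a, b, hab, hxa, -⟩ := hZ.2.2.2.1
    refine hx (FaithfulSMul.eq_of_smul_eq_smul (α := Ω) fun c => ?_)
    rw [one_smul]
    by_cases hc : c = a
    · rw [hc, hxa]
    obtain ⟨k, hk, -⟩ := Zassenhaus.two_transitive hZ hab hc
    rw [← hk, ← mul_smul, hcomm, mul_smul, hxa]
  · exact MonoidHom.mem_ker.1 (h ▸ Subgroup.mem_top g : g ∈ f.ker)

variable {a b : Ω} (hZ : Cfsg.IsZassenhausGroup G Ω) (hab : a ≠ b)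

local notation "stE" => (stabilizer G a ⊓ stabilizer G b)

include hab hZ

theorem mem_stE {x : G} : x ∈ stE ↔ x • a = a ∧ x • b = b := by
  simp [Subgroup.mem_inf, mem_stabilizer_iff]

/-- An element of `E` moved into `E` by conjugation. -/
theorem cases_of_conj_mem {x c : G} (hx : x ∈ stE) (hx1 : x ≠ 1) (h : c⁻¹ * x * c ∈ stE) :
    (c • a = a ∧ c • b = b) ∨ (c • a = b ∧ c • b = a) := by
  obtain ⟨hxa, hxb⟩ := (mem_stE hZ hab).1 hx
  obtain ⟨h1, h2⟩ := (mem_stE hZ hab).1 h
  rw [mul_smul, mul_smul, inv_smul_eq_iff] at h1 h2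
  have key : ∀ d : Ω, x • d = d → d = a ∨ d = b := fun d hd => by
    by_contra hne
    push Not at hne
    exact hx1 (Zassenhaus.eq_one_of_fix_three hZ hab hne.2.symm hne.1.symm hxa hxb hd)
  have hne : c • a ≠ c • b := fun e => hab ((smul_left_cancel_iff c).1 e)
  rcases key _ h1 with e1 | e1 <;> rcases key _ h2 with e2 | e2
  · exact absurd (e1.trans e2.symm) hne
  · exact Or.inl ⟨e1, e2⟩
  · exact Or.inr ⟨e1, e2⟩
  · exact absurd (e1.trans e2.symm) hne

theorem conj_mem_of_swap {s x : G} (hsa : s • a = b) (hsb : s • b = a) (hx : x ∈ stE) :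
    s⁻¹ * x * s ∈ stE := by
  obtain ⟨hxa, hxb⟩ := (mem_stE hZ hab).1 hx
  refine (mem_stE hZ hab).2 ⟨?_, ?_⟩ <;> rw [mul_smul, mul_smul, inv_smul_eq_iff]
  · rw [hsa, hxb]
  · rw [hsb, hxa]

omit hab in
/-- In a simple Zassenhaus group the two-point stabiliser lies in the derived group. -/
theorem stE_le_commutator [IsSimpleGroup G] : stE ≤ commutator G := fun x _ => by
  rw [← Abelianization.ker_of, MonoidHom.mem_ker]
  exact hom_eq_one hZ _ x

/-- The transfer identity. -/
theorem hom_swap_mul (hcom : stE ≤ commutator G) {A : Type*} [CommGroup A] (μ : ↥stE →* A) {s : G}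
    (hsa : s • a = b) (hsb : s • b = a) (x : ↥stE) :
    μ x * μ ⟨s⁻¹ * x * s, conj_mem_of_swap hZ hab hsa hsb x.2⟩ = 1 := by
  classical
  by_cases hx1 : (x : G) = 1
  · have h1 : x = 1 := Subtype.ext hx1
    subst h1
    rw [show (⟨s⁻¹ * ((1 : ↥stE) : G) * s, conj_mem_of_swap hZ hab hsa hsb (1 : ↥stE).2⟩ : ↥stE) = 1
      from Subtype.ext (by simp), map_one, mul_one]
  haveI : Subgroup.FiniteIndex (stE : Subgroup G) := Subgroup.finiteIndex_of_finite
  have hV : MonoidHom.transfer μ (x : G) = 1 :=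
    Abelianization.commutator_subset_ker (MonoidHom.transfer μ) (hcom x.2)
  haveI := Fintype.ofFinite (Quotient (orbitRel (Subgroup.zpowers (x : G)) (G ⧸ (stE : Subgroup G))))
  rw [MonoidHom.transfer_eq_prod_quotient_orbitRel_zpowers_quot] at hV
  have hs : s⁻¹ * x * s ∈ stE := conj_mem_of_swap hZ hab hsa hsb x.2
  have hfix : ∀ c : G, c⁻¹ * x * c ∈ stE →
      (x : G) • (c : G ⧸ (stE : Subgroup G)) = (c : G ⧸ (stE : Subgroup G)) := fun c hc => by
    rw [MulAction.Quotient.smul_coe, smul_eq_mul, eq_comm, QuotientGroup.eq, ← mul_assoc]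
    exact hc
  have huniq : ∀ (c : G), c⁻¹ * x * c ∈ stE → ∀ q,
      q = (Quotient.mk'' (c : G ⧸ (stE : Subgroup G)) :
        Quotient (orbitRel (Subgroup.zpowers (x : G)) (G ⧸ (stE : Subgroup G)))) →
      q.out = (c : G ⧸ (stE : Subgroup G)) := by
    intro c hc q hq
    have h1 : Quotient.mk'' q.out = (Quotient.mk'' (c : G ⧸ (stE : Subgroup G)) :
        Quotient (orbitRel (Subgroup.zpowers (x : G)) (G ⧸ (stE : Subgroup G)))) := by
      rw [Quotient.out_eq', hq]
    obtain ⟨⟨g, hg⟩, hgg⟩ := Quotient.exact' h1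
    change g • (c : G ⧸ (stE : Subgroup G)) = q.out at hgg
    rw [← hgg]
    obtain ⟨i, rfl⟩ := Subgroup.mem_zpowers_iff.1 hg
    exact mem_stabilizer_iff.1 (zpow_mem (mem_stabilizer_iff.2 (hfix c hc)) i)
  have hperiod : ∀ (c : G), c⁻¹ * x * c ∈ stE → ∀ q : G ⧸ (stE : Subgroup G), q = (c : G ⧸ (stE : Subgroup G)) →
      Function.minimalPeriod ((x : G) • ·) q = 1 := fun c hc q hq => by
    rw [Function.minimalPeriod_eq_one_iff_isFixedPt, hq]
    exact hfix c hc
  -- value of a factor at a representative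
  have hval : ∀ (c d : G) (hd : d⁻¹ * x * d ∈ stE), (c : G ⧸ (stE : Subgroup G)) = d →
      ∀ (h : c⁻¹ * (x : G) * c ∈ stE), μ ⟨_, h⟩ = μ ⟨_, hd⟩ := by
    intro c d hd hcd h
    have he : d⁻¹ * c ∈ stE := QuotientGroup.eq.1 hcd.symm
    have h2 : (⟨_, h⟩ : ↥stE) = (⟨_, he⟩ : ↥stE)⁻¹ * ⟨_, hd⟩ * ⟨_, he⟩ :=
      Subtype.ext (by simp [mul_assoc])
    rw [h2, map_mul, map_mul, map_inv, mul_comm, mul_inv_cancel_left]
  set q₁ : Quotient (orbitRel (Subgroup.zpowers (x : G)) (G ⧸ (stE : Subgroup G))) :=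
    Quotient.mk'' ((1 : G) : G ⧸ (stE : Subgroup G))
  set q₂ : Quotient (orbitRel (Subgroup.zpowers (x : G)) (G ⧸ (stE : Subgroup G))) :=
    Quotient.mk'' ((s : G) : G ⧸ (stE : Subgroup G))
  have h1mem : (1 : G)⁻¹ * x * 1 ∈ stE := by simpa using x.2
  have hq : q₁ ≠ q₂ := fun h => by
    have h' := (huniq 1 h1mem q₁ rfl).symm.trans (huniq s hs q₁ h)
    rw [QuotientGroup.eq, inv_one, one_mul, mem_stE hZ hab, hsa] at h'
    exact hab h'.1.symm
  have factor : ∀ (d : G) (hd : d⁻¹ * x * d ∈ stE) (q : Quotient (orbitRel (Subgroup.zpowers (x : G)) (G ⧸ (stE : Subgroup G)))),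
      q = Quotient.mk'' (d : G ⧸ (stE : Subgroup G)) →
      μ ⟨q.out.out⁻¹ * (x : G) ^ Function.minimalPeriod ((x : G) • ·) q.out * q.out.out,
        QuotientGroup.out_conj_pow_minimalPeriod_mem (stE : Subgroup G) (x : G) q.out⟩ =
        μ ⟨d⁻¹ * x * d, hd⟩ := by
    intro d hd q hq'
    have hout := huniq d hd q hq'
    have hk := hperiod d hd q.out hout
    have hc : ((q.out.out : G) : G ⧸ (stE : Subgroup G)) = d := (QuotientGroup.out_eq' _).trans hout
    have hmem : q.out.out⁻¹ * (x : G) * q.out.out ∈ stE := by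
      have h := QuotientGroup.out_conj_pow_minimalPeriod_mem (stE : Subgroup G) (x : G) q.out
      rwa [hk, pow_one] at h
    rw [← hval q.out.out d hd hc hmem]
    exact congrArg μ (Subtype.ext (by simp only [hk, pow_one]))
  rw [Finset.prod_eq_mul q₁ q₂ hq ?_ (fun h => absurd (Finset.mem_univ _) h)
    (fun h => absurd (Finset.mem_univ _) h), factor 1 h1mem q₁ rfl, factor s hs q₂ rfl] at hV
  · rwa [show (⟨(1 : G)⁻¹ * x * 1, h1mem⟩ : ↥stE) = x from Subtype.ext (by simp)] at hV
  · rintro q - ⟨hne1, hne2⟩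
    set k := Function.minimalPeriod ((x : G) • ·) q.out with hk
    set c := q.out.out with hc
    have hcC : ((c : G) : G ⧸ (stE : Subgroup G)) = q.out := QuotientGroup.out_eq' _
    have hmem : c⁻¹ * (x : G) ^ k * c ∈ stE :=
      QuotientGroup.out_conj_pow_minimalPeriod_mem (stE : Subgroup G) (x : G) q.out
    suffices (x : G) ^ k = 1 by
      refine (congrArg μ (Subtype.ext ?_ : (⟨_, hmem⟩ : ↥stE) = 1)).trans (map_one μ)
      show c⁻¹ * (x : G) ^ k * c = 1
      rw [this, mul_one, inv_mul_cancel]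
    by_contra hxk
    rcases cases_of_conj_mem hZ hab (pow_mem x.2 k) hxk hmem with ⟨h1, h2⟩ | ⟨h1, h2⟩
    · refine hne1 ?_
      have : (c : G ⧸ (stE : Subgroup G)) = ((1 : G) : G ⧸ (stE : Subgroup G)) := by
        rw [eq_comm, QuotientGroup.eq, inv_one, one_mul]
        exact (mem_stE hZ hab).2 ⟨h1, h2⟩
      rw [← Quotient.out_eq' q, ← hcC, this]
    · refine hne2 ?_
      have : (c : G ⧸ (stE : Subgroup G)) = ((s : G) : G ⧸ (stE : Subgroup G)) := by
        rw [eq_comm, QuotientGroup.eq]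
        refine (mem_stE hZ hab).2 ⟨?_, ?_⟩ <;> rw [mul_smul, inv_smul_eq_iff]
        · rw [h1, hsa]
        · rw [h2, hsb]
      rw [← Quotient.out_eq' q, ← hcC, this]

omit hZ hab in
theorem commutator_subtype {M : Type*} [Group M] (X : Subgroup M) (x y : X) :
    Abelianization.of x = Abelianization.of y → x⁻¹ * y ∈ commutator X := fun h => by
  rw [← Abelianization.ker_of, MonoidHom.mem_ker, map_mul, map_inv, h, inv_mul_cancel]

/-- The two-point stabiliser is a Z-group when its order is odd. -/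
theorem isZGroup_stE (hodd : Odd (Nat.card ↥stE)) [Finite Ω] : IsZGroup ↥stE := by
  classical
  obtain ⟨Q, hQle, hQn, hQfix, hQtr, -, hQcard, -⟩ := CfsgLib.Zassenhaus.exists_kernel hZ a
  set M := stabilizer G a with hM
  haveI : (Q.subgroupOf M).Normal := ⟨fun x hx g => hQn g g.2 x hx⟩
  have hQ1 : Q.subgroupOf M ≠ ⊥ := by
    intro h
    rw [Subgroup.subgroupOf_eq_bot, disjoint_iff, inf_eq_left.2 hQle] at h
    obtain ⟨c, hca, hcb⟩ := Zassenhaus.exists_third hZ hab
    obtain ⟨y, hy, hyc⟩ := hQtr b c hab.symm hca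
    rw [h, Subgroup.mem_bot] at hy
    rw [hy, one_smul] at hyc
    exact hcb hyc.symm
  have hfpf : ∀ h ∈ (stE).subgroupOf M, h ≠ 1 →
      Q.subgroupOf M ⊓ Subgroup.centralizer ({h} : Set M) = ⊥ := by
    intro h hh hh1
    rw [Subgroup.eq_bot_iff_forall]
    intro y hy
    obtain ⟨hyQ, hyc⟩ := Subgroup.mem_inf.1 hy
    rw [Subgroup.mem_centralizer_singleton_iff] at hyc
    obtain ⟨hha, hhb⟩ := (mem_stE hZ hab).1 (Subgroup.mem_subgroupOf.1 hh)
    by_contra hy1
    exact hh1 (Subtype.ext (CfsgLib.Zassenhaus.fpf_kernel hZ hab (hQle hyQ)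
      (hQfix _ hyQ fun e => hy1 (Subtype.ext e)) hha hhb (congrArg Subtype.val hyc).symm))
  have e := Subgroup.subgroupOfEquivOfLe (inf_le_left : stE ≤ M)
  haveI := CfsgLib.OddOrder.CN.isZGroup_of_fpf (K := Q.subgroupOf M) (E := (stE).subgroupOf M) hQ1 hfpf
    le_rfl (by rw [Nat.card_congr e.toEquiv]; exact hodd)
  exact IsZGroup.of_surjective (f := e.toMonoidHom) e.surjective

/-- The two-point stabiliser of odd order is inverted by the swaps. -/
theorem inverts_of_le_commutator (hcom : stE ≤ commutator G) [Finite Ω]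
    (hodd : Odd (Nat.card ↥stE)) {s x : G}
    (hsa : s • a = b) (hsb : s • b = a) (hx : x ∈ stE) : s * x * s⁻¹ = x⁻¹ := by
  classical
  haveI := isZGroup_stE hZ hab hodd
  have hsa' : s⁻¹ • a = b := by rw [inv_smul_eq_iff, hsb]
  have hsb' : s⁻¹ • b = a := by rw [inv_smul_eq_iff, hsa]
  have hmem : ∀ y : ↥stE, s * (y : G) * s⁻¹ ∈ stE := fun y => by
    simpa using conj_mem_of_swap hZ hab hsa' hsb' y.2
  let τ : ↥stE →* ↥stE := MonoidHom.mk' (fun y => ⟨_, hmem y⟩) fun y z => Subtype.ext (by simp [mul_assoc])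
  -- modulo the derived group
  have hτ : ∀ y, Abelianization.of (τ y) = (Abelianization.of y)⁻¹ := fun y => by
    refine eq_inv_of_mul_eq_one_right ?_
    rw [← hom_swap_mul hZ hab hcom Abelianization.of hsa' hsb' y]
    congr 2
    exact Subtype.ext (by simp [τ])
  -- the derived group is central
  haveI : IsCyclic (commutator ↥stE) := IsZGroup.isCyclic_commutator _
  let C := commutator ↥stE
  have hCcomm : ∀ u v : C, u * v = v * u := fun u v => (IsCyclic.commGroup (α := C)).mul_comm u v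
  obtain ⟨m, hm⟩ : ∃ m : ℕ, Nat.card ↥stE = 2 * m + 1 := hodd
  have hcentral : ∀ (y : ↥stE) (c : C), y * (c : ↥stE) * y⁻¹ = c := by
    intro y c
    obtain ⟨g, hg⟩ := IsCyclic.exists_generator (α := C)
    -- conjugation and `τ` are powers on the cyclic group `C`
    have hpow : ∀ f : C →* C, ∀ k : C →* C, ∀ u, f (k u) = k (f u) := by
      intro f k u
      obtain ⟨i, hi⟩ := Subgroup.mem_zpowers_iff.1 (hg u)
      obtain ⟨p, hp⟩ := Subgroup.mem_zpowers_iff.1 (hg (f g))
      obtain ⟨q, hq⟩ := Subgroup.mem_zpowers_iff.1 (hg (k g))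
      rw [← hi, map_zpow, map_zpow, map_zpow, map_zpow, ← hp, ← hq, map_zpow, map_zpow, ← hp,
        ← hq, ← zpow_mul, ← zpow_mul, ← zpow_mul, ← zpow_mul]
      congr 1
      ring
    have hτC : ∀ z : ↥stE, z ∈ C → τ z ∈ C := fun z hz =>
      Subgroup.map_le_iff_le_comap.1 (show C.map τ ≤ C by
        simp only [C, commutator_def, Subgroup.map_commutator]
        exact Subgroup.commutator_mono le_top le_top) hz
    let τC : C →* C := (τ.comp C.subtype).codRestrict C fun z => hτC _ z.2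
    let cj : ↥stE → C →* C := fun z => (MulAut.conjNormal (H := C) z).toMonoidHom
    have hcj : ∀ z u, ((cj z u : C) : ↥stE) = z * u * z⁻¹ := fun z u => MulAut.conjNormal_apply z u
    have hτsurj : Function.Surjective τC := Finite.surjective_of_injective fun u v h => by
      have h1 : τ (u : ↥stE) = τ (v : ↥stE) := congrArg Subtype.val h
      have h2 := congrArg Subtype.val h1
      simp only [τ, MonoidHom.mk'_apply, mul_left_inj, mul_right_inj] at h2
      exact Subtype.ext (Subtype.ext h2)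
    -- `y` and `y⁻¹` act alike
    have hsame : ∀ u, cj y u = cj y⁻¹ u := by
      intro u
      obtain ⟨v, rfl⟩ := hτsurj u
      have h1 : τC (cj y v) = cj (τ y) (τC v) := Subtype.ext (by
        show τ ((cj y v : C) : ↥stE) = _
        rw [hcj, hcj, map_mul, map_mul, map_inv]
        rfl)
      have h2 := commutator_subtype _ (y⁻¹) (τ y) (by rw [hτ, map_inv])
      have h3 : cj (τ y) (τC v) = cj y⁻¹ (τC v) := by
        apply Subtype.ext
        rw [hcj, hcj]
        have h4 := congrArg Subtype.val (hCcomm ⟨_, h2⟩ (τC v))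
        calc τ y * (τC v : ↥stE) * (τ y)⁻¹
            = y⁻¹ * (((y⁻¹)⁻¹ * τ y) * (τC v : ↥stE)) * (τ y)⁻¹ := by group
          _ = y⁻¹ * ((τC v : ↥stE) * ((y⁻¹)⁻¹ * τ y)) * (τ y)⁻¹ := by
            rw [show ((y⁻¹)⁻¹ * τ y) * (τC v : ↥stE) = (τC v : ↥stE) * ((y⁻¹)⁻¹ * τ y) from h4]
          _ = _ := by group
      rw [hpow (cj y) τC v, h1, h3]
    have h2 : ∀ u : C, (y * y) * (u : ↥stE) * (y * y)⁻¹ = u := fun u => by
      have h := congrArg Subtype.val (hsame u)
      rw [hcj, hcj, inv_inv] at h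
      calc y * y * (u : ↥stE) * (y * y)⁻¹ = y * (y * u * y⁻¹) * y⁻¹ := by group
        _ = u := by rw [h]; group
    have hy : (y * y) ^ (m + 1) = y := by
      rw [← pow_two, ← pow_mul, show 2 * (m + 1) = (2 * m + 1) + 1 by ring, pow_succ, ← hm,
        pow_card_eq_one', one_mul]
    have h3 : Commute ((y * y) ^ (m + 1)) (c : ↥stE) :=
      (show Commute (y * y) (c : ↥stE) from mul_inv_eq_iff_eq_mul.1 (h2 c)).pow_left _
    rw [hy] at h3
    exact mul_inv_eq_iff_eq_mul.2 h3
  -- a nilpotent Z-group is cyclic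
  haveI : Group.IsNilpotent ↥stE := by
    letI : Group.IsNilpotent (Abelianization ↥stE) := inferInstance
    refine Subgroup.isNilpotent_of_ker_le_center Abelianization.of ?_
    intro c hc
    rw [Abelianization.ker_of] at hc
    exact Subgroup.mem_center_iff.2 fun w => mul_inv_eq_iff_eq_mul.1 (hcentral w ⟨c, hc⟩)
  haveI : IsCyclic ↥stE := inferInstance
  letI := IsCyclic.commGroup (α := ↥stE)
  have h := hom_swap_mul hZ hab hcom (MonoidHom.id ↥stE) hsa' hsb' ⟨x, hx⟩
  have h' : x * (s⁻¹⁻¹ * x * s⁻¹) = 1 := congrArg Subtype.val h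
  rw [inv_inv] at h'
  exact eq_inv_of_mul_eq_one_right h'

/-- The two-point stabiliser of odd order is inverted by the swaps, simple case. -/
theorem inverts [IsSimpleGroup G] [Finite Ω] (hodd : Odd (Nat.card ↥stE)) {s x : G}
    (hsa : s • a = b) (hsb : s • b = a) (hx : x ∈ stE) : s * x * s⁻¹ = x⁻¹ :=
  inverts_of_le_commutator hZ hab (stE_le_commutator hZ) hodd hsa hsb hx

/-- The two-point stabiliser of odd order is abelian. -/
theorem comm_of_le_commutator (hcom : stE ≤ commutator G) [Finite Ω] (hodd : Odd (Nat.card ↥stE))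
    {x y : G} (hx : x ∈ stE) (hy : y ∈ stE) : x * y = y * x := by
  obtain ⟨s, hsa, hsb⟩ := Zassenhaus.two_transitive hZ hab hab.symm
  have h1 := inverts_of_le_commutator hZ hab hcom hodd hsa hsb (mul_mem hx hy)
  rw [← conj_mul, inverts_of_le_commutator hZ hab hcom hodd hsa hsb hx,
    inverts_of_le_commutator hZ hab hcom hodd hsa hsb hy] at h1
  rw [← mul_inv_rev] at h1
  exact (inv_injective h1).symm

/-- The two-point stabiliser of odd order is abelian, simple case. -/
theorem comm [IsSimpleGroup G] [Finite Ω] (hodd : Odd (Nat.card ↥stE)) {x y : G}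
    (hx : x ∈ stE) (hy : y ∈ stE) : x * y = y * x :=
  comm_of_le_commutator hZ hab (stE_le_commutator hZ) hodd hx hy

end CfsgLib.CharactersDeep.ZassenhausOdd
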