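import Cfsg.Agent.CharactersDeep.ZassenhausCoherent
import Cfsg.Agent.Coherence.TIKernel
import Cfsg.Agent.Coherence.FrobeniusTheorem

/-!
# Feit's inequality for Zassenhaus groups with two-point stabiliser of odd order
-/

set_option autoImplicit false
set_option linter.style.haveILetI false
set_option linter.unusedSectionVars false

namespace CfsgLib.CharactersDeep.ZassenhausOdd

open MulAction CfsgLib.Characters

/-- The conclusion, with `k` the order of the kernel. -/
def Conclusion {G : Type*} [Group G] (H : Subgroup G) (e : ℕ) : Prop :=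
  Nat.card H - 1 ≤ 2 * e ∨
    (IsPGroup 2 H ∧ (∃ u v : H, u * v ≠ v * u) ∧ (commutator H).index ≤ 4 * e ^ 2 + 1)

variable {G Ω : Type*} [Group G] [Fintype G] [DecidableEq G] [MulAction G Ω] [Fintype Ω]
  [DecidableEq Ω]

theorem Setup.conclusion {e : ℕ} (S : Setup G Ω e) {a : Ω} {H : Subgroup G} (P : Point Ω a H) :
    Conclusion H e := by
  classical
  by_cases hbig : 2 * e + 1 < Nat.card H
  swap
  · exact Or.inl (by omega)
  haveI := Fintype.ofFinite H
  haveI := Fintype.ofFinite (stabilizer G a)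
  haveI := S.kernel_normal P
  obtain ⟨hTI, hN⟩ := S.ti P
  have hC := S.centralizer_le P
  have hnil : Group.IsNilpotent H := CfsgLib.Zassenhaus.isNilpotent_kernel S.zass P.le
    (fun k hk v hv => S.conj_kernel P (mem_stabilizer_iff.1 hk) hv) P.fix
  have he3 := S.three_le
  have hlt : H < stabilizer G a := lt_of_le_of_ne P.le fun h => by
    have h' : Nat.card (stabilizer G a) = Nat.card H := by rw [← h]
    rw [S.card_stab P, Nat.mul_eq_left Nat.card_pos.ne'] at h'
    omega
  have hH1 : H ≠ ⊥ := fun h => by rw [h, Subgroup.card_bot] at hbig; omega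
  have hcardK : Nat.card (H.subgroupOf (stabilizer G a)) = Nat.card H :=
    Nat.card_congr (Subgroup.subgroupOfEquivOfLe P.le).toEquiv
  have hne : Nat.card H ≠ (H.subgroupOf (stabilizer G a)).index + 1 := by
    rw [S.index_kernel P]; omega
  have hset := Coherence.ti_set_eq (L := stabilizer G a) hC
  by_cases hcomm : ∀ x ∈ H, ∀ y ∈ H, x * y = y * x
  · exfalso
    have hfix := Coherence.ti_hfix (L := stabilizer G a) hC
    have hKc : ∀ x ∈ H.subgroupOf (stabilizer G a), ∀ y ∈ H.subgroupOf (stabilizer G a), x * y = y * x :=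
      fun x hx y hy => Subtype.ext (hcomm _ hx _ hy)
    have hsolv : Group.IsSolvable (H.subgroupOf (stabilizer G a)) :=
      Group.isSolvable_of_comm fun x y => Subtype.ext (hKc x x.2 y y.2)
    have hK1 : H.subgroupOf (stabilizer G a) ≠ ⊥ := by
      rw [ne_eq, Subgroup.subgroupOf_eq_bot, disjoint_iff, inf_eq_left.2 P.le]
      exact hH1
    obtain ⟨hiso, hiso1⟩ := Coherence.ti_isometry hTI hN
    rcases Coherence.frob_comm_coherence hfix hsolv hK1 hiso hiso1 hKc with h | ⟨φ, hφ⟩
    · exact S.not_coherent P (hset ▸ h) hbig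
    · exact hne (hcardK ▸ (Coherence.frob_singleton hfix hsolv hK1 hKc hφ).1)
  rcases Coherence.ti_dichotomy hC hN hlt hH1 hTI hnil with h | ⟨h, -⟩ | ⟨-, hcard, hidx⟩
  · exact (S.not_coherent P (hset ▸ h) hbig).elim
  · exact absurd h hne
  · push Not at hcomm
    obtain ⟨x, hx, y, hy, hxy⟩ := hcomm
    refine Or.inr ⟨IsPGroup.of_card hcard, ⟨⟨x, hx⟩, ⟨y, hy⟩, fun h => hxy (congrArg Subtype.val h)⟩, ?_⟩
    rw [S.index_kernel P] at hidx
    have h1 : ⁅H, H⁆.subgroupOf H = commutator H := by
      rw [← Subgroup.map_subtype_commutator, Subgroup.subgroupOf,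
        Subgroup.comap_map_eq_self_of_injective H.subtype_injective]
    rw [h1] at hidx
    omega

/-- Feit's inequality: reduction to the simple case along normal subgroups. -/
theorem feit_inequality : ∀ (n : ℕ) {G : Type*} [Group G] [Finite G] [MulAction G Ω],
    Nat.card G = n → Cfsg.IsZassenhausGroup G Ω → ∀ {a b : Ω}, a ≠ b → ∀ e : ℕ,
    Nat.card ↥(stabilizer G a ⊓ stabilizer G b) = e → Odd e → ∀ H : Subgroup G,
    H ≤ stabilizer G a → Nat.card H + 1 = Nat.card Ω →
    (∀ u ∈ H, u ≠ 1 → ∀ c : Ω, u • c = c → c = a) → Conclusion H e := by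
  intro n
  induction n using Nat.strong_induction_on with
  | _ n ih =>
    intro G _ _ _ hn hZ a b hab e he hodd H hHa hHcard hHfix
    classical
    haveI := Fintype.ofFinite G
    by_cases hs : IsSimpleGroup G
    · exact (Setup.mk' hZ hab he hodd).conclusion ⟨hHa, hHcard, hHfix, b, hab.symm⟩
    obtain ⟨x, hx, -⟩ := hZ.2.2.2.1
    haveI : Nontrivial G := ⟨⟨x, 1, hx⟩⟩
    obtain ⟨N, hN, hNbot, hNtop⟩ : ∃ N : Subgroup G, N.Normal ∧ N ≠ ⊥ ∧ N ≠ ⊤ := by
      by_contra hno
      push Not at hno
      exact hs ⟨fun N hN => or_iff_not_imp_left.2 fun h => hno N hN h⟩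
    haveI := hN
    obtain ⟨Q, hQle, hQn, hQfix, -, -, hQcard, hQmem⟩ := CfsgLib.Zassenhaus.exists_kernel hZ a
    have hHn : ∀ g ∈ stabilizer G a, ∀ v ∈ H, g * v * g⁻¹ ∈ H := fun g hg v hv => by
      have hhQ : H = Q := Subgroup.eq_of_le_of_card_ge
        (fun u hu => by
          by_cases hu1 : u = 1
          · rw [hu1]; exact Q.one_mem
          · exact hQmem u (hHa hu) (hHfix u hu hu1))
        (by omega)
      rw [hhQ] at hv ⊢
      exact hQn g hg v hv
    have hHN : H ≤ N := CfsgLib.Zassenhaus.kernel_le_normal' hZ N hNbot a hHa hHn hHfix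
    have hZN := CfsgLib.Zassenhaus.normal_isZassenhaus hZ N hNbot
    have hlt : Nat.card N < n := by
      rw [← hn]
      exact lt_of_le_of_ne N.card_le_card_group fun h => hNtop (N.eq_top_of_card_eq h)
    let f : ↥(stabilizer N a ⊓ stabilizer N b) →* ↥(stabilizer G a ⊓ stabilizer G b) :=
      { toFun := fun x => ⟨((x : N) : G), Subgroup.mem_inf.2
          ⟨(Subgroup.mem_inf.1 x.2).1, (Subgroup.mem_inf.1 x.2).2⟩⟩
        map_one' := rfl
        map_mul' := fun _ _ => rfl }
    have hf : Function.Injective f := fun x y h =>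
      Subtype.ext (Subtype.ext (congrArg (fun w : ↥(stabilizer G a ⊓ stabilizer G b) => (w : G)) h))
    have hdvd : Nat.card ↥(stabilizer N a ⊓ stabilizer N b) ∣ e :=
      he ▸ Subgroup.card_dvd_of_injective f hf
    have hle : Nat.card ↥(stabilizer N a ⊓ stabilizer N b) ≤ e :=
      Nat.le_of_dvd hodd.pos hdvd
    have hcardK : Nat.card (H.subgroupOf N) = Nat.card H :=
      Nat.card_congr (Subgroup.subgroupOfEquivOfLe hHN).toEquiv
    rcases ih _ hlt rfl hZN hab _ rfl (hodd.of_dvd_nat hdvd) (H.subgroupOf N)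
      (fun u hu => hHa hu) (by rw [hcardK, hHcard])
      (fun u hu hu1 c hc => hHfix _ hu (fun h => hu1 (Subtype.ext h)) c hc) with h | ⟨hp, ⟨u, v, huv⟩, hidx⟩
    · rw [hcardK] at h
      exact Or.inl (by omega)
    · let ε := Subgroup.subgroupOfEquivOfLe hHN
      refine Or.inr ⟨hp.of_equiv ε, ⟨ε u, ε v, fun h => huv (ε.injective (by rw [map_mul, map_mul, h]))⟩, ?_⟩
      have h2 : (commutator (H.subgroupOf N)).map ε.toMonoidHom = commutator H := by
        rw [commutator_def, commutator_def, Subgroup.map_commutator,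
          Subgroup.map_top_of_surjective _ ε.surjective]
      rw [← h2, Subgroup.index_map_of_bijective ε.bijective]
      refine hidx.trans ?_
      have := Nat.pow_le_pow_left hle 2
      omega

end CfsgLib.CharactersDeep.ZassenhausOdd
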