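import Mathlib.GroupTheory.GroupAction.MultipleTransitivity
import Mathlib.GroupTheory.Index
import Cfsg.Prelude.Def_LieExceptional

/-!
# Elementary facts about Zassenhaus groups

The point stabiliser of a Zassenhaus group with a given regular subgroup `H` whose non-identity
elements fix only the point.
-/

set_option autoImplicit false

namespace CfsgLib.CharactersDeep.Zassenhaus

open MulAction

variable {G Ω : Type*} [Group G] [MulAction G Ω]

theorem two_transitive (hZ : Cfsg.IsZassenhausGroup G Ω) {a b c d : Ω} (hab : a ≠ b) (hcd : c ≠ d) :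
    ∃ g : G, g • a = c ∧ g • b = d :=
  is_two_pretransitive_iff.mp hZ.2.1 hab hcd

theorem eq_one_of_fix_three (hZ : Cfsg.IsZassenhausGroup G Ω) {g : G} {a b c : Ω}
    (hab : a ≠ b) (hbc : b ≠ c) (hac : a ≠ c) (ha : g • a = a) (hb : g • b = b) (hc : g • c = c) :
    g = 1 :=
  hZ.2.2.1 g a b c hab hbc hac ha hb hc

/-- Every two-point stabiliser is nontrivial. -/
theorem exists_fix_two (hZ : Cfsg.IsZassenhausGroup G Ω) {a b : Ω} (hab : a ≠ b) :
    ∃ x : G, x ≠ 1 ∧ x • a = a ∧ x • b = b := by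
  obtain ⟨g, hg, c, d, hcd, hc, hd⟩ := hZ.2.2.2.1
  obtain ⟨k, hkc, hkd⟩ := two_transitive hZ hcd hab
  refine ⟨k * g * k⁻¹, fun h => hg ?_, ?_, ?_⟩
  · have h2 : k * g * k⁻¹ * k = 1 * k := congrArg (· * k) h
    simpa using h2
  · rw [← hkc]; simp [mul_smul, hc]
  · rw [← hkd]; simp [mul_smul, hd]

theorem exists_third (hZ : Cfsg.IsZassenhausGroup G Ω) {a b : Ω} (hab : a ≠ b) :
    ∃ c : Ω, c ≠ a ∧ c ≠ b := by
  obtain ⟨x, hx, hxa, hxb⟩ := exists_fix_two hZ hab
  haveI := hZ.1
  by_contra hno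
  push Not at hno
  refine hx (FaithfulSMul.eq_of_smul_eq_smul (α := Ω) fun c => ?_)
  rw [one_smul]
  by_cases hca : c = a
  · rw [hca, hxa]
  · rw [hno c hca, hxb]

variable [Finite G] [Finite Ω] {a : Ω} {H : Subgroup G}

theorem one_lt_card_H (hZ : Cfsg.IsZassenhausGroup G Ω) (hHcard : Nat.card H + 1 = Nat.card Ω) :
    1 < Nat.card H := by
  obtain ⟨g, -, c, d, hcd, -, -⟩ := hZ.2.2.2.1
  obtain ⟨e, hec, hed⟩ := exists_third hZ hcd
  have := Fintype.ofFinite Ω
  have h3 : 2 < Fintype.card Ω :=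
    Fintype.two_lt_card_iff.mpr ⟨c, d, e, hcd, hec.symm, hed.symm⟩
  rw [← Nat.card_eq_fintype_card] at h3
  omega

/-- `H` is regular on the points other than `a`. -/
theorem orbit_bijective (hHa : H ≤ stabilizer G a) (hHcard : Nat.card H + 1 = Nat.card Ω)
    (hHfix : ∀ u ∈ H, u ≠ 1 → ∀ c : Ω, u • c = c → c = a) {b : Ω} (hb : b ≠ a) :
    ∀ c : Ω, c ≠ a → ∃! u : H, (u : G) • b = c := by
  classical
  let f : H → {c : Ω // c ≠ a} := fun u => ⟨(u : G) • b, fun h => hb (by
    have := congrArg ((u : G)⁻¹ • ·) h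
    simpa [inv_smul_eq_iff.mpr (mem_stabilizer_iff.mp (hHa u.2)).symm] using this)⟩
  have hinj : Function.Injective f := by
    intro u v huv
    have h : (u : G) • b = (v : G) • b := congrArg Subtype.val huv
    by_contra hne
    refine hb (hHfix ((v : G)⁻¹ * u) (H.mul_mem (H.inv_mem v.2) u.2) ?_ b (by
      rw [mul_smul, h, inv_smul_smul]))
    exact fun h1 => hne (Subtype.ext (inv_mul_eq_one.mp h1).symm)
  have hcard : Nat.card H = Nat.card {c : Ω // c ≠ a} := by
    have := Fintype.ofFinite Ω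
    simp [Nat.card_eq_fintype_card] at hHcard ⊢
    omega
  have hbij : Function.Bijective f :=
    (Nat.bijective_iff_injective_and_card f).mpr ⟨hinj, hcard⟩
  intro c hc
  obtain ⟨u, hu, huni⟩ := hbij.existsUnique ⟨c, hc⟩
  exact ⟨u, congrArg Subtype.val hu, fun v hv => huni v (Subtype.ext hv)⟩

/-- `|Stab a| = |H| * |Stab a ⊓ Stab b|`. -/
theorem card_stabilizer (hHa : H ≤ stabilizer G a) (hHcard : Nat.card H + 1 = Nat.card Ω)
    (hHfix : ∀ u ∈ H, u ≠ 1 → ∀ c : Ω, u • c = c → c = a) {b : Ω} (hb : b ≠ a) :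
    Nat.card (stabilizer G a) = Nat.card H * Nat.card ↥(stabilizer G a ⊓ stabilizer G b) := by
  rw [← Nat.card_prod]
  let f : H × ↥(stabilizer G a ⊓ stabilizer G b) → stabilizer G a :=
    fun p => ⟨(p.1 : G) * p.2, mul_mem (hHa p.1.2) p.2.2.1⟩
  refine (Nat.card_eq_of_bijective f ⟨?_, ?_⟩).symm
  · rintro ⟨u, x⟩ ⟨v, y⟩ h
    have h' : (u : G) * x = v * y := congrArg Subtype.val h
    have hub : (u : G) • b = (v : G) • b := by
      have := congrArg (· • b) h'
      simpa [mul_smul, mem_stabilizer_iff.mp x.2.2, mem_stabilizer_iff.mp y.2.2] using this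
    have hne : (v : G) • b ≠ a := fun h => hb (by
      simpa [inv_smul_eq_iff.mpr (mem_stabilizer_iff.mp (hHa v.2)).symm]
        using congrArg ((v : G)⁻¹ • ·) h)
    have huv : u = v :=
      (orbit_bijective hHa hHcard hHfix hb _ hne).unique hub rfl
    subst huv
    exact Prod.ext rfl (Subtype.ext (mul_left_cancel h'))
  · intro g
    have hgb : (g : G) • b ≠ a := fun h => hb (by
      simpa [inv_smul_eq_iff.mpr (mem_stabilizer_iff.mp g.2).symm]
        using congrArg ((g : G)⁻¹ • ·) h)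
    obtain ⟨u, hu, -⟩ := orbit_bijective hHa hHcard hHfix hb _ hgb
    have hmem : (u : G)⁻¹ * g ∈ stabilizer G a ⊓ stabilizer G b := by
      refine Subgroup.mem_inf.mpr ⟨mul_mem (inv_mem (hHa u.2)) g.2, ?_⟩
      rw [mem_stabilizer_iff, mul_smul, ← hu, inv_smul_smul]
    exact ⟨(u, ⟨_, hmem⟩), Subtype.ext (by simp [f])⟩

/-- An element fixing `a` and no other point lies in `H`. -/
theorem mem_of_fix_only (hZ : Cfsg.IsZassenhausGroup G Ω) (hHa : H ≤ stabilizer G a)
    (hHcard : Nat.card H + 1 = Nat.card Ω)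
    (hHfix : ∀ u ∈ H, u ≠ 1 → ∀ c : Ω, u • c = c → c = a) {g : G} (hga : g • a = a)
    (honly : ∀ c : Ω, g • c = c → c = a) : g ∈ H := by
  classical
  have := Fintype.ofFinite Ω
  have := Fintype.ofFinite G
  by_contra hgH
  let F : Ω → Finset G := fun c =>
    Finset.univ.filter (fun x : G => x • a = a ∧ x • c = c ∧ x ≠ 1)
  let s : Finset Ω := Finset.univ.erase a
  let S : Finset G := Finset.univ.filter (fun x : G => x • a = a)
  let T : Finset G := Finset.univ.filter (fun x : G => x ∈ H)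
  have hdisj : (s : Set Ω).PairwiseDisjoint F := by
    intro c hc d hd hcd
    refine Finset.disjoint_left.mpr fun x hxc hxd => ?_
    obtain ⟨hxa, hxc', hx1⟩ := (Finset.mem_filter.mp hxc).2
    obtain ⟨-, hxd', -⟩ := (Finset.mem_filter.mp hxd).2
    exact hx1 (eq_one_of_fix_three hZ (Finset.ne_of_mem_erase hc).symm hcd
      (Finset.ne_of_mem_erase hd).symm hxa hxc' hxd')
  have hsub : insert g T ∪ s.biUnion F ⊆ S := by
    intro x hx
    simp only [Finset.mem_union, Finset.mem_insert, Finset.mem_biUnion] at hx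
    refine Finset.mem_filter.mpr ⟨Finset.mem_univ _, ?_⟩
    rcases hx with (rfl | hx) | ⟨c, -, hx⟩
    · exact hga
    · exact hHa (Finset.mem_filter.mp hx).2
    · exact (Finset.mem_filter.mp hx).2.1
  have hdisj2 : Disjoint (insert g T) (s.biUnion F) := by
    refine Finset.disjoint_left.mpr fun x hx hx' => ?_
    obtain ⟨c, hc, hxc⟩ := Finset.mem_biUnion.mp hx'
    obtain ⟨-, hxc', hx1⟩ := (Finset.mem_filter.mp hxc).2
    rcases Finset.mem_insert.mp hx with rfl | hxT
    · exact Finset.ne_of_mem_erase hc (honly c hxc')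
    · exact Finset.ne_of_mem_erase hc (hHfix x (Finset.mem_filter.mp hxT).2 hx1 c hxc')
  have hle := Finset.card_le_card hsub
  rw [Finset.card_union_of_disjoint hdisj2, Finset.card_biUnion hdisj,
    Finset.card_insert_of_notMem (by simp [T, hgH])] at hle
  have hT : T.card = Nat.card H := by
    rw [Nat.card_eq_fintype_card, Fintype.card_subtype]
  have hS : S.card = Nat.card (stabilizer G a) := by
    rw [Nat.card_eq_fintype_card, Fintype.card_subtype]
    simp [S, mem_stabilizer_iff]
  have hF : ∀ c ∈ s, (F c).card + 1 = Nat.card ↥(stabilizer G a ⊓ stabilizer G c) := by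
    intro c _
    have h1 : insert (1 : G) (F c) =
        Finset.univ.filter (fun x : G => x ∈ stabilizer G a ⊓ stabilizer G c) := by
      ext x
      simp only [Finset.mem_insert, F, Finset.mem_filter, Finset.mem_univ, true_and,
        Subgroup.mem_inf, mem_stabilizer_iff]
      by_cases hx : x = 1 <;> simp [hx]
    rw [Nat.card_eq_fintype_card, Fintype.card_subtype, ← h1,
      Finset.card_insert_of_notMem (by simp [F])]
  have hs : s.card = Nat.card H := by
    have : s.card + 1 = Fintype.card Ω := Finset.card_erase_add_one (Finset.mem_univ a)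
    rw [← Nat.card_eq_fintype_card] at this
    omega
  have hsum : ∑ c ∈ s, (F c).card + Nat.card H = Nat.card (stabilizer G a) := by
    obtain ⟨-, -, c, d, hcd, -, -⟩ := hZ.2.2.2.1
    obtain ⟨b, hb⟩ : ∃ b : Ω, b ≠ a := by
      by_cases h : c = a
      · exact ⟨d, fun h' => hcd (h.trans h'.symm)⟩
      · exact ⟨c, h⟩
    have hconst : ∀ x ∈ s, (F x).card + 1 = Nat.card ↥(stabilizer G a ⊓ stabilizer G b) := by
      intro x hx
      rw [hF x hx]
      have h1 := card_stabilizer hHa hHcard hHfix hb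
      have h2 := card_stabilizer hHa hHcard hHfix (Finset.ne_of_mem_erase hx)
      have h3 : 0 < Nat.card H := Nat.card_pos
      exact (Nat.eq_of_mul_eq_mul_left h3 (h1.symm.trans h2)).symm
    have h4 := Finset.sum_congr rfl hconst
    rw [Finset.sum_add_distrib, Finset.sum_const, Finset.sum_const, hs, smul_eq_mul, smul_eq_mul,
      mul_one, ← card_stabilizer hHa hHcard hHfix hb] at h4
    exact h4
  omega

end CfsgLib.CharactersDeep.Zassenhaus
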