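import Cfsg.Agent.CharactersDeep.ZassenhausElementary
import Cfsg.Agent.Classification.PSLTwoGeneral.ZassenhausAbelian
import Cfsg.Agent.Zassenhaus.Even.Main
import Cfsg.Agent.Zassenhaus.SuzukiOrder
import Cfsg.Agent.SEmbed.ProjectiveLine
import Cfsg.Agent.Perm.SharplyThree

/-!
# The simple Zassenhaus groups
-/

set_option autoImplicit false
set_option linter.style.haveILetI false
set_option linter.unusedSectionVars false

namespace CfsgLib.CharactersDeep.ZassenhausClassification

open MulAction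

variable {G Ω : Type*} [Group G] [Finite G] [MulAction G Ω] [Fintype Ω] [IsSimpleGroup G]

/-- A simple sharply triply transitive Zassenhaus group of odd degree with elementary abelian
kernel satisfies the hypotheses of the recognition theorem for `PSL(2, 2^f)`. -/
theorem exists_equiv_of_full (hZ : Cfsg.IsZassenhausGroup G Ω) {a b : Ω} (hab : a ≠ b)
    (hodd : Odd (Nat.card ↥(stabilizer G a ⊓ stabilizer G b)))
    (hfull : Nat.card ↥(stabilizer G a ⊓ stabilizer G b) = Fintype.card Ω - 2) {Q : Subgroup G}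
    (hQle : Q ≤ stabilizer G a)
    (hQn : ∀ h ∈ stabilizer G a, ∀ x ∈ Q, h * x * h⁻¹ ∈ Q)
    (hQfix : ∀ x ∈ Q, x ≠ 1 → ∀ c : Ω, x • c = c → c = a)
    (hQcard : Nat.card Q + 1 = Fintype.card Ω)
    (hQmem : ∀ g : G, g • a = a → (∀ c : Ω, g • c = c → c = a) → g ∈ Q) :
    ∃ (K : Type) (_ : Field K) (_ : Fintype K),
      Nonempty (G ≃* Matrix.ProjectiveSpecialLinearGroup (Fin 2) K) := by
  classical
  haveI := hZ.1
  haveI := hZ.2.1
  haveI : IsPretransitive G Ω := isPretransitive_of_is_two_pretransitive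
  haveI : Fact (Nat.Prime 2) := ⟨Nat.prime_two⟩
  have hΩ := CfsgLib.Perm.Zassenhaus.card_ge_three hZ
  have hn2 : 2 ∣ Nat.card Q := by
    obtain ⟨k, hk⟩ := hodd
    exact ⟨k + 1, by omega⟩
  obtain ⟨hQcomm, p, f, hp, hexp, hpf⟩ :=
    ZassenhausElementary.kernel_elementary hZ hab hQle hQn hQfix hQcard (by omega)
  obtain rfl : 2 = p := by
    rw [hpf] at hn2
    exact (Nat.prime_dvd_prime_iff_eq Nat.prime_two hp).1 (Nat.prime_two.dvd_of_dvd_pow hn2)
  -- the kernel is a Sylow subgroup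
  have hG : Nat.card G = Fintype.card Ω * Nat.card ↥(stabilizer G a ⊓ stabilizer G b) * 2 ^ f := by
    rw [mul_assoc, mul_comm _ (2 ^ f), ← hpf, ← Zassenhaus.card_stabilizer hQle
      (by rw [hQcard, Nat.card_eq_fintype_card]) hQfix hab.symm, ← Nat.card_eq_fintype_card,
      ← index_stabilizer_of_transitive G a, Subgroup.index_mul_card]
  have hΩodd : Odd (Fintype.card Ω) := by
    rw [← hQcard]
    exact Even.add_one (even_iff_two_dvd.2 hn2)
  have hnd : ¬ 2 ∣ Fintype.card Ω * Nat.card ↥(stabilizer G a ⊓ stabilizer G b) := fun h =>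
    Nat.not_even_iff_odd.2 (hΩodd.mul hodd) (even_iff_two_dvd.2 h)
  have hfac : (Nat.card G).factorization 2 = f := by
    have hne : Fintype.card Ω * Nat.card ↥(stabilizer G a ⊓ stabilizer G b) ≠ 0 :=
      fun h => hnd (h ▸ dvd_zero 2)
    rw [hG, Nat.factorization_mul hne (by positivity), Finsupp.add_apply,
      Nat.factorization_eq_zero_of_not_dvd hnd, zero_add, Nat.Prime.factorization_pow Nat.prime_two,
      Finsupp.single_eq_same]
  let T : Sylow 2 G := Sylow.ofCard Q (by rw [hpf, hfac])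
  have hTQ : (T : Subgroup G) = Q := rfl
  have hQ4 : 4 ≤ Nat.card Q := by
    have : 2 ≤ Nat.card ↥(stabilizer G a ⊓ stabilizer G b) := by
      obtain ⟨x, hx1, hxa, hxb⟩ := CfsgLib.Zassenhaus.exists_fix_two hZ hab
      haveI : Nontrivial ↥(stabilizer G a ⊓ stabilizer G b) :=
        ⟨⟨x, Subgroup.mem_inf.2 ⟨hxa, hxb⟩⟩, 1, fun h => hx1 (congrArg Subtype.val h)⟩
      exact Finite.one_lt_card
    obtain ⟨k, hk⟩ := hn2
    omega
  have hQ1 : Q ≠ ⊥ := fun h => by rw [h, Subgroup.card_bot] at hQ4; omega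
  have hcentQ : ∀ t ∈ Q, t ≠ 1 → ∀ c : G, c * t = t * c → c ∈ Q := by
    intro t ht ht1 c hc
    have hca : c • a = a := by
      refine hQfix t ht ht1 _ ?_
      rw [← mul_smul, ← hc, mul_smul, mem_stabilizer_iff.1 (hQle ht)]
    by_cases hc1 : c = 1
    · exact hc1 ▸ Q.one_mem
    refine hQmem c hca fun e he => ?_
    by_contra hne
    exact hc1 (CfsgLib.Zassenhaus.fpf_kernel hZ (Ne.symm hne) (hQle ht) (hQfix t ht ht1) hca he hc)
  have h : CfsgLib.SEmbed.ElemCentralizers T := by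
    refine ⟨fun hc => ?_, fun hn => ?_, fun t ht => ?_⟩
    · rw [hTQ] at hc
      obtain ⟨g, hg⟩ := IsCyclic.exists_generator (α := Q)
      have h1 : orderOf g ∣ 2 := orderOf_dvd_of_pow_eq_one (Subtype.ext (hexp g g.2))
      rw [orderOf_eq_card_of_forall_mem_zpowers hg] at h1
      have := Nat.le_of_dvd (by norm_num) h1
      omega
    · rw [hTQ] at hn
      rcases hn.eq_bot_or_eq_top with h | h
      · exact hQ1 h
      · obtain ⟨g, hg⟩ := MulAction.exists_smul_eq G a b
        exact hab ((mem_stabilizer_iff.1 (hQle (h ▸ Subgroup.mem_top g))).symm.trans hg)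
    · -- an involution fixes exactly one point
      have ht1 : t ≠ 1 := fun e => by rw [e, orderOf_one] at ht; omega
      have htt : t * t = 1 := by rw [← pow_two, ← ht, pow_orderOf_eq_one]
      have hpar := CfsgLib.Perm.Zassenhaus.fixedBy_parity (Ω := Ω) htt
      rw [Nat.odd_iff.1 hΩodd] at hpar
      obtain ⟨c, hc⟩ : ∃ c : Ω, t • c = c := by
        by_contra! hno
        have : Nat.card (fixedBy Ω t) = 0 := by
          rw [Nat.card_eq_zero]
          exact Or.inl ⟨fun x => hno x.1 x.2⟩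
        omega
      obtain ⟨g, hg⟩ := MulAction.exists_smul_eq G c a
      set u := g * t * g⁻¹ with hu
      have hu1 : u ≠ 1 := fun e => ht1 (conj_eq_one_iff.1 e)
      have huu : u * u = 1 := by rw [hu, conj_mul, htt, mul_one, mul_inv_cancel]
      have hua : u • a = a := by rw [hu, mul_smul, mul_smul, ← hg, inv_smul_smul, hc]
      have huQ : u ∈ Q := by
        refine hQmem u hua fun e he => ?_
        by_contra hne
        obtain ⟨x, hxa, hxe⟩ := is_two_pretransitive_iff.1 hZ.2.1 (Ne.symm hne) hab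
        have hmem : x * u * x⁻¹ ∈ stabilizer G a ⊓ stabilizer G b := by
          refine Subgroup.mem_inf.2 ⟨?_, ?_⟩
          · rw [mem_stabilizer_iff, mul_smul, mul_smul, inv_smul_eq_iff.2 hxa.symm, hua, hxa]
          · rw [mem_stabilizer_iff, mul_smul, mul_smul, inv_smul_eq_iff.2 hxe.symm, he, hxe]
        have h2 : orderOf (⟨_, hmem⟩ : ↥(stabilizer G a ⊓ stabilizer G b)) ∣ 2 :=
          orderOf_dvd_of_pow_eq_one (Subtype.ext (by
            show (x * u * x⁻¹) ^ 2 = 1
            rw [pow_two, conj_mul, huu, mul_one, mul_inv_cancel]))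
        rcases (Nat.dvd_prime Nat.prime_two).1 h2 with h3 | h3
        · exact hu1 (conj_eq_one_iff.1 (congrArg Subtype.val (orderOf_eq_one_iff.1 h3)))
        · exact Nat.not_even_iff_odd.2 (hodd.of_dvd_nat (h3 ▸ orderOf_dvd_natCard _)) even_two
      have hin : ∀ x ∈ Subgroup.centralizer ({t} : Set G), g * x * g⁻¹ ∈ Q := fun x hx => by
        rw [Subgroup.mem_centralizer_singleton_iff] at hx
        refine hcentQ u huQ hu1 _ ?_
        rw [hu, conj_mul, conj_mul, hx]
      refine ⟨⟨⟨fun x y => Subtype.ext ((MulAut.conj g).injective ?_)⟩⟩, fun x hx => ?_⟩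
      · simp only [Subgroup.coe_mul, map_mul, MulAut.conj_apply]
        exact hQcomm _ (hin x x.2) _ (hin y y.2)
      · have h2 := hexp _ (hin x hx)
        rwa [conj_pow, conj_eq_one_iff] at h2
  obtain ⟨K, fK, fT, -, hiso⟩ := CfsgLib.SEmbed.exists_equiv_PSL2 h
  exact ⟨K, fK, fT, hiso⟩

/-- A simple Zassenhaus group is `PSL(2, F)` or has Suzuki order. -/
theorem classification (hZ : Cfsg.IsZassenhausGroup G Ω) :
    (∃ (F : Type) (_ : Field F) (_ : Fintype F),
        Nonempty (G ≃* Matrix.ProjectiveSpecialLinearGroup (Fin 2) F)) ∨ Cfsg.IsSuzuki G := by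
  classical
  haveI := hZ.1
  obtain ⟨g, hg, a, b, hab, hga, hgb⟩ := hZ.2.2.2.1
  obtain ⟨Q, hQle, hQn, hQfix, -, -, hQcard, hQmem⟩ := CfsgLib.Zassenhaus.exists_kernel hZ a
  have hQc : Nat.card Q + 1 = Fintype.card Ω := by rw [hQcard, Nat.card_eq_fintype_card]
  rcases Nat.even_or_odd (Nat.card ↥(stabilizer G a ⊓ stabilizer G b)) with heven | hodd
  · obtain ⟨K, fK, fT, -, -, -, hiso⟩ :=
      CfsgLib.Zassenhaus.Even.exists_equiv_of_simple hZ hab heven
    exact Or.inl ⟨K, fK, fT, hiso⟩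
  have hΩ := CfsgLib.Perm.Zassenhaus.card_ge_three hZ
  rcases Cfsg.Agent.S0885.result hZ hab (Fintype.card Ω - 1) _ (by omega) rfl hodd Q hQle hQc hQfix
    with hlarge | ⟨h2, ⟨u, v, huv⟩, -⟩
  · left
    have hlarge' : Fintype.card Ω - 2 ≤ 2 * Nat.card ↥(stabilizer G a ⊓ stabilizer G b) := by omega
    obtain ⟨hQcomm, -⟩ := ZassenhausElementary.kernel_elementary hZ hab hQle hQn hQfix hQc hlarge'
    rcases CfsgLib.Classification.PSLTwoGeneral.abelian_kernel_cases hZ hQle hQn hQfix hQcard hQcomm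
      with ⟨h3, -⟩ | ⟨K, fK, fT, -, -, -, hiso⟩
    · refine exists_equiv_of_full hZ hab hodd ?_ hQle hQn hQfix hQc hQmem
      obtain ⟨hdvd, -⟩ := CfsgLib.Classification.PSLTwoGeneral.card_pair_stab_dvd hZ hab
      refine le_antisymm (Nat.le_of_dvd (by omega) hdvd) ?_
      have hX : Fintype.card Ω - 2 = (({a, b} : Finset Ω)ᶜ).card := by
        rw [Finset.card_compl, Finset.card_pair hab]
      rw [hX, ← Fintype.card_coe, ← Nat.card_eq_fintype_card]
      obtain ⟨c, hc⟩ := Finset.card_pos.1 (by omega : 0 < (({a, b} : Finset Ω)ᶜ).card)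
      simp only [Finset.mem_compl, Finset.mem_insert, Finset.mem_singleton, not_or] at hc
      have hsub : ∀ x : ↥(({a, b} : Finset Ω)ᶜ), ∃ d : ↥(stabilizer G a ⊓ stabilizer G b),
          (d : G) • c = (x : Ω) := by
        rintro ⟨x, hx⟩
        simp only [Finset.mem_compl, Finset.mem_insert, Finset.mem_singleton, not_or] at hx
        obtain ⟨d, h1, h2', h3'⟩ := CfsgLib.Perm.SharplyThree.exists_triple h3 hab (Ne.symm hc.1)
          (Ne.symm hc.2) hab (Ne.symm hx.1) (Ne.symm hx.2)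
        exact ⟨⟨d, Subgroup.mem_inf.2 ⟨h1, h2'⟩⟩, h3'⟩
      choose d hd using hsub
      exact Nat.card_le_card_of_injective d fun x y h =>
        Subtype.ext ((hd x).symm.trans (h ▸ hd y))
    · exact ⟨K, fK, fT, hiso⟩
  · right
    have hreg : ∀ y z : Ω, y ≠ a → z ≠ a → ∃! u : Q, (u : G) • y = z := fun y z hy hz =>
      Zassenhaus.orbit_bijective hQle hQcard hQfix hy z hz
    obtain ⟨t, n, q, K, -, -, -, -⟩ :=
      CfsgLib.Zassenhaus.exists_kernelData hZ hQle hreg h2 ⟨u, v, huv⟩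
    obtain ⟨hn, m, hm, hq⟩ := K.suzuki_order
    exact ⟨inferInstance, m, hm, by rw [K.card_group, hn, hq]; ring⟩

end CfsgLib.CharactersDeep.ZassenhausClassification
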