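import Cfsg.Agent.CharactersDeep.Average
import Cfsg.Agent.PrincipalBlock.Kernel
import Cfsg.Agent.Characters.Monomial

/-!
# A lower bound for degrees through an abelian subgroup

`H` is abelian, meets the centre trivially, and the centralizer of a noncentral element meets at
most one conjugate of `H`.  Then `χ(1)² > |H| c²` for `c = ⟨χ|H, 1⟩` when `H` is not in the kernel.
-/

set_option autoImplicit false
set_option linter.style.haveILetI false
set_option linter.unusedSectionVars false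

namespace CfsgLib.CharactersDeep.AbelianBound

open CfsgLib.Characters CfsgLib.CharactersDeep
open scoped ComplexConjugate

universe u

variable {G : Type u} [Group G] [Fintype G]

theorem sum_norm_sq {k : ℕ} {f : G → ℂ} (h : Cfsg.classInner f f = k) :
    ∑ g : G, ‖f g‖ ^ 2 = (k : ℝ) * Nat.card G := by
  rw [Cfsg.classInner, inv_mul_eq_iff_eq_mul₀ natCard_ne_zero] at h
  simp only [Complex.mul_conj'] at h
  rw [mul_comm]
  exact_mod_cast h

/-- The squared norm of a class function with natural coefficients. -/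
theorem classInner_coeff (m : Cfsg.IrrCharacter G → ℕ) :
    Cfsg.classInner (∑ φ, (m φ : ℂ) • (φ : G → ℂ)) (∑ φ, (m φ : ℂ) • (φ : G → ℂ)) =
      ((∑ φ, m φ * m φ : ℕ) : ℂ) := by
  rw [classInner_sum_left]
  push_cast
  refine Finset.sum_congr rfl fun φ _ => ?_
  rw [classInner_smul_left, classInner_conj_symm _ (φ : G → ℂ), classInner_irr_coeff, Complex.conj_natCast]

/-- The part orthogonal to the fixed points of a normal subgroup outside the kernel has norm ≥ 1. -/
theorem avg_norm_gap {N : Subgroup G} [N.Normal] [Fintype N] {F : G → ℂ}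
    (hF : Cfsg.IsCharacter G F) (hne : ∃ h ∈ N, F h ≠ F 1) :
    ∃ a b : ℕ, Cfsg.classInner F F = a ∧ Cfsg.classInner (Average.avg N F) (Average.avg N F) = b ∧
      b + 1 ≤ a := by
  classical
  obtain ⟨m, hm⟩ := exists_nat_coeff hF
  set b' : Cfsg.IrrCharacter G → ℕ :=
    fun φ => if Average.avg N (φ : G → ℂ) = (φ : G → ℂ) then m φ else 0 with hb'
  have havg : Average.avg N F = ∑ φ, (b' φ : ℂ) • (φ : G → ℂ) := by
    rw [hm, Average.avg_sum_smul]
    refine Finset.sum_congr rfl fun φ _ => ?_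
    simp only [hb']
    split_ifs with h
    · rw [h]
    · rw [(Average.avg_irr N φ.2).resolve_left h, smul_zero, Nat.cast_zero, zero_smul]
  refine ⟨_, _, by rw [hm]; exact classInner_coeff m, by rw [havg]; exact classInner_coeff b', ?_⟩
  by_contra hlt
  push Not at hlt
  have hle : ∀ φ : Cfsg.IrrCharacter G, b' φ * b' φ ≤ m φ * m φ := fun φ => by
    simp only [hb']; split_ifs
    · exact le_rfl
    · exact Nat.zero_le _
  have heq := (Finset.sum_eq_sum_iff_of_le fun φ _ => hle φ).1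
    (le_antisymm (Finset.sum_le_sum fun φ _ => hle φ) (Nat.lt_succ_iff.1 hlt))
  have hb : ∀ φ, b' φ = m φ := fun φ => Nat.mul_self_inj.1 (heq φ (Finset.mem_univ φ))
  have hfix : Average.avg N F = F := by
    rw [havg]
    simp only [hb]
    exact hm.symm
  obtain ⟨h, hh, hne⟩ := hne
  exact hne (by rw [← hfix]; exact Average.avg_of_mem N F hh)

/-- Outside the centralizers of `N` a character equals its mean. -/
theorem avg_eq_self {N : Subgroup G} [N.Normal] [Fintype N]
    {F : G → ℂ} (hF : Cfsg.IsClassFunction G F) {x : G}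
    (hx : Subgroup.centralizer ({x} : Set G) ⊓ N = ⊥) : Average.avg N F x = F x := by
  have hmem : ∀ n : N, (n : G) * x * (n : G)⁻¹ * x⁻¹ ∈ N := fun n => by
    rw [mul_assoc, mul_assoc]
    exact N.mul_mem n.2 (by
      rw [← mul_assoc]
      exact (inferInstance : N.Normal).conj_mem _ (N.inv_mem n.2) x)
  let ψ : N → N := fun n => ⟨_, hmem n⟩
  have hψ : Function.Bijective ψ := by
    refine Finite.injective_iff_bijective.1 fun a b h => ?_
    have h1 : (a : G) * x * (a : G)⁻¹ * x⁻¹ = (b : G) * x * (b : G)⁻¹ * x⁻¹ := congrArg Subtype.val h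
    have h2 : (b : G)⁻¹ * a ∈ Subgroup.centralizer ({x} : Set G) ⊓ N := by
      refine ⟨Subgroup.mem_centralizer_singleton_iff.2 ?_, N.mul_mem (N.inv_mem b.2) a.2⟩
      calc (b : G)⁻¹ * a * x = (b : G)⁻¹ * ((a : G) * x * (a : G)⁻¹ * x⁻¹) * x * a := by group
        _ = x * ((b : G)⁻¹ * a) := by rw [h1]; group
    rw [hx, Subgroup.mem_bot, inv_mul_eq_one] at h2
    exact (Subtype.ext h2).symm
  rw [Average.avg, ← hψ.sum_comp, Finset.sum_congr rfl (g := fun _ => F x) fun n _ => ?_,
    Finset.sum_const, Finset.card_univ, nsmul_eq_mul, ← Nat.card_eq_fintype_card, ← mul_assoc,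
    inv_mul_cancel₀ (subgroup_card_ne_zero N), one_mul]
  show F ((n : G) * x * (n : G)⁻¹ * x⁻¹ * x) = F x
  rw [inv_mul_cancel_right]
  exact hF x n

variable {H : Subgroup G} [Fintype H] (hab : ∀ a ∈ H, ∀ b ∈ H, a * b = b * a)
  (hZ : H ⊓ Subgroup.center G = ⊥)
  (hone : ∀ g : G, g ∉ Subgroup.center G → ∀ a b : G,
    Subgroup.centralizer ({g} : Set G) ⊓ H.map (MulAut.conj a).toMonoidHom ≠ ⊥ →
    Subgroup.centralizer ({g} : Set G) ⊓ H.map (MulAut.conj b).toMonoidHom ≠ ⊥ →
    H.map (MulAut.conj a).toMonoidHom = H.map (MulAut.conj b).toMonoidHom)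

include hab hZ hone

open Classical in
/-- The degree bound. -/
theorem card_mul_sq_lt {d : ℕ} (ρ : Representation ℂ G (Fin d → ℂ)) [ρ.IsIrreducible]
    (hker : ∃ h ∈ H, ρ.character h ≠ ρ.character 1) {c : ℕ}
    (hc : Cfsg.classInner (fun h : H => ρ.character h) (fun _ => 1) = c) :
    Nat.card H * c ^ 2 < d ^ 2 := by
  set Nn : Subgroup G := Subgroup.normalizer (H : Set G) with hNn
  set Z : Subgroup G := Subgroup.center G
  haveI := Fintype.ofFinite Nn
  haveI := Fintype.ofFinite Z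
  have hHN : H ≤ Nn := Subgroup.le_normalizer
  set K := H.subgroupOf Nn with hK
  haveI : K.Normal := Subgroup.normal_in_normalizer
  haveI := Fintype.ofFinite K
  have hZN : ∀ z ∈ Z, z ∈ Nn := fun z hz => by
    refine Subgroup.mem_normalizer_iff.2 fun h => ?_
    rw [← Subgroup.mem_center_iff.1 hz h, mul_inv_cancel_right]
  set χ := ρ.character with hχ
  have hχc : Cfsg.IsCharacter G χ := isCharacter_character ρ
  set F : Nn → ℂ := fun x => χ x with hF
  have hFc : Cfsg.IsCharacter Nn F := isCharacter_restrict Nn hχc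
  set α := Average.avg K F with hα
  let E : H ≃* K := (Subgroup.subgroupOfEquivOfLe hHN).symm
  obtain ⟨h₀, hh₀, hne₀⟩ := hker
  obtain ⟨a, b, ha, hb, hab'⟩ := avg_norm_gap (N := K) hFc
    ⟨⟨h₀, hHN hh₀⟩, hh₀, fun e => hne₀ (by simpa [hF] using e)⟩
  -- the values of the mean on `H Z`
  have hval : ∀ (h : H) (z : Z) (x : Nn), (x : G) = h * z → ‖α x‖ = (c : ℝ) := by
    intro h z x hx
    obtain ⟨ω, hω⟩ := central_scalar ρ z.2
    have hωn : ‖ω‖ = 1 := by
      have h1 := (norm_char_eq_iff_scalar ρ (z : G)).2 ⟨ω, hω⟩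
      rw [Representation.character, hω, map_smul, show (LinearMap.id : (Fin d → ℂ) →ₗ[ℂ] _) = 1 from rfl,
        LinearMap.trace_one, norm_smul, Complex.norm_natCast] at h1
      exact (mul_eq_right₀ (Nat.cast_ne_zero.2 (finrank_pos_of_isIrreducible ρ).ne')).1 h1
    have hmul : ∀ g : G, χ (g * z) = ω * χ g := fun g => by
      simp only [hχ, Representation.character, map_mul, hω, Module.End.mul_eq_comp,
        LinearMap.comp_smul, LinearMap.comp_id, map_smul, smul_eq_mul]
    have h1 : α x = ω * (c : ℂ) := by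
      rw [← hc, hα, Average.avg, Cfsg.classInner]
      simp only [map_one, mul_one]
      rw [mul_left_comm ω, Finset.mul_sum (a := ω), Nat.card_congr E.toEquiv,
        ← Equiv.sum_comp ((Equiv.mulRight h⁻¹).trans E.toEquiv)]
      refine congrArg _ (Finset.sum_congr rfl fun k _ => ?_)
      rw [← hmul]
      show χ (((k * h⁻¹ : H) : G) * x) = χ ((k : G) * z)
      rw [hx, Subgroup.coe_mul, Subgroup.coe_inv, mul_assoc, inv_mul_cancel_left]
    rw [h1, norm_mul, hωn, one_mul, Complex.norm_natCast]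
  -- the good elements
  let good : Nn → Prop := fun x => (x : G) ∈ Z ∨ Subgroup.centralizer ({(x : G)} : Set G) ⊓ H ≠ ⊥
  have hbad : ∀ x : Nn, ¬ good x → α x = F x := fun x hx => by
    simp only [good, not_or, not_not] at hx
    refine avg_eq_self
      (isClassFunction_of_isCharacter hFc) (eq_bot_iff.2 fun y hy => ?_)
    have h1 : (y : G) ∈ Subgroup.centralizer ({(x : G)} : Set G) ⊓ H :=
      ⟨Subgroup.mem_centralizer_singleton_iff.2
        (congrArg Subtype.val (Subgroup.mem_centralizer_singleton_iff.1 hy.1)), hy.2⟩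
    rw [hx.2, Subgroup.mem_bot] at h1
    exact Subgroup.mem_bot.2 (Subtype.ext h1)
  -- the image of `H × Z`
  let ι : H × Z → Nn := fun p => ⟨(p.1 : G) * p.2, Nn.mul_mem (hHN p.1.2) (hZN _ p.2.2)⟩
  have hι : Function.Injective ι := by
    rintro ⟨h, z⟩ ⟨h', z'⟩ e
    have e1 : (h : G) * z = h' * z' := congrArg Subtype.val e
    have e2 : (h' : G)⁻¹ * h ∈ H ⊓ Z := by
      refine ⟨H.mul_mem (H.inv_mem h'.2) h.2, ?_⟩
      rw [show (h' : G)⁻¹ * h = z' * (z : G)⁻¹ by
        rw [eq_mul_inv_iff_mul_eq, mul_assoc, e1, inv_mul_cancel_left]]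
      exact Z.mul_mem z'.2 (Z.inv_mem z.2)
    rw [hZ, Subgroup.mem_bot, inv_mul_eq_one] at e2
    obtain rfl : h = h' := Subtype.ext e2.symm
    exact Prod.ext rfl (Subtype.ext (mul_left_cancel e1))
  have hgood : ∀ p, good (ι p) := by
    rintro ⟨h, z⟩
    by_cases hh1 : h = 1
    · left
      show (h : G) * z ∈ Z
      rw [hh1, Subgroup.coe_one, one_mul]
      exact z.2
    · right
      intro e
      refine hh1 (Subtype.ext ?_)
      have h1 : (h : G) ∈ Subgroup.centralizer ({((ι (h, z)) : G)} : Set G) ⊓ H := by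
        refine ⟨Subgroup.mem_centralizer_singleton_iff.2 ?_, h.2⟩
        show (h : G) * ((h : G) * z) = (h : G) * z * h
        rw [mul_assoc (h : G) (z : G), Subgroup.mem_center_iff.1 z.2 (h : G)]
      rw [e, Subgroup.mem_bot] at h1
      exact h1
  set A : ℝ := ∑ x ∈ Finset.univ.filter good, ‖F x‖ ^ 2 with hA
  have hAlow : (Nat.card Nn : ℝ) + (Nat.card H * Nat.card Z : ℕ) * (c : ℝ) ^ 2 ≤ A := by
    have hsF := sum_norm_sq ha
    have hsα := sum_norm_sq hb
    rw [← hα] at hsα
    rw [← Finset.sum_filter_add_sum_filter_not Finset.univ good] at hsF hsα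
    have hbads : ∑ x ∈ Finset.univ.filter (fun x => ¬ good x), ‖F x‖ ^ 2 =
        ∑ x ∈ Finset.univ.filter (fun x => ¬ good x), ‖α x‖ ^ 2 :=
      Finset.sum_congr rfl fun x hx => by rw [hbad x (Finset.mem_filter.1 hx).2]
    have hlow : ((Nat.card H * Nat.card Z : ℕ) : ℝ) * (c : ℝ) ^ 2 ≤
        ∑ x ∈ Finset.univ.filter good, ‖α x‖ ^ 2 := by
      refine le_trans (le_of_eq ?_) (Finset.sum_le_sum_of_subset_of_nonneg
        (s := Finset.univ.image ι) (fun x hx => ?_) fun _ _ _ => sq_nonneg _)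
      · rw [Finset.sum_image fun p _ q _ e => hι e,
          Finset.sum_congr rfl (g := fun _ => (c : ℝ) ^ 2) fun p _ => by
            rw [hval p.1 p.2 (ι p) rfl],
          Finset.sum_const, Finset.card_univ, Fintype.card_prod, nsmul_eq_mul,
          Nat.card_eq_fintype_card, Nat.card_eq_fintype_card]
      · obtain ⟨p, -, rfl⟩ := Finset.mem_image.1 hx
        exact Finset.mem_filter.2 ⟨Finset.mem_univ _, hgood p⟩
    have hgap : ((b : ℝ) + 1) * Nat.card Nn ≤ (a : ℝ) * Nat.card Nn :=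
      mul_le_mul_of_nonneg_right (by exact_mod_cast hab') (Nat.cast_nonneg _)
    rw [hA]
    linarith
  -- disjoint conjugates
  have hone' : ∀ (g : G), g ∉ Z → ∀ q q' : G,
      (∃ h ∈ H, h ≠ 1 ∧ Commute g (q * h * q⁻¹)) → (∃ h ∈ H, h ≠ 1 ∧ Commute g (q' * h * q'⁻¹)) →
      q⁻¹ * q' ∈ Nn := by
    intro g hg q q' h1 h2
    have key : ∀ t : G, (∃ h ∈ H, h ≠ 1 ∧ Commute g (t * h * t⁻¹)) →
        Subgroup.centralizer ({g} : Set G) ⊓ H.map (MulAut.conj t).toMonoidHom ≠ ⊥ := by
      rintro t ⟨h, hh, hh1, hc⟩ e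
      refine hh1 ?_
      have hm : t * h * t⁻¹ ∈ Subgroup.centralizer ({g} : Set G) ⊓ H.map (MulAut.conj t).toMonoidHom :=
        ⟨Subgroup.mem_centralizer_singleton_iff.2 hc.symm.eq, ⟨h, hh, by simp⟩⟩
      rw [e, Subgroup.mem_bot, conj_eq_one_iff] at hm
      exact hm
    have heq := hone g hg q q' (key q h1) (key q' h2)
    refine Subgroup.mem_normalizer_iff.2 fun x => ?_
    have hx := SetLike.ext_iff.1 heq (q' * x * q'⁻¹)
    simp only [Subgroup.mem_map_equiv, MulAut.conj_symm_apply] at hx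
    rw [show q'⁻¹ * (q' * x * q'⁻¹) * q' = x by group,
      show q⁻¹ * (q' * x * q'⁻¹) * q = q⁻¹ * q' * x * (q⁻¹ * q')⁻¹ by group] at hx
    exact hx.symm
  haveI := Fintype.ofFinite (G ⧸ Nn)
  set Y := (Finset.univ.filter good).filter (fun x : Nn => (x : G) ∉ Z) with hY
  let conjMap : (G ⧸ Nn) × Nn → G := fun p => p.1.out * p.2 * p.1.out⁻¹
  have hconjY : ∀ p : (G ⧸ Nn) × Nn, p ∈ (Finset.univ : Finset (G ⧸ Nn)) ×ˢ Y →
      conjMap p ∉ Z ∧ ∃ h ∈ H, h ≠ 1 ∧ Commute (conjMap p) (p.1.out * h * p.1.out⁻¹) := by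
    intro p hp
    obtain ⟨-, hp⟩ := Finset.mem_product.1 hp
    obtain ⟨hp, hz⟩ := Finset.mem_filter.1 hp
    refine ⟨fun h => hz ?_, ?_⟩
    · have := (inferInstance : Z.Normal).conj_mem _ h p.1.out⁻¹
      simpa [conjMap, mul_assoc] using this
    · obtain ⟨y, hy, hy1⟩ := (Subgroup.bot_or_exists_ne_one _).resolve_left
        ((Finset.mem_filter.1 hp).2.resolve_left hz)
      refine ⟨y, hy.2, hy1, ?_⟩
      exact (Commute.conj_iff (p.1.out)).2 (Subgroup.mem_centralizer_singleton_iff.1 hy.1).symm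
  have hsplit : A = (Nat.card Z : ℝ) * (d : ℝ) ^ 2 + ∑ x ∈ Y, ‖F x‖ ^ 2 := by
    rw [hA, ← Finset.sum_filter_add_sum_filter_not (Finset.univ.filter good) (fun x : Nn => (x : G) ∈ Z)]
    congr 1
    rw [Finset.filter_filter, Finset.sum_congr rfl (g := fun _ => (d : ℝ) ^ 2) fun x hx => ?_,
      Finset.sum_const, nsmul_eq_mul]
    · congr 2
      rw [← Fintype.card_subtype, ← Nat.card_eq_fintype_card]
      exact Nat.card_congr ⟨fun x => ⟨x.1, x.2.2⟩,
        fun z => ⟨⟨z, hZN _ z.2⟩, Or.inl z.2, z.2⟩, fun x => rfl, fun z => rfl⟩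
    · have hz := (Finset.mem_filter.1 hx).2.2
      have h1 := (norm_char_eq_iff_scalar ρ (x : G)).2 (central_scalar ρ hz)
      rw [Module.finrank_fin_fun] at h1
      show ‖ρ.character (x : G)‖ ^ 2 = _
      rw [h1]
  have htotal : (Nn.index : ℝ) * ∑ x ∈ Y, ‖F x‖ ^ 2 + (Nat.card Z : ℝ) * (d : ℝ) ^ 2 ≤
      (Nat.card G : ℝ) := by
    have hG : (∑ g : G, ‖χ g‖ ^ 2) = (1 : ℕ) * (Nat.card G : ℝ) :=
      sum_norm_sq (by rw [Nat.cast_one]; exact classInner_isIrr_self (isIrrCharacter_character ρ))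
    rw [Nat.cast_one, one_mul] at hG
    rw [← hG, ← Finset.sum_filter_add_sum_filter_not Finset.univ (fun g : G => g ∉ Z)]
    refine add_le_add ?_ (le_of_eq ?_)
    · rw [Subgroup.index_eq_card, Nat.card_eq_fintype_card, ← Finset.card_univ, ← nsmul_eq_mul,
        ← Finset.sum_const, ← Finset.sum_product' (f := fun (_ : G ⧸ Nn) x => ‖F x‖ ^ 2)]
      rw [Finset.sum_congr rfl (g := fun p => ‖χ (conjMap p)‖ ^ 2) fun p _ => by
        rw [show χ (conjMap p) = χ p.2 from isClassFunction_of_isCharacter hχc _ _]]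
      rw [← Finset.sum_image (g := conjMap) (f := fun g => ‖χ g‖ ^ 2)]
      · refine Finset.sum_le_sum_of_subset_of_nonneg (fun g hg => ?_) fun _ _ _ => sq_nonneg _
        obtain ⟨p, hp, rfl⟩ := Finset.mem_image.1 hg
        exact Finset.mem_filter.2 ⟨Finset.mem_univ _, (hconjY p hp).1⟩
      · intro p hp q hq e
        have hq' := hconjY q hq
        rw [show conjMap q = conjMap p from e.symm] at hq'
        have h1 : p.1 = q.1 := by
          rw [← QuotientGroup.out_eq' p.1, ← QuotientGroup.out_eq' q.1]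
          exact QuotientGroup.eq.2 (hone' _ (hconjY p hp).1 _ _ (hconjY p hp).2 hq'.2)
        refine Prod.ext h1 (Subtype.ext ?_)
        simp only [conjMap, h1, mul_left_inj, mul_right_inj] at e
        exact e
    · rw [Finset.sum_congr rfl (g := fun _ => (d : ℝ) ^ 2) fun g hg => ?_, Finset.sum_const,
        nsmul_eq_mul]
      · congr 2
        rw [Nat.card_eq_fintype_card, ← Fintype.card_subtype]
        exact Fintype.card_congr (Equiv.subtypeEquivRight fun g => not_not.symm)
      · have h1 := (norm_char_eq_iff_scalar ρ g).2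
          (central_scalar ρ (not_not.1 (Finset.mem_filter.1 hg).2))
        rw [Module.finrank_fin_fun] at h1
        show ‖ρ.character g‖ ^ 2 = _
        rw [h1]
  have hGN : (Nat.card G : ℝ) = (Nn.index : ℝ) * Nat.card Nn := by
    exact_mod_cast (Subgroup.index_mul_card Nn).symm
  by_contra hlt
  push Not at hlt
  have hlt' : (d : ℝ) ^ 2 ≤ (Nat.card H : ℝ) * (c : ℝ) ^ 2 := by exact_mod_cast hlt
  have hzd : (0 : ℝ) < (Nat.card Z : ℝ) * (d : ℝ) ^ 2 := by
    have h1 : 0 < Nat.card Z := Nat.card_pos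
    have h2 : 0 < d := by
      have := finrank_pos_of_isIrreducible ρ
      rwa [Module.finrank_fin_fun] at this
    positivity
  push_cast at hAlow
  have h3 : (Nat.card Z : ℝ) * (d : ℝ) ^ 2 ≤ (Nat.card H : ℝ) * Nat.card Z * (c : ℝ) ^ 2 := by
    have := mul_le_mul_of_nonneg_left hlt' (Nat.cast_nonneg (α := ℝ) (Nat.card Z))
    linarith
  have h4 : (Nn.index : ℝ) * Nat.card Nn ≤ (Nn.index : ℝ) * ∑ x ∈ Y, ‖F x‖ ^ 2 :=
    mul_le_mul_of_nonneg_left (by linarith) (Nat.cast_nonneg _)
  linarith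

/-- The bound on `1 + χ(1)` when no proper normal subgroup contains `H`. -/
theorem card_lt_succ_sq {χ : G → ℂ} (hχ : Cfsg.IsIrrCharacter G χ) {n : ℕ} (hn : χ 1 = n)
    (hn1 : n ≠ 1) (hH : ∀ M : Subgroup G, M.Normal → H ≤ M → M = ⊤) :
    Nat.card H < (1 + n) ^ 2 := by
  classical
  have hn0 : 0 < n := Nat.pos_of_ne_zero fun h => irr_one_ne_zero hχ (by rw [hn, h, Nat.cast_zero])
  have hχc := isCharacter_of_isIrr hχ
  have hψc : Cfsg.IsCharacter G (χ * fun g => conj (χ g)) :=
    isCharacter_mul hχc (isCharacter_conj hχc)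
  obtain ⟨m, hm⟩ := exists_nat_coeff hψc
  set t := PrincipalBlock.trivChar G
  have hmt : m t = 1 := by
    have h : (m t : ℂ) = 1 := by
      rw [← classInner_irr_coeff (fun φ => (m φ : ℂ)) t, ← hm, ← classInner_isIrr_self hχ]
      simp [Cfsg.classInner, t]
    exact_mod_cast h
  choose e he using fun φ : Cfsg.IrrCharacter G =>
    classInner_characters (isCharacter_restrict H (isCharacter_of_isIrr φ.2))
      (CfsgLib.Characters.isCharacter_one (G := H))
  choose D hD0 hD using fun φ : Cfsg.IrrCharacter G => exists_degree_pos φ.2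
  have het : e t = 1 := by
    have h : (e t : ℂ) = 1 := by
      rw [← he]
      exact (classInner_isIrr_self (CfsgLib.Characters.isIrr_one (G := H)))
    exact_mod_cast h
  have hDt : D t = 1 := by
    have h : (D t : ℂ) = 1 := by rw [← hD]; rfl
    exact_mod_cast h
  -- the two sums
  have hdeg : ∑ φ, m φ * D φ = n * n := by
    apply Nat.cast_injective (R := ℂ)
    have h := congrFun hm 1
    simp only [Pi.mul_apply, hn, Complex.conj_natCast, Finset.sum_apply, Pi.smul_apply,
      smul_eq_mul] at h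
    push_cast
    rw [h]
    exact Finset.sum_congr rfl fun φ _ => by rw [hD]
  obtain ⟨l, hl⟩ := exists_nat_coeff (isCharacter_restrict H hχc)
  have hfix : ∑ φ, m φ * e φ = ∑ θ : Cfsg.IrrCharacter H, l θ * l θ := by
    apply Nat.cast_injective (R := ℂ)
    rw [← classInner_coeff l, ← hl]
    have h : Cfsg.classInner (fun h : H => χ h) (fun h : H => χ h) =
        Cfsg.classInner (fun h : H => (χ * fun g => conj (χ g)) h) (fun _ => 1) := by
      simp [Cfsg.classInner]
    rw [h, hm, show (fun h : H => (∑ φ, (m φ : ℂ) • (φ : G → ℂ)) h) =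
      ∑ φ : Cfsg.IrrCharacter G, (m φ : ℂ) • fun h : H => (φ : G → ℂ) h from
        funext fun h => by simp [Finset.sum_apply], classInner_sum_left]
    push_cast
    exact Finset.sum_congr rfl fun φ _ => by rw [classInner_smul_left, he]
  have hlsum : n ≤ ∑ θ : Cfsg.IrrCharacter H, l θ * l θ := by
    have h1 : n = ∑ θ, l θ := by
      apply Nat.cast_injective (R := ℂ)
      have h := congrFun hl 1
      simp only [Finset.sum_apply, Pi.smul_apply, smul_eq_mul] at h
      rw [← hn, show χ 1 = χ ((1 : H) : G) by rw [Subgroup.coe_one], h]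
      push_cast
      refine Finset.sum_congr rfl fun θ _ => ?_
      haveI : IsMulCommutative H := ⟨⟨fun a b => Subtype.ext (hab a a.2 b b.2)⟩⟩
      obtain ⟨q, σ, hσ, hσθ⟩ := θ.2
      haveI := hσ
      rw [← hσθ, Representation.char_one,
        Representation.IsIrreducible.finrank_eq_one_of_isMulCommutative σ, Nat.cast_one, mul_one]
    rw [h1]
    exact Finset.sum_le_sum fun θ _ => Nat.le_mul_self _
  have hker : ∀ φ : Cfsg.IrrCharacter G, φ ≠ t → Nat.card H * e φ ^ 2 < D φ ^ 2 := by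
    intro φ hφ
    obtain ⟨d, σ, hσ, hσφ⟩ := id φ.2
    haveI := hσ
    have hdD : D φ = d := by
      apply Nat.cast_injective (R := ℂ)
      rw [← hD, ← hσφ, Representation.char_one, Module.finrank_fin_fun]
    rw [hdD]
    refine card_mul_sq_lt hab hZ hone σ ?_ (by rw [hσφ]; exact he φ)
    by_contra h
    push Not at h
    rw [hσφ] at h
    have htop := hH _ (inferInstance : (PrincipalBlock.charKer φ).Normal) fun x hx => h x hx
    refine hφ (Subtype.ext ?_)
    by_contra hne
    have h0 := classInner_isIrr_ne φ.2 t.2 hne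
    have hconst : (φ : G → ℂ) = fun _ => (D φ : ℂ) := funext fun g => by
      rw [← hD]
      exact show g ∈ PrincipalBlock.charKer φ from htop ▸ Subgroup.mem_top g
    rw [hconst] at h0
    simp only [Cfsg.classInner, t, PrincipalBlock.trivChar_apply, map_one, mul_one, Finset.sum_const,
      Finset.card_univ, nsmul_eq_mul, ← Nat.card_eq_fintype_card] at h0
    rw [inv_mul_cancel_left₀ natCard_ne_zero, Nat.cast_eq_zero] at h0
    exact (hD0 φ).ne' h0
  set s : ℝ := Real.sqrt (Nat.card H) with hs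
  have hs2 : s ^ 2 = Nat.card H := Real.sq_sqrt (Nat.cast_nonneg _)
  have hs0 : 0 ≤ s := Real.sqrt_nonneg _
  have hlt : ∀ φ ∈ Finset.univ.erase t, s * (e φ : ℝ) < D φ := by
    intro φ hφ
    have h := hker φ (Finset.mem_erase.1 hφ).1
    have h' : (s * (e φ : ℝ)) ^ 2 < (D φ : ℝ) ^ 2 := by
      rw [mul_pow, hs2]
      exact_mod_cast h
    exact lt_of_pow_lt_pow_left₀ 2 (Nat.cast_nonneg _) h'
  rw [← Finset.add_sum_erase _ _ (Finset.mem_univ t), hmt, het] at hfix
  rw [← Finset.add_sum_erase _ _ (Finset.mem_univ t), hmt, hDt] at hdeg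
  obtain ⟨φ₀, hφ₀, hne₀⟩ : ∃ φ ∈ Finset.univ.erase t, m φ * e φ ≠ 0 :=
    Finset.exists_ne_zero_of_sum_ne_zero (by omega)
  have hstrict : ∑ φ ∈ Finset.univ.erase t, s * ((m φ * e φ : ℕ) : ℝ) <
      ∑ φ ∈ Finset.univ.erase t, ((m φ * D φ : ℕ) : ℝ) := by
    refine Finset.sum_lt_sum (fun φ hφ => ?_) ⟨φ₀, hφ₀, ?_⟩
    · push_cast
      rw [mul_left_comm]
      exact mul_le_mul_of_nonneg_left (hlt φ hφ).le (Nat.cast_nonneg _)
    · push_cast
      rw [mul_left_comm]
      refine mul_lt_mul_of_pos_left (hlt φ₀ hφ₀) (Nat.cast_pos.2 (Nat.pos_of_ne_zero fun h => ?_))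
      exact hne₀ (by rw [h, zero_mul])
  rw [← Finset.mul_sum, ← Nat.cast_sum, ← Nat.cast_sum] at hstrict
  have hlow : (n : ℝ) - 1 ≤ ((∑ φ ∈ Finset.univ.erase t, m φ * e φ : ℕ) : ℝ) := by
    have : n ≤ (∑ φ ∈ Finset.univ.erase t, m φ * e φ) + 1 := by omega
    have h : (n : ℝ) ≤ ((∑ φ ∈ Finset.univ.erase t, m φ * e φ : ℕ) : ℝ) + 1 := by exact_mod_cast this
    linarith
  have hup : ((∑ φ ∈ Finset.univ.erase t, m φ * D φ : ℕ) : ℝ) = (n : ℝ) * n - 1 := by
    rw [eq_sub_iff_add_eq]
    exact_mod_cast (show (∑ φ ∈ Finset.univ.erase t, m φ * D φ) + 1 = n * n by omega)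
  rw [hup] at hstrict
  have hn2 : (2 : ℝ) ≤ n := by exact_mod_cast (show 2 ≤ n by omega)
  have hsn : s < 1 + (n : ℝ) := by
    by_contra h
    push Not at h
    have h1 := mul_le_mul h hlow (by linarith) hs0
    nlinarith
  have : (Nat.card H : ℝ) < (1 + (n : ℝ)) ^ 2 := by rw [← hs2]; exact pow_lt_pow_left₀ hsn hs0 two_ne_zero
  exact_mod_cast this

end CfsgLib.CharactersDeep.AbelianBound
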