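import Cfsg.Agent.CharactersDeep.AltPresentation
import Mathlib.GroupTheory.Perm.ViaEmbedding
import Mathlib.GroupTheory.Commutator.Basic
import Mathlib.GroupTheory.Abelianization.Defs
import Mathlib.GroupTheory.GroupAction.MultipleTransitivity
import Mathlib.GroupTheory.SpecificGroups.Alternating

/-!
# The Schur multiplier of the alternating group has order at most two

For `n ≥ 4`, `n ≠ 6, 7`, a central extension of the even permutations with kernel in the derived group
has kernel generated by the commutator of lifts of two commuting double transpositions.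
-/

set_option autoImplicit false
set_option linter.style.haveILetI false
set_option linter.unusedSectionVars false

namespace CfsgLib.CharactersDeep.AltMultiplier

open AltPresentation
open scoped commutatorElement

section Central

variable {Γ P : Type*} [Group Γ] [Group P] (π : Γ →* P) (hker : π.ker ≤ Subgroup.center Γ)

include hker

theorem central {z : Γ} (hz : π z = 1) (x : Γ) : z * x = x * z :=
  (Subgroup.mem_center_iff.1 (hker hz) x).symm

omit hker in
theorem comm_mem {x y : Γ} (h : π x * π y = π y * π x) : π ⁅x, y⁆ = 1 := by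
  rw [map_commutatorElement, commutatorElement_eq_one_iff_mul_comm]
  exact h

theorem conj_eq {z : Γ} (hz : π z = 1) (g : Γ) : g * z * g⁻¹ = z := by
  rw [← central π hker hz g, mul_inv_cancel_right]

theorem comm_mul_right {x y y' : Γ} (h' : π x * π y' = π y' * π x) :
    ⁅x, y * y'⁆ = ⁅x, y⁆ * ⁅x, y'⁆ := by
  rw [commutatorElement_mul_right_eq_mul_conj, mul_assoc ⁅x, y⁆ y, mul_assoc ⁅x, y⁆,
    conj_eq π hker (comm_mem π h') y]

theorem comm_mul_left {x x' y : Γ} (h' : π x' * π y = π y * π x') :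
    ⁅x * x', y⁆ = ⁅x', y⁆ * ⁅x, y⁆ := by
  rw [commutatorElement_mul_left_eq_conj_mul]
  rw [conj_eq π hker (comm_mem π h') x]

theorem comm_congr {x x' y y' : Γ} (hx : π x = π x') (hy : π y = π y')
    (h : π x * π y = π y * π x) : ⁅x, y⁆ = ⁅x', y'⁆ := by
  have hz : π (x'⁻¹ * x) = 1 := by rw [map_mul, map_inv, hx, inv_mul_cancel]
  have hw : π (y'⁻¹ * y) = 1 := by rw [map_mul, map_inv, hy, inv_mul_cancel]
  have hc : ∀ {z : Γ}, π z = 1 → ∀ t : Γ, ⁅z, t⁆ = 1 ∧ ⁅t, z⁆ = 1 := fun hz t =>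
    ⟨commutatorElement_eq_one_iff_mul_comm.2 (central π hker hz t),
      commutatorElement_eq_one_iff_mul_comm.2 (central π hker hz t).symm⟩
  calc ⁅x, y⁆ = ⁅x' * (x'⁻¹ * x), y⁆ := by rw [mul_inv_cancel_left]
    _ = ⁅x', y⁆ := by
        rw [comm_mul_left π hker (by rw [hz, one_mul, mul_one]), (hc hz y).1, one_mul]
    _ = ⁅x', y' * (y'⁻¹ * y)⁆ := by rw [mul_inv_cancel_left]
    _ = ⁅x', y'⁆ := by
        rw [comm_mul_right π hker (by rw [hw, one_mul, mul_one]), (hc hw x').2, mul_one]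

theorem comm_conj {x y x' y' g : Γ} (hx : π x' = π g * π x * (π g)⁻¹)
    (hy : π y' = π g * π y * (π g)⁻¹) (h : π x * π y = π y * π x) : ⁅x', y'⁆ = ⁅x, y⁆ := by
  rw [← comm_congr π hker (x := g * x * g⁻¹) (y := g * y * g⁻¹) (by simp [hx]) (by simp [hy])
    (by simp [mul_assoc, reassoc_comm h]), ← conjugate_commutatorElement,
    conj_eq π hker (comm_mem π h)]
where
  reassoc_comm {a b : P} (h : a * b = b * a) {c : P} : a * (b * c) = b * (a * c) := by
    rw [← mul_assoc, h, mul_assoc]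

theorem comm_self_mul {x y : Γ} (h : π x * π y = π y * π x) : ⁅x, x * y⁆ = ⁅x, y⁆ := by
  rw [comm_mul_right π hker h, commutatorElement_self, one_mul]

theorem comm_sq {x y : Γ} (hxy : π x * π y = π y * π x) (hy : π (y * y) = 1) :
    ⁅x, y⁆ * ⁅x, y⁆ = 1 := by
  rw [← comm_mul_right π hker hxy]
  exact commutatorElement_eq_one_iff_mul_comm.2 (central π hker hy x).symm

theorem comm_cube {x y : Γ} (hxy : π x * π y = π y * π x) (hy : π (y ^ 3) = 1) :
    ⁅x, y⁆ * ⁅x, y⁆ * ⁅x, y⁆ = 1 := by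
  rw [← comm_mul_right π hker hxy, ← comm_mul_right π hker hxy]
  exact commutatorElement_eq_one_iff_mul_comm.2
    (central π hker (z := y * y * y) (by rw [← hy, pow_succ, pow_two]) x).symm

end Central

section Perm

variable {m n : ℕ}

theorem via_swap (e : Fin m ↪ Fin n) (a b : Fin m) :
    Equiv.Perm.viaEmbeddingHom e (Equiv.swap a b) = Equiv.swap (e a) (e b) := by
  rw [Equiv.Perm.viaEmbeddingHom_apply]
  ext x
  by_cases hx : x ∈ Set.range e
  · obtain ⟨y, rfl⟩ := hx
    rw [Equiv.Perm.viaEmbedding_apply, e.injective.swap_apply]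
  · rw [Equiv.Perm.viaEmbedding_apply_of_notMem _ _ _ hx, Equiv.swap_apply_of_ne_of_ne
      (fun h => hx ⟨a, h.symm⟩) (fun h => hx ⟨b, h.symm⟩)]

theorem via_conj (e e' : Fin m ↪ Fin n) (g : Equiv.Perm (Fin n)) (hg : ∀ x, g (e x) = e' x)
    (s : Equiv.Perm (Fin m)) :
    Equiv.Perm.viaEmbeddingHom e' s = g * Equiv.Perm.viaEmbeddingHom e s * g⁻¹ := by
  ext x
  obtain ⟨y, rfl⟩ := g.surjective x
  simp only [Equiv.Perm.mul_apply, Equiv.Perm.inv_def, Equiv.symm_apply_apply, Equiv.Perm.viaEmbeddingHom_apply]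
  by_cases hy : y ∈ Set.range e
  · obtain ⟨z, rfl⟩ := hy
    rw [hg, Equiv.Perm.viaEmbedding_apply, Equiv.Perm.viaEmbedding_apply, hg]
  · rw [Equiv.Perm.viaEmbedding_apply_of_notMem _ _ _ hy,
      Equiv.Perm.viaEmbedding_apply_of_notMem _ _ _ fun ⟨z, hz⟩ => hy ⟨z, g.injective (by rw [hg, hz])⟩]

/-- Transport between embeddings by an even permutation, given an odd one fixing the data. -/
theorem exists_even_conj (e e' : Fin m ↪ Fin n) (c : Equiv.Perm (Fin m))
    (hc : Equiv.Perm.sign (Equiv.Perm.viaEmbeddingHom e c) = -1) :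
    ∃ g : Equiv.Perm (Fin n), Equiv.Perm.sign g = 1 ∧ ∀ s : Equiv.Perm (Fin m), c * s = s * c →
      Equiv.Perm.viaEmbeddingHom e' s = g * Equiv.Perm.viaEmbeddingHom e s * g⁻¹ := by
  obtain ⟨g, hg⟩ := Equiv.Perm.exists_extending_pair e e' e.injective e'.injective
  rcases Int.units_eq_one_or (Equiv.Perm.sign g) with h | h
  · exact ⟨g, h, fun s _ => via_conj e e' g (fun x => hg x) s⟩
  · refine ⟨g * Equiv.Perm.viaEmbeddingHom e c, by rw [map_mul, h, hc]; decide, fun s hs => ?_⟩
    rw [via_conj e e' g (fun x => hg x) s, mul_inv_rev]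
    have : Equiv.Perm.viaEmbeddingHom e c * Equiv.Perm.viaEmbeddingHom e s *
        (Equiv.Perm.viaEmbeddingHom e c)⁻¹ = Equiv.Perm.viaEmbeddingHom e s := by
      rw [← map_mul, hs, map_mul, mul_inv_cancel_right]
    conv_lhs => rw [← this]
    simp only [mul_assoc]

end Perm

variable {k : ℕ}

theorem er_eq {i : ℕ} (hi : i < k) :
    er k i = Equiv.swap ⟨0, by omega⟩ ⟨1, by omega⟩ * Equiv.swap ⟨i + 1, by omega⟩ ⟨i + 2, by omega⟩ := by
  simp only [er, sw, dif_pos (show 0 < k + 1 by omega), dif_pos (show i + 1 < k + 1 by omega)]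
  rfl

variable {Γ : Type*} [Group Γ] (π : Γ →* Equiv.Perm (Fin (k + 2)))

/-- The hypotheses on the extension. -/
structure Ext (π : Γ →* Equiv.Perm (Fin (k + 2))) : Prop where
  two_le : 2 ≤ k
  central : π.ker ≤ Subgroup.center Γ
  stem : π.ker ≤ commutator Γ
  sign : ∀ x, Equiv.Perm.sign (π x) = 1
  surj : ∀ g, Equiv.Perm.sign g = 1 → ∃ x, π x = g

/-- The first four points. -/
def four (hk : 2 ≤ k) : Fin 4 ↪ Fin (k + 2) := Fin.castLEEmb (by omega)

local notation "ι" => Equiv.Perm.viaEmbeddingHom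

theorem er_zero (hk : 2 ≤ k) :
    er k 0 = ι (four hk) (Equiv.swap 0 1 * Equiv.swap 1 2) := by
  rw [er_eq (by omega), map_mul, via_swap, via_swap]
  rfl

theorem er_one (hk : 2 ≤ k) :
    er k 1 = ι (four hk) (Equiv.swap 0 1 * Equiv.swap 2 3) := by
  rw [er_eq (by omega), map_mul, via_swap, via_swap]
  rfl

/-- Data: normalised lifts of `er 0` and `er 1`. -/
theorem Ext.exists_base (S : Ext π) (x₀ : Γ) (h₀ : π x₀ = er k 0) :
    ∃ x₁ K : Γ, π x₁ = er k 1 ∧ π K = 1 ∧ K * K = 1 ∧ x₁ * x₁ = K ∧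
      (x₁ * (x₀ * x₁ * x₀⁻¹)) * (x₀ * (x₀ * x₁ * x₀⁻¹) * x₀⁻¹) = 1 ∧
      K = ⁅x₁, x₀ * x₁ * x₀⁻¹⁆ := by
  have hk := S.two_le
  obtain ⟨y, hy⟩ := S.surj (er k 1) (sign_er k (by omega))
  have hc := fun {z : Γ} (hz : π z = 1) (t : Γ) => AltMultiplier.central π S.central hz t
  -- normalise the square
  have huv : π y * π (x₀ * y * x₀⁻¹) = π (x₀ * y * x₀⁻¹) * π y := by
    simp only [map_mul, map_inv, hy, h₀]
    rw [er_zero hk, er_one hk, ← map_inv]
    simp only [← map_mul]
    exact congrArg _ (by decide)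
  have huvw : π (y * (x₀ * y * x₀⁻¹) * (x₀ * (x₀ * y * x₀⁻¹) * x₀⁻¹)) = 1 := by
    simp only [map_mul, map_inv, hy, h₀]
    rw [er_zero hk, er_one hk, ← map_inv]
    simp only [← map_mul]
    rw [← map_one (ι (four hk))]
    exact congrArg _ (by decide)
  have hy2 : π (y * y) = 1 := by
    rw [map_mul, hy, ← pow_two]
    exact (er_isAltGens k).sq 1 Nat.one_pos (by omega)
  set K := ⁅y, x₀ * y * x₀⁻¹⁆ with hK
  set c := y * y with hcdef
  set X := x₀ * y * x₀⁻¹ with hX
  set e := y * X * (x₀ * X * x₀⁻¹) with he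
  have hπK : π K = 1 := comm_mem π huv
  have hX2 : X * X = c := by
    rw [hX, show x₀ * y * x₀⁻¹ * (x₀ * y * x₀⁻¹) = x₀ * (y * y) * x₀⁻¹ by group]
    exact conj_eq π S.central hy2 x₀
  have hKK : K * K = 1 := comm_sq π S.central huv (by rw [hX2]; exact hy2)
  set Y := x₀ * X * x₀⁻¹ with hY
  have hY2 : Y * Y = c := by
    rw [hY, show x₀ * X * x₀⁻¹ * (x₀ * X * x₀⁻¹) = x₀ * (X * X) * x₀⁻¹ by group, hX2]
    exact conj_eq π S.central hy2 x₀
  have hyXyX : y * X * (y * X) = K * c * c := by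
    calc y * X * (y * X) = (y * X * y⁻¹ * X⁻¹) * (X * c * X) := by rw [hcdef]; group
      _ = K * (c * (X * X)) := by
          rw [← hc hy2 X, mul_assoc c X X, hK, commutatorElement_def]
      _ = K * c * c := by rw [hX2]; exact (mul_assoc K c c).symm
  -- the square of `e`
  have hee : e * e = K * c * c * c := by
    have h1 : e * Y⁻¹ = y * X := mul_inv_cancel_right (y * X) Y
    calc e * e = (e * Y⁻¹) * (e * Y⁻¹) * (Y * Y) := by
          rw [show e * Y⁻¹ * (e * Y⁻¹) * (Y * Y) = e * (Y⁻¹ * e * Y) by group]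
          congr 1
          rw [mul_assoc, hc huvw Y, inv_mul_cancel_left]
      _ = K * c * c * c := by rw [h1, hyXyX, hY2]
  -- the correction, computed in the commutative kernel
  letI : CommGroup π.ker := { (inferInstance : Group π.ker) with
    mul_comm := fun a b => Subtype.ext (hc a.2 b) }
  let cA : π.ker := ⟨c, hy2⟩
  let eA : π.ker := ⟨e, huvw⟩
  let KA : π.ker := ⟨K, hπK⟩
  have hKA : KA * KA = 1 := Subtype.ext hKK
  have heA : eA * eA = KA * cA * cA * cA := Subtype.ext hee
  let zA : π.ker := cA * eA⁻¹ * KA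
  have hz2 : cA * zA * zA = KA := by
    calc cA * zA * zA = cA * cA * cA * (eA * eA)⁻¹ * (KA * KA) := by
          simp only [zA, mul_inv_rev]; ac_rfl
      _ = cA * cA * cA * (cA * cA * cA)⁻¹ * KA⁻¹ := by
          rw [heA, hKA, mul_one, mul_assoc KA, mul_assoc KA, mul_inv_rev, ← mul_assoc]
      _ = KA := by rw [mul_inv_cancel, one_mul, inv_eq_of_mul_eq_one_right hKA]
  have hz3 : eA * zA * zA * zA = 1 := by
    calc eA * zA * zA * zA = eA * eA⁻¹ * (cA * cA * cA * (eA * eA)⁻¹) * (KA * KA) * KA := by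
          simp only [zA, mul_inv_rev]; ac_rfl
      _ = cA * cA * cA * (cA * cA * cA)⁻¹ * KA⁻¹ * KA := by
          rw [heA, hKA, mul_inv_cancel, one_mul, mul_one, mul_assoc KA, mul_assoc KA, mul_inv_rev,
            ← mul_assoc]
      _ = 1 := by rw [mul_inv_cancel, one_mul, inv_mul_cancel]
  set z : Γ := (zA : Γ) with hzdef
  have hz : π z = 1 := zA.2
  have hconj : x₀ * (y * z) * x₀⁻¹ = X * z := by
    rw [hX, show x₀ * (y * z) * x₀⁻¹ = x₀ * y * x₀⁻¹ * (x₀ * z * x₀⁻¹) by group,
      conj_eq π S.central hz x₀]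
  refine ⟨y * z, K, by rw [map_mul, hy, hz, mul_one], hπK, hKK, ?_, ?_, ?_⟩
  · calc y * z * (y * z) = c * z * z := by
          rw [mul_assoc y z, ← mul_assoc z y, hc hz y, hcdef]; simp only [mul_assoc]
      _ = K := congrArg Subtype.val hz2
  · rw [hconj, show x₀ * (X * z) * x₀⁻¹ = Y * z by
      rw [hY, show x₀ * (X * z) * x₀⁻¹ = x₀ * X * x₀⁻¹ * (x₀ * z * x₀⁻¹) by group,
        conj_eq π S.central hz x₀]]
    calc y * z * (X * z) * (Y * z) = y * (z * X) * (z * Y) * z := by simp only [mul_assoc]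
      _ = y * X * (z * z * Y) * z := by rw [hc hz X]; simp only [mul_assoc]
      _ = e * z * z * z := by
          rw [hc (z := z * z) (by rw [map_mul, hz, one_mul]) Y, he]; simp only [mul_assoc]
      _ = 1 := congrArg Subtype.val hz3
  · rw [hconj, hK]
    refine comm_congr π S.central ?_ ?_ huv
    · simp only [map_mul, hz, mul_one]
    · simp only [map_mul, hz, mul_one]

/-- The points `0, 1, i + 1, i + 2`. -/
def emb4 {i : ℕ} (h1 : 0 < i) (hi : i < k) : Fin 4 ↪ Fin (k + 2) where
  toFun a := ⟨if a.val < 2 then a.val else i + a.val - 1, by have := a.isLt; split_ifs <;> omega⟩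
  inj' a b h := by
    simp only [Fin.mk.injEq] at h
    apply Fin.ext
    split_ifs at h <;> omega

/-- The points `0, 1, i + 1, i + 2, j + 1, j + 2`. -/
def emb6 {i j : ℕ} (h1 : 0 < i) (hij : i + 1 < j) (hj : j < k) : Fin 6 ↪ Fin (k + 2) where
  toFun a := ⟨if a.val < 2 then a.val else if a.val < 4 then i + a.val - 1 else j + a.val - 3, by
    have := a.isLt; split_ifs <;> omega⟩
  inj' a b h := by
    simp only [Fin.mk.injEq] at h
    apply Fin.ext
    have := a.isLt
    have := b.isLt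
    split_ifs at h <;> omega

theorem sign_via_swap {m : ℕ} (e : Fin m ↪ Fin (k + 2)) {a b : Fin m} (h : a ≠ b) :
    Equiv.Perm.sign (ι e (Equiv.swap a b)) = -1 := by
  rw [via_swap, Equiv.Perm.sign_swap fun he => h (e.injective he)]

theorem sign_via_two {m : ℕ} (e : Fin m ↪ Fin (k + 2)) {a b c d : Fin m} (h : a ≠ b) (h' : c ≠ d) :
    Equiv.Perm.sign (ι e (Equiv.swap a b * Equiv.swap c d)) = 1 := by
  rw [map_mul, map_mul, sign_via_swap e h, sign_via_swap e h']
  decide

/-- A lift of `er i` with the square of the lift of `er 1`. -/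
theorem Ext.exists_lift (S : Ext π) {x₁ K : Γ} (h₁ : π x₁ = er k 1) (hK : π K = 1)
    (hsq : x₁ * x₁ = K) {i : ℕ} (h0 : 0 < i) (hi : i < k) :
    ∃ x, π x = er k i ∧ x * x = K := by
  have hk := S.two_le
  obtain ⟨g, hg1, hg⟩ := exists_even_conj (four hk) (emb4 h0 hi) (Equiv.swap 0 1)
    (sign_via_swap _ (by decide))
  obtain ⟨G, hG⟩ := S.surj g hg1
  refine ⟨G * x₁ * G⁻¹, ?_, ?_⟩
  · rw [map_mul, map_mul, map_inv, hG, h₁, er_one hk, ← hg _ (by decide), map_mul, via_swap,
      via_swap, er_eq hi]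
    congr 1 <;> congr 1 <;> ext <;> simp [emb4] <;> omega
  · rw [show G * x₁ * G⁻¹ * (G * x₁ * G⁻¹) = G * (x₁ * x₁) * G⁻¹ by group, hsq]
    exact conj_eq π S.central hK G

/-- Two commuting double transpositions sharing a transposition. -/
theorem Ext.comm_six (S : Ext π) {x₀ x₁ : Γ} (h₀ : π x₀ = er k 0) (h₁ : π x₁ = er k 1)
    (e : Fin 6 ↪ Fin (k + 2)) {U V : Γ}
    (hU : π U = ι e (Equiv.swap 0 1 * Equiv.swap 2 3))
    (hV : π V = ι e (Equiv.swap 2 3 * Equiv.swap 4 5))
    (hsq : ⁅x₁, x₀ * x₁ * x₀⁻¹⁆ * ⁅x₁, x₀ * x₁ * x₀⁻¹⁆ = 1) :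
    ⁅U, V⁆ = ⁅x₁, x₀ * x₁ * x₀⁻¹⁆ := by
  have h6 : 6 ≤ k + 2 := by simpa using Fintype.card_le_of_embedding e
  set e₀ : Fin 6 ↪ Fin (k + 2) := Fin.castLEEmb h6 with he₀
  have hk := S.two_le
  have hA : π x₁ = ι e₀ (Equiv.swap 0 1 * Equiv.swap 2 3) := by
    rw [h₁, er_eq (by omega), map_mul, via_swap, via_swap]; rfl
  have hB : π x₀ = ι e₀ (Equiv.swap 0 1 * Equiv.swap 1 2) := by
    rw [h₀, er_eq (by omega), map_mul, via_swap, via_swap]; rfl
  -- reduce to the standard embedding
  obtain ⟨g, hg1, hg⟩ := exists_even_conj e₀ e (Equiv.swap 0 1) (sign_via_swap _ (by decide))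
  obtain ⟨G, hG⟩ := S.surj g hg1
  obtain ⟨W, hW⟩ := S.surj (ι e₀ (Equiv.swap 2 3 * Equiv.swap 4 5))
    (sign_via_two _ (by decide) (by decide))
  have hcw : π x₁ * π W = π W * π x₁ := by
    rw [hA, hW, ← map_mul, ← map_mul]; exact congrArg _ (by decide)
  rw [comm_conj π S.central (x := x₁) (y := W) (g := G)
    (by rw [hU, hG, hA]; exact hg _ (by decide)) (by rw [hV, hG, hW]; exact hg _ (by decide)) hcw]
  set X := x₀ * x₁ * x₀⁻¹ with hX
  have hcX : π x₁ * π X = π X * π x₁ := by
    simp only [hX, map_mul, map_inv]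
    rw [hA, hB, ← map_inv]
    simp only [← map_mul]
    exact congrArg _ (by decide)
  set R := x₁ * X * W with hR
  have hRR : π (R * R) = π x₁ := by
    simp only [hR, hX, map_mul, map_inv]
    rw [hA, hB, hW, ← map_inv]
    simp only [← map_mul]
    exact congrArg _ (by decide)
  have hcR : π x₁ * π R = π R * π x₁ := by rw [← hRR, map_mul, mul_assoc]
  have h1 : ⁅x₁, R⁆ = 1 := by
    rw [comm_congr π S.central (x' := R * R) (y' := R) hRR.symm rfl hcR,
      commutatorElement_eq_one_iff_mul_comm, mul_assoc]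
  rw [hR, comm_mul_right π S.central hcw, comm_self_mul π S.central hcX] at h1
  exact mul_left_cancel (h1.trans hsq.symm)

/-- Disjoint elements of order three commute after lifting, for degree at least eight. -/
theorem Ext.comm_three (S : Ext π) (h8 : 8 ≤ k + 2) {A B : Γ}
    (hA : π A = ι (Fin.castLEEmb h8) (Equiv.swap 0 1 * Equiv.swap 1 2))
    (hB : π B = ι (Fin.castLEEmb h8) (Equiv.swap 3 4 * Equiv.swap 4 5)) :
    ⁅A, B⁆ = 1 := by
  have hcomm : π A * π B = π B * π A := by
    rw [hA, hB, ← map_mul, ← map_mul]; exact congrArg _ (by decide)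
  obtain ⟨G, hG⟩ := S.surj (ι (Fin.castLEEmb h8) (Equiv.swap 0 1 * Equiv.swap 6 7))
    (sign_via_two _ (by decide) (by decide))
  have h1 : ⁅A⁻¹, B⁆ = ⁅A, B⁆ := by
    refine comm_conj π S.central (g := G) ?_ ?_ hcomm
    · rw [map_inv, hA, hG, ← map_inv, ← map_inv, ← map_mul, ← map_mul]
      exact congrArg _ (by decide)
    · rw [hB, hG, ← map_inv, ← map_mul, ← map_mul]
      exact congrArg _ (by decide)
  have h2 : ⁅A * A⁻¹, B⁆ = ⁅A⁻¹, B⁆ * ⁅A, B⁆ := comm_mul_left π S.central (by
    rw [map_inv]; exact ((Commute.inv_left (show Commute (π A) (π B) from hcomm))).eq)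
  rw [mul_inv_cancel, commutatorElement_one_left, h1] at h2
  have h3 := comm_cube π S.central hcomm (by
    rw [map_pow, hB, ← map_pow, ← map_one (ι (Fin.castLEEmb h8))]; exact congrArg _ (by decide))
  rwa [← h2, one_mul] at h3

/-- A lift of `er 0` of order three inverted by lifts of `er 2`. -/
theorem Ext.exists_cube (S : Ext π) (hk : 3 ≤ k) {x₂ : Γ} (h₂ : π x₂ = er k 2) :
    ∃ x₀, π x₀ = er k 0 ∧ x₀ ^ 3 = 1 ∧ x₂ * x₀ * x₂⁻¹ = x₀⁻¹ := by
  obtain ⟨x, hx⟩ := S.surj (er k 0) (sign_er k (by omega))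
  have hE := er_isAltGens k
  have hinv : er k 2 * er k 0 * (er k 2)⁻¹ = (er k 0)⁻¹ := by
    have h := hE.far 0 2 (by omega) (by omega)
    rw [pow_two, mul_eq_one_iff_eq_inv, mul_inv_rev] at h
    have h2 : (er k 2)⁻¹ = er k 2 := by
      refine inv_eq_of_mul_eq_one_right ?_
      rw [← pow_two]; exact hE.sq 2 (by omega) (by omega)
    rw [h2] at h ⊢
    calc er k 2 * er k 0 * er k 2 = er k 2 * (er k 0 * er k 2) := mul_assoc _ _ _
      _ = er k 2 * er k 2 * (er k 0)⁻¹ := by rw [h, mul_assoc]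
      _ = (er k 0)⁻¹ := by rw [← pow_two, hE.sq 2 (by omega) (by omega), one_mul]
  set w := x * (x₂ * x * x₂⁻¹) with hwdef
  have hw : π w = 1 := by simp only [hwdef, map_mul, map_inv, hx, h₂, hinv, mul_inv_cancel]
  set c := x ^ 3 with hc
  have hc1 : π c = 1 := by rw [map_pow, hx, hE.cube (by omega)]
  have hcom := fun {z : Γ} (hz : π z = 1) (t : Γ) => AltMultiplier.central π S.central hz t
  have hconj : x₂ * x * x₂⁻¹ = w * x⁻¹ := by
    rw [hcom hw, hwdef, inv_mul_cancel_left]
  have hcw : c * c = w ^ 3 := by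
    have h1 : (x₂ * x * x₂⁻¹) ^ 3 = c := by rw [conj_pow, ← hc, conj_eq π S.central hc1]
    rw [hconj, (show Commute w x⁻¹ from hcom hw _).mul_pow, inv_pow, ← hc, mul_inv_eq_iff_eq_mul] at h1
    exact h1.symm
  letI : CommGroup π.ker := { (inferInstance : Group π.ker) with
    mul_comm := fun a b => Subtype.ext (hcom a.2 b) }
  let wA : π.ker := ⟨w, hw⟩
  let cA : π.ker := ⟨c, hc1⟩
  have hA : cA * cA = wA * wA * wA := Subtype.ext (by
    show c * c = w * w * w
    rw [hcw, pow_succ, pow_two])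
  let dA : π.ker := wA * cA⁻¹
  have hd3 : cA * (dA * dA * dA) = 1 := by
    calc cA * (dA * dA * dA) = (wA * wA * wA) * (cA * cA)⁻¹ * (cA * cA⁻¹) := by
          simp only [dA, mul_inv_rev]; ac_rfl
      _ = 1 := by rw [← hA, mul_inv_cancel, mul_inv_cancel, one_mul]
  have hd2 : wA * dA * dA = 1 := by
    calc wA * dA * dA = (wA * wA * wA) * (cA * cA)⁻¹ := by simp only [dA, mul_inv_rev]; ac_rfl
      _ = 1 := by rw [← hA, mul_inv_cancel]
  set d : Γ := (dA : Γ) with hddef
  have hd : π d = 1 := dA.2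
  refine ⟨x * d, by rw [map_mul, hx, hd, mul_one], ?_, ?_⟩
  · rw [(show Commute x d from (hcom hd x).symm).mul_pow, ← hc]
    rw [pow_succ, pow_two]
    exact congrArg Subtype.val hd3
  · rw [show x₂ * (x * d) * x₂⁻¹ = (x₂ * x * x₂⁻¹) * (x₂ * d * x₂⁻¹) by group, hconj,
      conj_eq π S.central hd, mul_assoc w, ← hcom hd x⁻¹, eq_inv_iff_mul_eq_one,
      show w * (d * x⁻¹) * (x * d) = w * d * d by group]
    exact congrArg Subtype.val hd2

/-- The normalised sequence. -/
def seq (L : ℕ → Γ) : ℕ → Γ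
  | 0 => L 0
  | 1 => L 1
  | i + 2 => L (i + 2) * (seq L (i + 1) * L (i + 2)) ^ 3

/-- The kernel has at most two elements, for degree five and for degree at least eight. -/
theorem Ext.card_ker_le (S : Ext π) [Finite Γ] (hk : k = 3 ∨ 6 ≤ k) : Nat.card π.ker ≤ 2 := by
  classical
  have hcom := fun {z : Γ} (hz : π z = 1) (t : Γ) => AltMultiplier.central π S.central hz t
  have hE := er_isAltGens k
  obtain ⟨x₂, hx₂⟩ := S.surj (er k 2) (sign_er k (by omega))
  obtain ⟨x₀, h₀, hcube, hinv₂⟩ := S.exists_cube π (by omega) hx₂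
  obtain ⟨x₁, K, h₁, hK, hKK, hsq₁, hprod, hKdef⟩ := S.exists_base π x₀ h₀
  have hl := fun i => S.exists_lift π h₁ hK hsq₁ (i := i)
  choose f hf hfsq using hl
  let L : ℕ → Γ := fun i => if h : 2 ≤ i ∧ i < k then f i (by omega) h.2
    else if i = 0 then x₀ else x₁
  set x := seq L with hxdef
  have hx0 : x 0 = x₀ := by simp [hxdef, seq, L]
  have hx1 : x 1 = x₁ := by simp [hxdef, seq, L]
  -- lifts, squares and adjacent relations
  have hprops : ∀ i, i < k → π (x i) = er k i ∧ (0 < i → x i * x i = K) ∧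
      (2 ≤ i → (x (i - 1) * x i) ^ 3 = 1) := by
    intro i
    induction i using Nat.strong_induction_on with
    | _ i ih =>
    intro hi
    match i, hi with
    | 0, _ => exact ⟨hx0 ▸ h₀, fun h => by omega, fun h => by omega⟩
    | 1, _ => exact ⟨hx1 ▸ h₁, fun _ => hx1 ▸ hsq₁, fun h => by omega⟩
    | i + 2, hi =>
      obtain ⟨hp, hs, -⟩ := ih (i + 1) (by omega) (by omega)
      have hL : π (L (i + 2)) = er k (i + 2) ∧ L (i + 2) * L (i + 2) = K := by
        simp only [L, dif_pos (show 2 ≤ i + 2 ∧ i + 2 < k by omega)]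
        exact ⟨hf _ _ _, hfsq _ _ _⟩
      set a := x (i + 1) with ha
      set b := L (i + 2) with hb
      have hxi : x (i + 2) = b * (a * b) ^ 3 := rfl
      set d := (a * b) ^ 3 with hd
      have hd1 : π d = 1 := by rw [map_pow, map_mul, hp, hL.1]; exact hE.adj (i + 1) (by omega)
      have hd2 : d * d = 1 := by
        have hK' : K⁻¹ = K := inv_eq_of_mul_eq_one_right hKK
        have hai : a⁻¹ = a * K := inv_eq_of_mul_eq_one_right (by
          rw [← mul_assoc, hs (by omega), hKK])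
        have hbi : b⁻¹ = b * K := inv_eq_of_mul_eq_one_right (by
          rw [← mul_assoc, hL.2, hKK])
        have h1 : a * (a * b) * a⁻¹ = (a * b)⁻¹ := by
          calc a * (a * b) * a⁻¹ = a * a * b * a⁻¹ := by rw [mul_assoc a a b]
            _ = K * b * a⁻¹ := by rw [hs (by omega)]
            _ = b * K * a⁻¹ := by rw [hcom hK b]
            _ = _ := by rw [mul_inv_rev, hbi]
        have h2 : d = d⁻¹ := by
          rw [hd, ← inv_pow, ← h1, conj_pow, ← hd, conj_eq π S.central hd1]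
        rw [← mul_inv_cancel d, ← h2]
      refine ⟨by rw [hxi, map_mul, hd1, mul_one, hL.1], fun _ => ?_, fun _ => ?_⟩
      · rw [hxi, show b * d * (b * d) = b * (d * b) * d by group, hcom hd1 b,
          show b * (b * d) * d = (b * b) * (d * d) by group, hL.2, hd2, mul_one]
      · show (a * x (i + 2)) ^ 3 = 1
        rw [hxi, ← mul_assoc, (show Commute (a * b) d from (hcom hd1 _).symm).mul_pow, ← hd,
          pow_succ d, pow_two, hd2, one_mul, hd2]
  have hπ : ∀ i, i < k → π (x i) = er k i := fun i hi => (hprops i hi).1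
  have hsqK : ∀ i, 0 < i → i < k → x i * x i = K := fun i h0 hi => (hprops i hi).2.1 h0
  -- the inversion of `x 0`
  have hinvj : ∀ j, 2 ≤ j → j < k → x j * x₀ * (x j)⁻¹ = x₀⁻¹ := by
    intro j hj hjk
    have hπq : π (x₂ * (x j)⁻¹) = er k 2 * (er k j)⁻¹ := by rw [map_mul, map_inv, hx₂, hπ j hjk]
    have hq : ⁅x₂ * (x j)⁻¹, x₀⁆ = 1 := by
      have hs := sw_isSymGens k
      rcases Nat.lt_or_ge j 3 with h3 | h3
      · obtain rfl : j = 2 := by omega
        exact commutatorElement_eq_one_iff_mul_comm.2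
          (hcom (by rw [hπq, mul_inv_cancel]) x₀)
      have hj' : (er k j)⁻¹ = er k j := inv_eq_of_mul_eq_one_right (by
        rw [← pow_two]; exact hE.sq j (by omega) hjk)
      have heq : er k 2 * er k j = sw k 3 * sw k (j + 1) := by
        rw [er, er, ← mul_assoc, mul_assoc (sw k 0) (sw k (2 + 1)),
          ← hs.comm 0 (2 + 1) (by omega) (by omega), ← mul_assoc, hs.sq 0 (by omega), one_mul]
      have hcomm : π (x₂ * (x j)⁻¹) * π x₀ = π x₀ * π (x₂ * (x j)⁻¹) := by
        have e : ∀ a, a = 3 ∨ a = j + 1 → Commute (sw k a) (er k 0) := fun a ha =>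
          (Commute.mul_right (hs.comm 0 a (by omega) (by omega)).symm
            (hs.comm 1 a (by omega) (by omega)).symm)
        rw [hπq, hj', heq, h₀]
        exact ((e 3 (Or.inl rfl)).mul_left (e (j + 1) (Or.inr rfl))).eq
      rcases Nat.lt_or_ge j 4 with h4 | h4
      · obtain rfl : j = 3 := by omega
        rw [← commutatorElement_inv, inv_eq_one]
        refine S.comm_three π (by omega) ?_ ?_
        · rw [h₀, er_eq (by omega), map_mul, via_swap, via_swap]; rfl
        · rw [hπq, hj', heq, map_mul, via_swap, via_swap]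
          simp only [sw, dif_pos (show 3 < k + 1 by omega), dif_pos (show 3 + 1 < k + 1 by omega)]
          rfl
      · have h2 : π ((x₂ * (x j)⁻¹) * (x₂ * (x j)⁻¹)) = 1 := by
          have hc : Commute (sw k 3) (sw k (j + 1)) := hs.comm 3 (j + 1) (by omega) (by omega)
          rw [map_mul, hπq, hj', heq, ← pow_two, hc.mul_pow, pow_two, pow_two, hs.sq 3 (by omega),
            hs.sq (j + 1) (by omega), mul_one]
        have ha := comm_sq π S.central (x := x₀) hcomm.symm h2
        have hb := comm_cube π S.central (x := x₂ * (x j)⁻¹) (y := x₀) hcomm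
          (by rw [map_pow, h₀]; exact hE.cube (by omega))
        rw [← commutatorElement_inv x₀, inv_eq_one]
        rw [← commutatorElement_inv x₀] at hb
        have h5 := inv_eq_of_mul_eq_one_right ha
        rw [h5, ha, one_mul] at hb
        exact hb
    have hq' : Commute (x₂ * (x j)⁻¹) x₀ := commutatorElement_eq_one_iff_mul_comm.1 hq
    set q := x₂ * (x j)⁻¹ with hqdef
    have hxj : x j = q⁻¹ * x₂ := by rw [hqdef, mul_inv_rev, inv_inv, inv_mul_cancel_right]
    rw [hxj, show q⁻¹ * x₂ * x₀ * (q⁻¹ * x₂)⁻¹ = q⁻¹ * (x₂ * x₀ * x₂⁻¹) * q by group, hinv₂,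
      mul_assoc, ← hq'.inv_right.eq, inv_mul_cancel_left]
  -- the quotient by `⟨K⟩`
  set Z := Subgroup.zpowers K with hZdef
  have hZc : ∀ z ∈ Z, ∀ t, z * t = t * z := fun z hz t =>
    hcom (show π z = 1 from (Subgroup.zpowers_le (H := π.ker)).2 hK hz) t
  haveI : Z.Normal := ⟨fun z hz g => by rwa [← hZc z hz g, mul_inv_cancel_right]⟩
  have hmem : ∀ {u : Γ}, u ∈ Z → ((u : Γ) : Γ ⧸ Z) = 1 := fun h => (QuotientGroup.eq_one_iff _).2 h
  have hgens : IsAltGens k (fun i => ((x i : Γ) : Γ ⧸ Z)) := by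
    refine ⟨fun _ => ?_, fun i h0 hi => ?_, fun i hi => ?_, fun i j hij hj => ?_⟩
    · rw [← QuotientGroup.mk_pow, hx0, hcube]; rfl
    · rw [← QuotientGroup.mk_pow, pow_two, hsqK i h0 hi]
      exact hmem (Subgroup.mem_zpowers K)
    · rw [← QuotientGroup.mk_mul, ← QuotientGroup.mk_pow]
      rcases Nat.eq_zero_or_pos i with rfl | h0
      · rw [hx0, hx1]
        have h : (x₁ * x₀) ^ 3 = 1 := by
          rw [← hprod, pow_succ, pow_two]
          calc x₁ * x₀ * (x₁ * x₀) * (x₁ * x₀)
              = x₁ * (x₀ * x₁ * x₀⁻¹) * (x₀ * (x₀ * x₁ * x₀⁻¹) * x₀⁻¹) * x₀ ^ 3 := by group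
            _ = _ := by rw [hcube, mul_one]
        rw [show x₀ * x₁ = x₁⁻¹ * (x₁ * x₀) * (x₁⁻¹)⁻¹ by group, conj_pow, h]
        simp
      · have h := (hprops (i + 1) hi).2.2 (by omega)
        rw [Nat.add_sub_cancel] at h
        rw [h]; rfl
    · rw [← QuotientGroup.mk_mul, ← QuotientGroup.mk_pow, pow_two]
      rcases Nat.eq_zero_or_pos i with rfl | h0
      · rw [hx0, show x₀ * x j * (x₀ * x j) = x₀ * (x j * x₀ * (x j)⁻¹) * (x j * x j) by group,
          hinvj j (by omega) hj, mul_inv_cancel, one_mul, hsqK j (by omega) hj]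
        exact hmem (Subgroup.mem_zpowers K)
      · obtain ⟨hpi, hpj⟩ := And.intro (hπ i (by omega)) (hπ j hj)
        have hU : π (x i) = ι (emb6 h0 hij hj) (Equiv.swap 0 1 * Equiv.swap 2 3) := by
          rw [hpi, er_eq (by omega), map_mul, via_swap, via_swap]
          congr 1 <;> congr 1 <;> ext <;> simp [emb6] <;> omega
        have hV : π (x i * x j) = ι (emb6 h0 hij hj) (Equiv.swap 2 3 * Equiv.swap 4 5) := by
          rw [map_mul, hU, hpj, show er k j =
            ι (emb6 h0 hij hj) (Equiv.swap 0 1 * Equiv.swap 4 5) by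
              rw [er_eq hj, map_mul, via_swap, via_swap]
              congr 1 <;> congr 1 <;> ext <;> simp [emb6] <;> omega, ← map_mul]
          exact congrArg _ (by decide)
        have hc := S.comm_six π h₀ h₁ (emb6 h0 hij hj) hU hV (by rw [← hKdef]; exact hKK)
        have hcij : π (x i) * π (x j) = π (x j) * π (x i) := by
          rw [hpi, hpj]
          have h := hE.far i j hij hj
          rw [pow_two, mul_eq_one_iff_eq_inv, mul_inv_rev] at h
          rwa [inv_eq_of_mul_eq_one_right (by rw [← pow_two]; exact hE.sq j (by omega) hj),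
            inv_eq_of_mul_eq_one_right (by rw [← pow_two]; exact hE.sq i h0 (by omega))] at h
        rw [comm_self_mul π S.central hcij, ← hKdef] at hc
        rw [show x i * x j * (x i * x j) =
          x i * x j * (x i)⁻¹ * (x j)⁻¹ * (x j * (x i * x i) * x j) by group, ← commutatorElement_def,
          hc, hsqK i h0 (by omega), ← hcom hK (x j), mul_assoc K (x j), hsqK j (by omega) hj, hKK,
          mul_one]
        exact hmem (Subgroup.mem_zpowers K)
  -- the generators generate
  set Y := Subgroup.closure ({u | ∃ i, i < k ∧ u = x i} ∪ {K}) with hY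
  have key : ∀ p ∈ Subgroup.closure {u | ∃ i, i < k ∧ u = er k i}, ∃ y ∈ Y, π y = p := by
    intro p h
    induction h using Subgroup.closure_induction with
    | mem u hu =>
      obtain ⟨i, hi, rfl⟩ := hu
      exact ⟨x i, Subgroup.subset_closure (Or.inl ⟨i, hi, rfl⟩), hπ i hi⟩
    | one => exact ⟨1, one_mem _, map_one π⟩
    | mul u v _ _ hu hv =>
      obtain ⟨a, ha, ha'⟩ := hu
      obtain ⟨b, hb, hb'⟩ := hv
      exact ⟨a * b, mul_mem ha hb, by rw [map_mul, ha', hb']⟩
    | inv u _ hu =>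
      obtain ⟨a, ha, ha'⟩ := hu
      exact ⟨a⁻¹, inv_mem ha, by rw [map_inv, ha']⟩
  have hYπ : ∀ g, ∃ y ∈ Y, π y = π g := fun g => key _ (closure_er k (S.sign g))
  have htop : Y = ⊤ := by
    have hYdec : ∀ g, ∃ y ∈ Y, ∃ z, π z = 1 ∧ g = z * y := fun g => by
      obtain ⟨y, hy, hyg⟩ := hYπ g
      exact ⟨y, hy, g * y⁻¹, by rw [map_mul, map_inv, hyg, mul_inv_cancel],
        (inv_mul_cancel_right g y).symm⟩
    have hcl : commutator Γ ≤ Y := by
      rw [commutator_def, Subgroup.commutator_le]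
      intro a _ b _
      obtain ⟨u, hu, z, hz, rfl⟩ := hYdec a
      obtain ⟨v, hv, w, hw, rfl⟩ := hYdec b
      have hzu : ∀ t : Γ, π z = 1 → ⁅z, t⁆ = 1 := fun t h =>
        commutatorElement_eq_one_iff_mul_comm.2 (hcom h t)
      have e1 : ⁅z * u, w * v⁆ = ⁅u, v⁆ := by
        rw [commutatorElement_mul_left_eq_conj_mul, hzu _ hz, mul_one,
          commutatorElement_mul_right_eq_mul_conj,
          show ⁅u, w⁆ = 1 from commutatorElement_eq_one_iff_mul_comm.2 (hcom hw u).symm, one_mul]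
        rw [show z * (w * ⁅u, v⁆ * w⁻¹) * z⁻¹ = (z * w) * ⁅u, v⁆ * (z * w)⁻¹ by group,
          hcom (z := z * w) (by rw [map_mul, hz, hw, one_mul]) ⁅u, v⁆, mul_inv_cancel_right]
      rw [e1]
      exact mul_mem (mul_mem (mul_mem hu hv) (inv_mem hu)) (inv_mem hv)
    rw [eq_top_iff]
    intro g _
    obtain ⟨y, hy, z, hz, rfl⟩ := hYdec g
    exact mul_mem (hcl (S.stem hz)) hy
  have hgen : Subgroup.closure {u | ∃ i, i < k ∧ u = ((x i : Γ) : Γ ⧸ Z)} = ⊤ := by
    rw [eq_top_iff]
    intro u _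
    obtain ⟨g, rfl⟩ := QuotientGroup.mk_surjective u
    have hle : Y ≤ (Subgroup.closure {u | ∃ i, i < k ∧ u = ((x i : Γ) : Γ ⧸ Z)}).comap
        (QuotientGroup.mk' Z) := by
      rw [hY, Subgroup.closure_le]
      rintro u (⟨i, hi, rfl⟩ | hu)
      · exact Subgroup.subset_closure ⟨i, hi, rfl⟩
      · rw [Set.mem_singleton_iff.1 hu, SetLike.mem_coe, Subgroup.mem_comap, QuotientGroup.mk'_apply,
          hmem (Subgroup.mem_zpowers K)]
        exact one_mem _
    exact hle (htop ▸ Subgroup.mem_top g)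
  obtain ⟨-, hcard⟩ := finite_card_le hgens hgen
  have hrange : π.range = alternatingGroup (Fin (k + 2)) := by
    ext g
    rw [MonoidHom.mem_range, Equiv.Perm.mem_alternatingGroup]
    exact ⟨fun ⟨y, hy⟩ => hy ▸ S.sign y, S.surj g⟩
  have h1 : Nat.card π.ker * Nat.card (alternatingGroup (Fin (k + 2))) = Nat.card Γ := by
    rw [← hrange, ← Subgroup.index_ker]
    exact π.ker.card_mul_index
  have h2 : Nat.card Z * Nat.card (Γ ⧸ Z) = Nat.card Γ := by
    rw [← Subgroup.index_eq_card]; exact Z.card_mul_index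
  have h3 : Nat.card Z ≤ 2 := by
    rw [hZdef, Nat.card_zpowers]
    exact Nat.le_of_dvd (by omega) (orderOf_dvd_of_pow_eq_one (by rw [pow_two]; exact hKK))
  have h4 := two_mul_nat_card_alternatingGroup (α := Fin (k + 2))
  rw [Nat.card_perm, Nat.card_fin] at h4
  have h5 : 0 < Nat.card (alternatingGroup (Fin (k + 2))) := Nat.card_pos
  refine Nat.le_of_mul_le_mul_right ?_ h5
  calc Nat.card π.ker * Nat.card (alternatingGroup (Fin (k + 2)))
      = Nat.card Z * Nat.card (Γ ⧸ Z) := h1.trans h2.symm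
    _ ≤ 2 * Nat.card (alternatingGroup (Fin (k + 2))) := Nat.mul_le_mul h3 (by omega)

/-- Degree four. -/
theorem Ext.card_ker_le_four (S : Ext π) [Finite Γ] (hk : k = 2) : Nat.card π.ker ≤ 2 := by
  classical
  subst hk
  have hcom := fun {z : Γ} (hz : π z = 1) (t : Γ) => AltMultiplier.central π S.central hz t
  obtain ⟨x₀, h₀⟩ := S.surj (er 2 0) (sign_er 2 (by omega))
  obtain ⟨x₁, K, h₁, hK, hKK, hsq₁, hprod, hKdef⟩ := S.exists_base π x₀ h₀
  set X := x₀ * x₁ * x₀⁻¹ with hX
  set Z := Subgroup.zpowers K with hZdef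
  have hZker : Z ≤ π.ker := (Subgroup.zpowers_le (H := π.ker)).2 hK
  have hKi : K⁻¹ = K := inv_eq_of_mul_eq_one_right hKK
  have hXX : X * X = K := by
    rw [hX, show x₀ * x₁ * x₀⁻¹ * (x₀ * x₁ * x₀⁻¹) = x₀ * (x₁ * x₁) * x₀⁻¹ by group, hsq₁,
      conj_eq π S.central hK]
  let N := Subgroup.closure ({x₁, X, K} : Set Γ)
  have hx1N : x₁ ∈ N := Subgroup.subset_closure (by simp)
  have hXN : X ∈ N := Subgroup.subset_closure (by simp)
  have hKN : K ∈ N := Subgroup.subset_closure (by simp)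
  -- the elements of `N`
  have hsw : X * x₁ = K * x₁ * X := by
    have h : x₁ * X = K * (X * x₁) := by
      rw [hKdef, commutatorElement_def]; group
    rw [mul_assoc K, h, ← mul_assoc, hKK, one_mul]
  have hshape : ∀ u ∈ N, ∃ a b c : Bool, u = (if a then K else 1) * (if b then x₁ else 1) * (if c then X else 1) := by
    have hKx : ∀ t, t * K = K * t := fun t => (hcom hK t).symm
    have hleft : ∀ g ∈ ({x₁, X, K} : Set Γ), ∀ a b c : Bool, ∃ a' b' c' : Bool,
        g * ((if a then K else 1) * (if b then x₁ else 1) * (if c then X else 1)) =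
          (if a' then K else 1) * (if b' then x₁ else 1) * (if c' then X else 1) := by
      intro g hg a b c
      simp only [Set.mem_insert_iff, Set.mem_singleton_iff] at hg
      have hgK : g * (if a then K else 1) = (if a then K else 1) * g := by
        split_ifs <;> simp [hKx]
      rw [← mul_assoc, ← mul_assoc, hgK]
      rcases hg with hg | hg | hg <;> subst g
      · cases b
        · exact ⟨a, true, c, by simp⟩
        · refine ⟨!a, false, c, ?_⟩
          cases a <;> simp [hsq₁, mul_assoc, hKK, ← mul_assoc K K]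
      · cases b
        · cases c
          · exact ⟨a, false, true, by simp⟩
          · refine ⟨!a, false, false, ?_⟩
            cases a <;> simp [hXX, mul_assoc, hKK]
        · cases c
          · refine ⟨!a, true, true, ?_⟩
            cases a <;> simp [mul_assoc, hsw, ← mul_assoc K K, hKK]
          · refine ⟨a, true, false, ?_⟩
            simp only [if_true, if_false, Bool.false_eq_true, mul_one]
            rw [mul_assoc _ X x₁, hsw, mul_assoc _ _ X, mul_assoc (K * x₁), hXX, mul_assoc K, hKx,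
              ← mul_assoc K, hKK, one_mul]
      · refine ⟨!a, b, c, ?_⟩
        cases a <;> simp [mul_assoc, hKK, ← mul_assoc K K]
    intro u hu
    induction hu using Subgroup.closure_induction_left with
    | one => exact ⟨false, false, false, by simp⟩
    | mul_left g hg y _ ih =>
      obtain ⟨a, b, c, rfl⟩ := ih
      exact hleft g hg a b c
    | inv_mul_cancel g hg y _ ih =>
      obtain ⟨a, b, c, rfl⟩ := ih
      have hgi : g⁻¹ = g * K ∨ g⁻¹ = g := by
        simp only [Set.mem_insert_iff, Set.mem_singleton_iff] at hg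
        rcases hg with hg | hg | hg <;> subst g
        · exact Or.inl (inv_eq_of_mul_eq_one_right (by rw [← mul_assoc, hsq₁, hKK]))
        · exact Or.inl (inv_eq_of_mul_eq_one_right (by rw [← mul_assoc, hXX, hKK]))
        · exact Or.inr hKi
      rcases hgi with h | h <;> rw [h]
      · obtain ⟨a', b', c', h'⟩ := hleft K (by simp) a b c
        rw [mul_assoc, h']
        exact hleft g hg a' b' c'
      · exact hleft g hg a b c
  have hNker : ∀ u ∈ N, π u = 1 → u ∈ Z := by
    intro u hu h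
    obtain ⟨a, b, c, rfl⟩ := hshape u hu
    have hKZ : (if a then K else 1) ∈ Z := by
      split_ifs
      exacts [Subgroup.mem_zpowers K, one_mem _]
    have hX' : π X = ι (four le_rfl) (Equiv.swap 0 3 * Equiv.swap 1 2) := by
      simp only [hX, map_mul, map_inv, h₀, h₁]
      rw [er_zero le_rfl, er_one le_rfl, ← map_inv]
      simp only [← map_mul]
      exact congrArg _ (by decide)
    rw [map_mul, map_mul, show π (if a then K else 1) = 1 from hZker hKZ, one_mul] at h
    cases b <;> cases c <;>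
      simp only [if_true, if_false, Bool.false_eq_true, map_one, mul_one, one_mul, h₁, hX',
        er_one (le_refl 2)] at h ⊢
    · exact hKZ
    all_goals
      try simp only [← map_mul] at h
      rw [← map_one (ι (four (le_refl 2)))] at h
      exact absurd (Equiv.Perm.viaEmbeddingHom_injective _ h) (by decide)
  -- `N` is normalised by `x₀`
  have hY : x₀ * X * x₀⁻¹ ∈ N := by
    rw [show x₀ * X * x₀⁻¹ = (x₁ * X)⁻¹ from (inv_eq_of_mul_eq_one_right hprod).symm]
    exact inv_mem (mul_mem hx1N hXN)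
  have hNnorm : ∀ u ∈ N, x₀ * u * x₀⁻¹ ∈ N := by
    intro u hu
    induction hu using Subgroup.closure_induction with
    | mem u hu =>
      simp only [Set.mem_insert_iff, Set.mem_singleton_iff] at hu
      rcases hu with hu | hu | hu <;> subst u
      · exact hXN
      · exact hY
      · rw [conj_eq π S.central hK]; exact hKN
    | one => simp [one_mem]
    | mul a b _ _ ha hb => rw [← conj_mul]; exact mul_mem ha hb
    | inv a _ ha => rw [← conj_inv]; exact inv_mem ha
  -- everything is `z * u * x₀ ^ i`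
  have hgenπ : ∀ p ∈ Subgroup.closure {w | ∃ i, i < 2 ∧ w = er 2 i},
      ∃ y ∈ Subgroup.closure ({x₀, x₁} : Set Γ), π y = p := by
    intro p h
    induction h using Subgroup.closure_induction with
    | mem w hw =>
      obtain ⟨i, hi, rfl⟩ := hw
      rcases Nat.lt_or_ge i 1 with h | h
      · obtain rfl : i = 0 := by omega
        exact ⟨x₀, Subgroup.subset_closure (by simp), h₀⟩
      · obtain rfl : i = 1 := by omega
        exact ⟨x₁, Subgroup.subset_closure (by simp), h₁⟩
    | one => exact ⟨1, one_mem _, map_one π⟩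
    | mul a b _ _ ha hb =>
      obtain ⟨a', h1, h2⟩ := ha
      obtain ⟨b', h3, h4⟩ := hb
      exact ⟨a' * b', mul_mem h1 h3, by rw [map_mul, h2, h4]⟩
    | inv a _ ha =>
      obtain ⟨a', h1, h2⟩ := ha
      exact ⟨a'⁻¹, inv_mem h1, by rw [map_inv, h2]⟩
  have hfin : ∀ g, ∃ y ∈ Subgroup.closure ({x₀, x₁} : Set Γ), π y = π g :=
    fun g => hgenπ _ (closure_er 2 (S.sign g))
  have hNn : N.Normal := by
    refine ⟨fun u hu g => ?_⟩
    obtain ⟨y, hy, hyg⟩ := hfin g
    have hle : Subgroup.closure ({x₀, x₁} : Set Γ) ≤ Subgroup.normalizer (N : Set Γ) := by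
      rw [Subgroup.closure_le]
      intro w hw
      simp only [Set.mem_insert_iff, Set.mem_singleton_iff] at hw
      rcases hw with hw | hw <;> subst w
      · exact Subgroup.mem_normalizer_iff.2 fun v => ⟨fun hv => hNnorm v hv, fun hv => by
          have hfin' : ∀ j : ℕ, x₀ ^ j * (x₀ * v * x₀⁻¹) * (x₀ ^ j)⁻¹ ∈ N := fun j => by
            induction j with
            | zero => simpa using hv
            | succ j ih => rw [pow_succ']; simpa [mul_assoc] using hNnorm _ ih
          have := hfin' (orderOf x₀ - 1)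
          have ho : x₀ ^ (orderOf x₀ - 1) = x₀⁻¹ :=
            eq_inv_of_mul_eq_one_left (by
              rw [← pow_succ, Nat.sub_add_cancel (orderOf_pos x₀), pow_orderOf_eq_one])
          rwa [ho, inv_inv, show x₀⁻¹ * (x₀ * v * x₀⁻¹) * x₀ = v by group] at this⟩
      · exact Subgroup.le_normalizer hx1N
    have hz : π (g * y⁻¹) = 1 := by rw [map_mul, map_inv, hyg, mul_inv_cancel]
    have h := (Subgroup.mem_normalizer_iff.1 (hle hy) u).1 hu
    rw [show g * u * g⁻¹ = (g * y⁻¹) * (y * u * y⁻¹) * (g * y⁻¹)⁻¹ by group,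
      hcom hz (y * u * y⁻¹), mul_inv_cancel_right]
    exact h
  haveI := hNn
  -- the quotient is abelian
  have hcomm : commutator Γ ≤ N := by
    let M : Subgroup (Γ ⧸ N) := Subgroup.zpowers ((x₀ : Γ) : Γ ⧸ N)
    have key : ∀ g : Γ, ∃ z, π z = 1 ∧ ∃ m ∈ M, ((g : Γ) : Γ ⧸ N) = (z : Γ ⧸ N) * m := by
      intro g
      obtain ⟨w, hw, hwg⟩ := hfin g
      refine ⟨g * w⁻¹, by rw [map_mul, map_inv, hwg, mul_inv_cancel], (w : Γ ⧸ N), ?_, ?_⟩
      · have hle : Subgroup.closure ({x₀, x₁} : Set Γ) ≤ M.comap (QuotientGroup.mk' N) := by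
          rw [Subgroup.closure_le]
          intro v hv
          simp only [Set.mem_insert_iff, Set.mem_singleton_iff] at hv
          rcases hv with hv | hv <;> subst v
          · exact Subgroup.mem_zpowers _
          · show ((x₁ : Γ) : Γ ⧸ N) ∈ M
            rw [(QuotientGroup.eq_one_iff _).2 hx1N]
            exact one_mem _
        exact hle hw
      · rw [← QuotientGroup.mk_mul, inv_mul_cancel_right]
    rw [commutator_def, Subgroup.commutator_le]
    intro a _ b _
    refine (QuotientGroup.eq_one_iff _).1 ?_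
    rw [← QuotientGroup.mk'_apply, map_commutatorElement, commutatorElement_eq_one_iff_mul_comm]
    obtain ⟨z, hz, m, hm, ea⟩ := key a
    obtain ⟨w, hw, n, hn, eb⟩ := key b
    obtain ⟨i, rfl⟩ := Subgroup.mem_zpowers_iff.1 hm
    obtain ⟨j, rfl⟩ := Subgroup.mem_zpowers_iff.1 hn
    have hcq : ∀ {z : Γ}, π z = 1 → ∀ t : Γ ⧸ N, (z : Γ ⧸ N) * t = t * z := fun h t => by
      obtain ⟨t, rfl⟩ := QuotientGroup.mk_surjective t
      rw [← QuotientGroup.mk_mul, ← QuotientGroup.mk_mul, hcom h]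
    show (a : Γ ⧸ N) * b = b * a
    rw [ea, eb]
    have c1 : Commute ((z : Γ ⧸ N)) ((w : Γ ⧸ N) * ((x₀ : Γ) : Γ ⧸ N) ^ j) := hcq hz _
    have c2 : Commute (((x₀ : Γ) : Γ ⧸ N) ^ i) ((w : Γ ⧸ N) * ((x₀ : Γ) : Γ ⧸ N) ^ j) :=
      Commute.mul_right (hcq hw _).symm ((Commute.refl _).zpow_zpow i j)
    exact (c1.mul_left c2).eq
  calc Nat.card π.ker ≤ Nat.card Z := by
        refine Subgroup.card_le_of_le ?_
        intro u hu
        exact hNker u (hcomm (S.stem hu)) hu
    _ ≤ 2 := by
        rw [hZdef, Nat.card_zpowers]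
        exact Nat.le_of_dvd (by omega) (orderOf_dvd_of_pow_eq_one (by rw [pow_two]; exact hKK))

end CfsgLib.CharactersDeep.AltMultiplier
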