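import Cfsg.Agent.Characters.Induction
import Cfsg.Agent.Characters.Linear
import Cfsg.Agent.Characters.Classes

/-!
# Averaging over a normal subgroup

`avg N A x` is the mean of `A` over the coset `N x`.  It maps characters to characters trivial
on `N` and commutes with induction.
-/

set_option autoImplicit false
set_option linter.style.haveILetI false
set_option linter.unusedSectionVars false

namespace CfsgLib.CharactersDeep.Average

open CfsgLib.Characters
open scoped ComplexConjugate

universe u v w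

variable {G : Type u} [Group G]

/-- Mean over a coset. -/
noncomputable def avg (N : Subgroup G) [Fintype N] (A : G → ℂ) : G → ℂ :=
  fun x => (Nat.card N : ℂ)⁻¹ * ∑ n : N, A ((n : G) * x)

variable [Fintype G] (N : Subgroup G) [Fintype N]

theorem avg_mul_mem (A : G → ℂ) (m : N) (x : G) : avg N A ((m : G) * x) = avg N A x := by
  unfold avg
  congr 1
  exact Fintype.sum_equiv (Equiv.mulRight m) _ _ fun n => by simp [mul_assoc]

theorem avg_of_mem (A : G → ℂ) {m : G} (hm : m ∈ N) : avg N A m = avg N A 1 := by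
  simpa using avg_mul_mem N A ⟨m, hm⟩ 1

theorem avg_one (A : G → ℂ) :
    avg N A 1 = Cfsg.classInner (fun n : N => A n) (fun _ => 1) := by
  simp [avg, Cfsg.classInner]

theorem avg_sum_smul {ι : Type*} (s : Finset ι) (c : ι → ℂ) (A : ι → G → ℂ) :
    avg N (∑ i ∈ s, c i • A i) = ∑ i ∈ s, c i • avg N (A i) := by
  funext x
  simp only [avg, Finset.sum_apply, Pi.smul_apply, smul_eq_mul]
  rw [Finset.sum_comm, Finset.mul_sum]
  refine Finset.sum_congr rfl fun i _ => ?_
  rw [← Finset.mul_sum, mul_left_comm]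

theorem classInner_avg_left (A B : G → ℂ) :
    Cfsg.classInner (avg N A) B = Cfsg.classInner A (avg N B) := by
  simp only [Cfsg.classInner, avg, map_mul, map_inv₀, map_natCast, map_sum]
  congr 1
  simp only [Finset.mul_sum, Finset.sum_mul]
  rw [Finset.sum_comm]
  conv_rhs => rw [Finset.sum_comm]
  refine Fintype.sum_equiv (Equiv.inv N) _ _ fun n => ?_
  refine Fintype.sum_equiv (Equiv.mulLeft (n : G)) _ _ fun x => ?_
  simp only [Equiv.coe_mulLeft, Equiv.inv_apply, Subgroup.coe_inv, inv_mul_cancel_left]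
  ring

variable [hN : N.Normal]

theorem isClassFunction_avg {A : G → ℂ} (hA : Cfsg.IsClassFunction G A) :
    Cfsg.IsClassFunction G (avg N A) := by
  intro g h
  unfold avg
  congr 1
  refine Fintype.sum_equiv (MulAut.conjNormal (H := N) h⁻¹).toEquiv _ _ fun n => ?_
  simp only [MulEquiv.toEquiv_eq_coe, MulEquiv.coe_toEquiv]
  rw [← hA ((MulAut.conjNormal h⁻¹ n : G) * g) h]
  congr 1
  simp [mul_assoc]

/-- The mean of an irreducible character is itself or zero. -/
theorem avg_irr {χ : G → ℂ} (hχ : Cfsg.IsIrrCharacter G χ) : avg N χ = χ ∨ avg N χ = 0 := by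
  obtain ⟨d, ρ, hρ, rfl⟩ := hχ
  haveI := nontrivial_of_isIrreducible ρ
  set T : Module.End ℂ (Fin d → ℂ) := (Nat.card N : ℂ)⁻¹ • ∑ n : N, ρ (n : G) with hT
  have hval : ∀ x, avg N ρ.character x = LinearMap.trace ℂ _ (T * ρ x) := fun x => by
    simp only [avg, Representation.character, hT, map_mul, smul_mul_assoc, Finset.sum_mul,
      map_smul, map_sum, smul_eq_mul]
  have hcomm : ∀ y : G, T * ρ y = ρ y * T := fun y => by
    simp only [hT, smul_mul_assoc, mul_smul_comm, Finset.sum_mul, Finset.mul_sum, ← map_mul]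
    congr 1
    refine Fintype.sum_equiv (MulAut.conjNormal (H := N) y⁻¹).toEquiv _ _ fun n => ?_
    congr 1
    simp [mul_assoc]
  have habs : ∀ m : N, ρ (m : G) * T = T := fun m => by
    simp only [hT, mul_smul_comm, Finset.mul_sum, ← map_mul]
    congr 1
    exact Fintype.sum_equiv (Equiv.mulLeft m) _ _ fun n => by simp
  have hidem : T * T = T := by
    conv_lhs => arg 1; rw [hT]
    rw [smul_mul_assoc, Finset.sum_mul, Finset.sum_congr rfl fun m _ => habs m, Finset.sum_const,
      Finset.card_univ, ← Nat.card_eq_fintype_card, ← Nat.cast_smul_eq_nsmul ℂ, smul_smul,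
      inv_mul_cancel₀ (Nat.cast_ne_zero.2 Nat.card_pos.ne'), one_smul]
  obtain ⟨c, hc⟩ := schur_scalar ρ T fun g x => LinearMap.congr_fun (hcomm g) x
  obtain ⟨v, hv⟩ := exists_ne (0 : Fin d → ℂ)
  have h2 := LinearMap.congr_fun hidem v
  simp only [hc, Module.End.mul_apply, LinearMap.smul_apply, LinearMap.id_apply, smul_smul] at h2
  have h3 : c * c = c := smul_left_injective ℂ hv h2
  have hval' : avg N ρ.character = c • ρ.character := funext fun x => by
    rw [hval, hc, smul_mul_assoc, map_smul]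
    rfl
  rcases eq_or_ne c 0 with h | h
  · exact Or.inr (by rw [hval', h, zero_smul])
  · exact Or.inl (by rw [hval', mul_left_cancel₀ h (h3.trans (mul_one c).symm), one_smul])

/-- The mean of a character is a character. -/
theorem isCharacter_avg {A : G → ℂ} (hA : Cfsg.IsCharacter G A) :
    Cfsg.IsCharacter G (avg N A) := by
  refine isCharacter_of_classInner (isClassFunction_avg N (isClassFunction_of_isCharacter hA))
    fun χ => ?_
  rw [classInner_avg_left]
  rcases avg_irr N χ.2 with h | h
  · rw [h]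
    exact classInner_character_irr hA χ.2
  · exact ⟨0, by rw [h, classInner_zero_right, Nat.cast_zero]⟩

section Induced

/-- The mean commutes with induction from a subgroup containing `N`. -/
theorem avg_indFun (S : Subgroup G) [Fintype S] (hNS : N ≤ S) [Fintype (N.subgroupOf S)]
    (A : S → ℂ) :
    avg N (Cfsg.indFun S A) = Cfsg.indFun S (avg (N.subgroupOf S) A) := by
  funext g
  simp only [avg, Cfsg.indFun]
  rw [← Finset.mul_sum, mul_left_comm, Finset.sum_comm, Finset.mul_sum]
  congr 1
  refine Finset.sum_congr rfl fun x _ => ?_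
  have h1 : ∑ n : N, Cfsg.extendByZero S A (x⁻¹ * ((n : G) * g) * x) =
      ∑ n : N, Cfsg.extendByZero S A ((n : G) * (x⁻¹ * g * x)) := by
    refine Fintype.sum_equiv (MulAut.conjNormal (H := N) x⁻¹).toEquiv _ _ fun n => ?_
    congr 1
    simp [mul_assoc]
  rw [h1]
  by_cases hy : x⁻¹ * g * x ∈ S
  · rw [extendByZero_of_mem S _ hy, avg, show (Nat.card (N.subgroupOf S) : ℂ) = Nat.card N from
      congrArg _ (Nat.card_congr (Subgroup.subgroupOfEquivOfLe hNS).toEquiv)]
    congr 1
    refine Fintype.sum_equiv (Subgroup.subgroupOfEquivOfLe hNS).symm.toEquiv _ _ fun n => ?_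
    rw [extendByZero_of_mem S _ (S.mul_mem (hNS n.2) hy)]
    congr 1
  · rw [extendByZero_of_not_mem S _ hy, Finset.sum_eq_zero, mul_zero]
    intro n _
    refine extendByZero_of_not_mem S _ fun h => hy ?_
    have := S.mul_mem (S.inv_mem (hNS n.2)) h
    rwa [inv_mul_cancel_left] at this

/-- The mean of an induced function when the subgroup supplements `N`. -/
theorem avg_indFun_of_sup (S : Subgroup G) [Fintype S] [Fintype (N.subgroupOf S)] {A : S → ℂ}
    (hA : Cfsg.IsClassFunction S A) (hsup : ∀ x : G, ∃ s : S, ∃ n : N, x = s * n) (y : S) :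
    avg N (Cfsg.indFun S A) y = avg (N.subgroupOf S) A y := by
  classical
  have hshift : ∀ (z : G) (m : N),
      ∑ n : N, Cfsg.extendByZero S A ((n : G) * ((m : G) * z)) =
        ∑ n : N, Cfsg.extendByZero S A ((n : G) * z) := fun z m =>
    Fintype.sum_equiv (Equiv.mulRight m) _ _ fun n => by simp [mul_assoc]
  have hinner : ∀ x : G, ∑ n : N, Cfsg.extendByZero S A (x⁻¹ * ((n : G) * y) * x) =
      ∑ n : N, Cfsg.extendByZero S A ((n : G) * y) := by
    intro x
    obtain ⟨s, m, rfl⟩ := hsup x
    have h1 : ∑ n : N, Cfsg.extendByZero S A (((s : G) * m)⁻¹ * ((n : G) * y) * (s * m)) =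
        ∑ n : N, Cfsg.extendByZero S A ((n : G) * ((s : G)⁻¹ * y * s)) := by
      let b : N := ⟨(m : G)⁻¹ * ((s : G)⁻¹ * y * s) * m * ((s : G)⁻¹ * y * s)⁻¹,
        by
          have := N.mul_mem (N.inv_mem m.2) (hN.conj_mem m m.2 ((s : G)⁻¹ * y * s))
          simpa [mul_assoc] using this⟩
      rw [← hshift ((s : G)⁻¹ * y * s) b]
      refine Fintype.sum_equiv (MulAut.conjNormal (H := N) ((s : G) * m)⁻¹).toEquiv _ _
        fun n => ?_
      congr 1
      simp [b, mul_assoc]
    rw [h1]
    refine Fintype.sum_equiv (MulAut.conjNormal (H := N) (s : G)).toEquiv _ _ fun n => ?_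
    have e : ((MulAut.conjNormal (s : G) n : N) : G) * y = s * ((n : G) * ((s : G)⁻¹ * y * s)) *
        (s : G)⁻¹ := by
      simp [mul_assoc]
    simp only [MulEquiv.toEquiv_eq_coe, MulEquiv.coe_toEquiv]
    rw [e]
    generalize (n : G) * ((s : G)⁻¹ * y * s) = z
    by_cases hz : z ∈ S
    · rw [extendByZero_of_mem S _ hz, extendByZero_of_mem S _
        (S.mul_mem (S.mul_mem s.2 hz) (S.inv_mem s.2))]
      exact (hA ⟨z, hz⟩ s).symm
    · rw [extendByZero_of_not_mem S _ hz, extendByZero_of_not_mem S _]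
      intro h
      apply hz
      simpa [mul_assoc] using S.mul_mem (S.mul_mem (S.inv_mem s.2) h) s.2
  have hA' : ∑ n : N, Cfsg.extendByZero S A ((n : G) * y) =
      ∑ m : N.subgroupOf S, A ((m : S) * y) := by
    rw [← Finset.sum_filter_add_sum_filter_not Finset.univ (fun n : N => (n : G) ∈ S),
      Finset.sum_eq_zero (s := Finset.univ.filter fun n : N => (n : G) ∉ S) fun n hn =>
        extendByZero_of_not_mem S A fun h => (Finset.mem_filter.1 hn).2 (by
          simpa using S.mul_mem h (S.inv_mem y.2)), add_zero]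
    symm
    refine Finset.sum_bij (fun (m : N.subgroupOf S) _ => (⟨((m : S) : G), m.2⟩ : N))
      (fun m _ => Finset.mem_filter.2 ⟨Finset.mem_univ _, (m : S).2⟩)
      (fun a _ b _ h => Subtype.ext (Subtype.ext (congrArg Subtype.val h :)))
      (fun n hn => ⟨⟨⟨n, (Finset.mem_filter.1 hn).2⟩, n.2⟩, Finset.mem_univ _, rfl⟩)
      fun m _ => ?_
    exact (extendByZero_coe S A ((m : S) * y)).symm
  simp only [avg, Cfsg.indFun]
  rw [← Finset.mul_sum, Finset.sum_comm, Finset.sum_congr rfl fun x _ => hinner x,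
    Finset.sum_const, Finset.card_univ, ← Nat.card_eq_fintype_card, nsmul_eq_mul, hA']
  have htop : S ⊔ N = ⊤ := eq_top_iff.2 fun x _ => by
    obtain ⟨s, n, rfl⟩ := hsup x
    exact Subgroup.mul_mem_sup s.2 n.2
  have h5 := Subgroup.relIndex_sup_right (H := S) (K := N)
  rw [htop, Subgroup.relIndex_top_right] at h5
  have h6 : Nat.card G * Nat.card (N.subgroupOf S) = Nat.card N * Nat.card S := by
    rw [← Subgroup.index_mul_card N, ← Subgroup.index_mul_card (N.subgroupOf S), h5,
      Subgroup.relIndex]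
    ring
  have h7 : (Nat.card G : ℂ) * Nat.card (N.subgroupOf S) = Nat.card N * Nat.card S := by
    exact_mod_cast h6
  have a := subgroup_card_ne_zero N
  have b := subgroup_card_ne_zero S
  have c : (Nat.card (N.subgroupOf S) : ℂ) ≠ 0 := Nat.cast_ne_zero.2 Nat.card_pos.ne'
  field_simp
  linear_combination (∑ m : N.subgroupOf S, A ((m : S) * y)) * h7

end Induced

end CfsgLib.CharactersDeep.Average

namespace CfsgLib.CharactersDeep.Average

open CfsgLib.Characters
open scoped ComplexConjugate

universe u v w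

variable {G : Type u} [Group G] [Fintype G]

/-- Characters summing to a multiple of an irreducible character are multiples of it. -/
theorem multiple_of_sum {ι : Type v} (s : Finset ι) {F : ι → G → ℂ}
    (hF : ∀ i ∈ s, Cfsg.IsCharacter G (F i)) {ξ : G → ℂ} (hξ : Cfsg.IsIrrCharacter G ξ) (c : ℂ)
    (h : ∑ i ∈ s, F i = c • ξ) : ∀ i ∈ s, ∃ k : ℕ, F i = (k : ℂ) • ξ := by
  classical
  intro i hi
  obtain ⟨k, hk⟩ := classInner_character_irr (hF i hi) hξ
  refine ⟨k, classFunction_ext (isClassFunction_of_isCharacter (hF i hi))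
    (isClassFunction_of_isCharacter (isCharacter_natCast_smul (isCharacter_of_isIrr hξ) k))
    fun φ => ?_⟩
  rw [classInner_smul_left]
  by_cases hφ : ξ = (φ : G → ℂ)
  · rw [← hφ, hk, classInner_isIrr_self hξ, mul_one]
  · rw [classInner_isIrr_ne hξ φ.2 hφ, mul_zero]
    have h0 : ∑ j ∈ s, Cfsg.classInner (F j) (φ : G → ℂ) = 0 := by
      rw [← classInner_sum_left, h, classInner_smul_left, classInner_isIrr_ne hξ φ.2 hφ, mul_zero]
    have hnat : ∀ j ∈ s, ∃ m : ℕ, Cfsg.classInner (F j) (φ : G → ℂ) = m := fun j hj =>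
      classInner_character_irr (hF j hj) φ.2
    choose m hm using hnat
    rw [← Finset.sum_attach, Finset.sum_congr rfl fun j _ => hm j.1 j.2] at h0
    have h1 : ∑ j ∈ s.attach, m j.1 j.2 = 0 := by exact_mod_cast h0
    rw [hm i hi, Finset.sum_eq_zero_iff.1 h1 ⟨i, hi⟩ (Finset.mem_attach _ _), Nat.cast_zero]

/-- A combination of characters which is irreducible has a single term. -/
theorem single_of_sum {ι : Type v} [Fintype ι] (m : ι → ℕ) {F : ι → G → ℂ}
    (hF : ∀ i, Cfsg.IsCharacter G (F i)) (hne : ∀ i, m i ≠ 0 → F i 1 ≠ 0) {ξ : G → ℂ}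
    (hξ : Cfsg.IsIrrCharacter G ξ) (h : ∑ i, (m i : ℂ) • F i = ξ) :
    ∃ i, m i = 1 ∧ ∀ j, j ≠ i → m j = 0 := by
  classical
  have hk := multiple_of_sum Finset.univ (fun i _ => isCharacter_natCast_smul (hF i) (m i)) hξ 1
    (by rw [h, one_smul])
  choose k hk using fun i => hk i (Finset.mem_univ i)
  choose n hn using fun i => classInner_character_irr (hF i) hξ
  have hmn : ∀ i, k i = m i * n i := fun i => by
    have := congrArg (fun f => Cfsg.classInner f ξ) (hk i)
    simp only [classInner_smul_left, classInner_isIrr_self hξ, mul_one, hn] at this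
    exact_mod_cast this.symm
  have hpos : ∀ i, m i ≠ 0 → n i ≠ 0 := fun i hi hn0 => hne i hi (by
    have := congrFun (hk i) 1
    rw [hmn, hn0, mul_zero, Nat.cast_zero, zero_smul, Pi.smul_apply, smul_eq_mul, Pi.zero_apply,
      mul_eq_zero] at this
    exact this.resolve_left (Nat.cast_ne_zero.2 hi))
  have hsum : ∑ i, m i * n i = 1 := by
    apply Nat.cast_injective (R := ℂ)
    rw [Nat.cast_one, ← classInner_isIrr_self hξ]
    conv_rhs => arg 1; rw [← h]
    rw [classInner_sum_left]
    push_cast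
    exact Finset.sum_congr rfl fun i _ => by rw [classInner_smul_left, hn]
  obtain ⟨i, -, hi⟩ := Finset.exists_ne_zero_of_sum_ne_zero
    (show ∑ i, m i * n i ≠ 0 by rw [hsum]; exact one_ne_zero)
  rw [← Finset.add_sum_erase _ _ (Finset.mem_univ i)] at hsum
  have h1 : m i * n i = 1 := by omega
  have h2 : ∑ j ∈ Finset.univ.erase i, m j * n j = 0 := by omega
  refine ⟨i, Nat.eq_one_of_mul_eq_one_right h1, fun j hj => ?_⟩
  by_contra hmj
  exact hpos j hmj ((Nat.mul_eq_zero.1 (Finset.sum_eq_zero_iff.1 h2 j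
    (Finset.mem_erase.2 ⟨hj, Finset.mem_univ j⟩))).resolve_left hmj)

/-- The conjugate of an induced function. -/
theorem conj_indFun (H : Subgroup G) (θ : H → ℂ) (g : G) :
    conj (Cfsg.indFun H θ g) = Cfsg.indFun H (fun h => conj (θ h)) g := by
  simp only [Cfsg.indFun, map_mul, map_inv₀, map_natCast, map_sum]
  congr 1
  refine Finset.sum_congr rfl fun x _ => ?_
  by_cases hx : x⁻¹ * g * x ∈ H
  · rw [extendByZero_of_mem H _ hx, extendByZero_of_mem H _ hx]
  · rw [extendByZero_of_not_mem H _ hx, extendByZero_of_not_mem H _ hx, map_zero]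

/-- A character trivial on the kernel of a surjection comes from the image. -/
theorem isCharacter_descend {Q : Type w} [Group Q] (f : G →* Q) (hf : Function.Surjective f)
    {A : G → ℂ} (hA : Cfsg.IsCharacter G A) (hker : ∀ x ∈ f.ker, A x = A 1) :
    ∃ B : Q → ℂ, Cfsg.IsCharacter Q B ∧ ∀ x, A x = B (f x) := by
  obtain ⟨n, ρ, rfl⟩ := hA
  have hle : f.ker ≤ MonoidHom.ker ρ := fun x hx => MonoidHom.mem_ker.2
    ((char_eq_finrank_iff ρ x).1 ((hker x hx).trans (Representation.char_one ρ)))
  let e : G ⧸ f.ker ≃* Q := QuotientGroup.quotientKerEquivOfSurjective f hf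
  let σ : Representation ℂ Q (Fin n → ℂ) :=
    (QuotientGroup.lift f.ker ρ hle).comp e.symm.toMonoidHom
  refine ⟨σ.character, ⟨n, σ, rfl⟩, fun x => ?_⟩
  have he : e.symm (f x) = (x : G ⧸ f.ker) := by
    rw [MulEquiv.symm_apply_eq]
    rfl
  have hσ : σ (f x) = ρ x := by
    simp only [σ, MonoidHom.comp_apply, MulEquiv.coe_toMonoidHom, he, QuotientGroup.lift_mk]
  exact congrArg (LinearMap.trace ℂ _) hσ.symm

end CfsgLib.CharactersDeep.Average
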