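import Cfsg.Agent.Solvable.Basic
import Mathlib.GroupTheory.PGroup
import Mathlib.GroupTheory.Index

/-!
# Maximal subgroups of solvable groups

The chief factor over the core of a maximal subgroup of a group with solvable quotient, and the
chief factor of the maximal subgroup acting nontrivially on it.
-/

set_option autoImplicit false
set_option linter.style.haveILetI false

namespace CfsgLib.CharactersDeep.BergerGroup

variable {G : Type*} [Group G] [Finite G]

/-- In a solvable group with a core-free maximal subgroup. -/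
theorem structure_aux [Group.IsSolvable G] (H : Subgroup G) (hH : IsCoatom H)
    (hcore : H.normalCore = ⊥) :
    ∃ K : Subgroup G, K.Normal ∧ K ≠ ⊥ ∧ H ⊓ K = ⊥ ∧
      (∀ g : G, ∃ h ∈ H, ∃ k ∈ K, g = h * k) ∧
      (H = ⊥ → (Nat.card K).Prime) ∧
      (H ≠ ⊥ → ∃ Q : Subgroup G, Q ≤ H ∧ (∀ h ∈ H, ∀ x ∈ Q, h * x * h⁻¹ ∈ Q) ∧
        Nat.Coprime (Nat.card Q) (Nat.card K) ∧
        ∃ x ∈ Q, ∃ k ∈ K, x * k * x⁻¹ * k⁻¹ ≠ 1) := by
  classical
  haveI : Nontrivial G := by
    by_contra h
    rw [not_nontrivial_iff_subsingleton] at h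
    exact hH.1 (Subsingleton.elim _ _)
  obtain ⟨K, hKn, hKne, hKmin⟩ := CfsgLib.Solvable.exists_minimal_normal (G := G)
  haveI := hKn
  have hKab := CfsgLib.Solvable.mul_comm_of_minimal_normal hKne hKmin
  obtain ⟨p, hp, hKp⟩ := CfsgLib.Solvable.exists_isPGroup_of_minimal_normal hKne hKmin
  have hKH : ¬ K ≤ H := fun h => hKne (le_bot_iff.1 (hcore ▸ Subgroup.normal_le_normalCore.2 h))
  have htop : H ⊔ K = ⊤ := hH.2 _ (left_lt_sup.2 hKH)
  have hprod : ∀ g : G, ∃ h ∈ H, ∃ k ∈ K, g = h * k := fun g => by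
    have hg : g ∈ ((H ⊔ K : Subgroup G) : Set G) := by rw [htop]; trivial
    rw [Subgroup.mul_normal H K] at hg
    obtain ⟨h, hh, k, hk, rfl⟩ := Set.mem_mul.1 hg
    exact ⟨h, hh, k, hk, rfl⟩
  -- subgroups normalised by `H` and centralised by `K` are normal
  have hnormal : ∀ C : Subgroup G, (∀ h ∈ H, ∀ c ∈ C, h * c * h⁻¹ ∈ C) →
      (∀ k ∈ K, ∀ c ∈ C, k * c = c * k) → C.Normal := by
    intro C hCH hCK
    refine ⟨fun c hc g => ?_⟩
    obtain ⟨h, hh, k, hk, rfl⟩ := hprod g
    rw [show h * k * c * (h * k)⁻¹ = h * ((k * c) * k⁻¹) * h⁻¹ by group, hCK k hk c hc,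
      mul_inv_cancel_right]
    exact hCH h hh c hc
  have hinf : H ⊓ K = ⊥ := by
    have hn := hnormal (H ⊓ K) (fun h hh c hc =>
      ⟨H.mul_mem (H.mul_mem hh hc.1) (H.inv_mem hh), hKn.conj_mem c hc.2 h⟩)
      (fun k hk c hc => hKab k hk c hc.2)
    exact le_bot_iff.1 (hcore ▸ Subgroup.normal_le_normalCore.2 (inf_le_left : H ⊓ K ≤ H))
  refine ⟨K, hKn, hKne, hinf, hprod, fun hbot => ?_, fun hne => ?_⟩
  · have hKtop : K = ⊤ := by rwa [hbot, bot_sup_eq] at htop
    obtain ⟨x, hx⟩ := exists_prime_orderOf_dvd_card' p (G := G) (hp := ⟨hp⟩) (by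
      haveI := Fact.mk hp
      obtain ⟨n, hn⟩ := IsPGroup.iff_card.1 hKp
      rw [hKtop, Subgroup.card_top] at hn
      rw [hn]
      refine dvd_pow_self p fun h0 => ?_
      rw [h0, pow_zero] at hn
      exact (Finite.one_lt_card (α := G)).ne' hn)
    have hzp : Subgroup.zpowers x = ⊤ := by
      rcases eq_or_ne (Subgroup.zpowers x) ⊤ with h | h
      · exact h
      · exact absurd (hH.2 _ (hbot ▸ bot_lt_iff_ne_bot.2 (by
          rw [Ne, Subgroup.zpowers_eq_bot]; rintro rfl; rw [orderOf_one] at hx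
          exact hp.ne_one hx.symm))) h
    rw [hKtop, Subgroup.card_top, ← Subgroup.card_top (G := G), ← hzp, Nat.card_zpowers, hx]
    exact hp
  · haveI : Nontrivial H := (Subgroup.nontrivial_iff_ne_bot H).2 hne
    obtain ⟨Q₀, hQn, hQne, hQmin⟩ := CfsgLib.Solvable.exists_minimal_normal (G := H)
    haveI := hQn
    obtain ⟨q, hq, hQq⟩ := CfsgLib.Solvable.exists_isPGroup_of_minimal_normal hQne hQmin
    set Q : Subgroup G := Q₀.map H.subtype with hQ
    have hQH : Q ≤ H := Subgroup.map_subtype_le Q₀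
    have hQconj : ∀ h ∈ H, ∀ x ∈ Q, h * x * h⁻¹ ∈ Q := by
      rintro h hh _ ⟨y, hy, rfl⟩
      exact ⟨⟨h, hh⟩ * y * ⟨h, hh⟩⁻¹, hQn.conj_mem y hy _, rfl⟩
    have hQnc : ¬ ∀ x ∈ Q, ∀ k ∈ K, x * k = k * x := fun hc => by
      have hn := hnormal Q hQconj fun k hk x hx => (hc x hx k hk).symm
      have h1 : Q ≤ ⊥ := hcore ▸ Subgroup.normal_le_normalCore.2 hQH
      exact hQne ((Subgroup.map_eq_bot_iff_of_injective Q₀ H.subtype_injective).1 (le_bot_iff.1 h1))
    push Not at hQnc
    obtain ⟨x, hx, k, hk, hxk⟩ := hQnc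
    refine ⟨Q, hQH, hQconj, ?_, x, hx, k, hk, fun h => hxk ?_⟩
    · have hQq' : IsPGroup q Q := hQq.map _
      have hpq : p ≠ q := by
        rintro rfl
        haveI := Fact.mk hp
        letI : MulAction Q K := MulAction.compHom K ((MulAut.conjNormal (H := K)).comp Q.subtype)
        have hsmul : ∀ (a : Q) (b : K), ((a • b : K) : G) = a * b * (a : G)⁻¹ :=
          fun a b => MulAut.conjNormal_apply (a : G) b
        have hcard : p ∣ Nat.card K := by
          obtain ⟨n, hn⟩ := IsPGroup.iff_card.1 hKp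
          rw [hn]
          refine dvd_pow_self p fun h0 => hKne (Subgroup.card_eq_one.1 ?_)
          rw [hn, h0, pow_zero]
        obtain ⟨b, hb, hb1⟩ := hQq'.exists_fixed_point_of_prime_dvd_card_of_fixed_point
          (α := K) hcard (a := 1) fun a => Subtype.ext (by rw [hsmul]; simp)
        let C : Subgroup G := K ⊓ Subgroup.centralizer (Q : Set G)
        have hC := hnormal C (fun h hh c hc => by
          refine ⟨hKn.conj_mem c hc.1 h, ?_⟩
          refine Subgroup.mem_centralizer_iff.2 ?_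
          intro y hy
          have hy' : h⁻¹ * y * h ∈ Q := by simpa using hQconj h⁻¹ (H.inv_mem hh) y hy
          have h2 := congrArg (fun z => h * z * h⁻¹) (Subgroup.mem_centralizer_iff.1 hc.2 _ hy')
          simpa [mul_assoc] using h2) (fun k' hk' c hc => hKab k' hk' c hc.1)
        rcases hKmin C hC inf_le_left with h1 | h1
        · apply hb1
          refine Subtype.ext ?_
          symm
          rw [OneMemClass.coe_one, ← Subgroup.mem_bot, ← h1]
          refine ⟨b.2, Subgroup.mem_centralizer_iff.2 fun y hy => ?_⟩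
          have := congrArg Subtype.val (hb ⟨y, hy⟩)
          rw [hsmul] at this
          exact mul_inv_eq_iff_eq_mul.1 this
        · have hk' : k ∈ C := h1.symm ▸ hk
          exact hxk (Subgroup.mem_centralizer_iff.1 hk'.2 x hx)
      haveI := Fact.mk hp
      haveI := Fact.mk hq
      exact IsPGroup.coprime_card_of_ne q p hpq.symm Q K hQq' hKp
    · rw [mul_inv_eq_one] at h
      exact mul_inv_eq_iff_eq_mul.1 h

/-- The configuration at a maximal subgroup `H` with core `L`. -/
theorem exists_chief (L H : Subgroup G) [L.Normal] (hsolv : Group.IsSolvable (G ⧸ L))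
    (hH : IsCoatom H) (hcore : H.normalCore = L) :
    ∃ K : Subgroup G, K.Normal ∧ L < K ∧ H ⊓ K = L ∧
      (∀ g : G, ∃ h ∈ H, ∃ k ∈ K, g = h * k) ∧
      (H = L → (L.relIndex K).Prime) ∧
      (H ≠ L → ∃ Q : Subgroup G, L ≤ Q ∧ Q ≤ H ∧ (∀ h ∈ H, ∀ x ∈ Q, h * x * h⁻¹ ∈ Q) ∧
        Nat.Coprime (L.relIndex Q) (L.relIndex K) ∧
        ∃ x ∈ Q, ∃ k ∈ K, x * k * x⁻¹ * k⁻¹ ∉ L) := by
  haveI := hsolv
  set π := QuotientGroup.mk' L with hπ
  have hπs : Function.Surjective π := QuotientGroup.mk'_surjective L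
  have hLH : L ≤ H := hcore ▸ H.normalCore_le
  have hcomapH : (H.map π).comap π = H := CfsgLib.Solvable.comap_map_mk'_of_le hLH
  have hH' : IsCoatom (H.map π) := by
    refine ⟨fun h => hH.1 (by rw [← hcomapH, h, Subgroup.comap_top]), fun S hS => ?_⟩
    have h1 : H < S.comap π := by
      rw [← hcomapH]
      exact (Subgroup.comap_lt_comap_of_surjective hπs).2 hS
    rw [← Subgroup.map_comap_eq_self_of_surjective hπs S, hH.2 _ h1,
      Subgroup.map_top_of_surjective π hπs]
  have hcore' : (H.map π).normalCore = ⊥ := by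
    have h1 : (H.map π).normalCore.comap π ≤ L := by
      exact (Subgroup.normal_le_normalCore.2
        ((Subgroup.comap_mono (Subgroup.normalCore_le _)).trans_eq hcomapH)).trans_eq hcore
    rw [eq_bot_iff, ← Subgroup.map_comap_eq_self_of_surjective hπs (H.map π).normalCore]
    refine (Subgroup.map_mono h1).trans ?_
    rw [QuotientGroup.map_mk'_self]
  obtain ⟨K, hK, hKne, hinf, hprod, hbot, hne⟩ := structure_aux (H.map π) hH' hcore'
  have hrel : ∀ S : Subgroup (G ⧸ L), L.relIndex (S.comap π) = Nat.card S := fun S => by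
    have h1 := Subgroup.relIndex_comap (⊥ : Subgroup (G ⧸ L)) π (S.comap π)
    rw [MonoidHom.comap_bot, QuotientGroup.ker_mk',
      Subgroup.map_comap_eq_self_of_surjective hπs, Subgroup.relIndex_bot_left] at h1
    exact h1
  have hLle : ∀ S : Subgroup (G ⧸ L), L ≤ S.comap π := fun S x hx => by
    rw [Subgroup.mem_comap, show π x = 1 from (QuotientGroup.eq_one_iff x).2 hx]
    exact S.one_mem
  refine ⟨K.comap π, hK.comap π, lt_of_le_of_ne (hLle K) fun h => hKne ?_, ?_, fun g => ?_,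
    fun h => ?_, fun h => ?_⟩
  · rw [← Subgroup.map_comap_eq_self_of_surjective hπs K, ← h, QuotientGroup.map_mk'_self]
  · conv_lhs => rw [← hcomapH, ← Subgroup.comap_inf, hinf, MonoidHom.comap_bot]
    exact QuotientGroup.ker_mk' L
  · obtain ⟨_, ⟨h, hh, rfl⟩, k, hk, hgk⟩ := hprod (π g)
    refine ⟨h, hh, h⁻¹ * g, ?_, (mul_inv_cancel_left h g).symm⟩
    rw [Subgroup.mem_comap, map_mul, map_inv, hgk, inv_mul_cancel_left]
    exact hk
  · rw [hrel]
    exact hbot (by rw [h, QuotientGroup.map_mk'_self])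
  · obtain ⟨Q, hQH, hQconj, hcop, x, hx, k, hk, hxk⟩ := hne fun h0 => h (by
      rw [← hcomapH, h0, MonoidHom.comap_bot, QuotientGroup.ker_mk'])
    obtain ⟨y, rfl⟩ := hπs x
    obtain ⟨z, rfl⟩ := hπs k
    refine ⟨Q.comap π, hLle Q, (Subgroup.comap_mono hQH).trans_eq hcomapH, fun a ha b hb => ?_,
      by rwa [hrel, hrel], y, hx, z, hk, fun hm => hxk ?_⟩
    · rw [Subgroup.mem_comap, map_mul, map_mul, map_inv]
      exact hQconj _ (Subgroup.mem_map_of_mem π ha) _ hb
    · rw [← map_mul, ← map_inv, ← map_mul, ← map_inv, ← map_mul]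
      exact (QuotientGroup.eq_one_iff _).2 hm

end CfsgLib.CharactersDeep.BergerGroup
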