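import Cfsg.Agent.CharactersDeep.ExtensionCriteria

/-!
# Characters of the projective extension

The image of `N` in `Gam N ρ`, the character of the tautological representation, and the preimage
of the centre.
-/

set_option autoImplicit false
set_option linter.style.haveILetI false
set_option linter.unusedSectionVars false

namespace CfsgLib.CharactersDeep.GamChar

open CfsgLib.Characters CfsgLib.CharactersDeep.Extension

universe u

variable {G : Type u} [Group G] [Finite G] (N : Subgroup G) [hN : N.Normal] {d : ℕ}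
  (ρ : Representation ℂ N (Fin d → ℂ))

theorem emb_conj [ρ.IsIrreducible] (γ : Gam N ρ) (n : N) :
    γ * emb N ρ n * γ⁻¹ = emb N ρ (MulAut.conjNormal (proj N ρ γ) n) := by
  refine ext_gam N ρ ?_ ?_
  · simp [proj_emb, MulAut.conjNormal_apply]
  · rw [map_mul, map_mul, op_emb, op_emb, op_intertwines, mul_assoc, ← map_mul (op N ρ),
      mul_inv_cancel, map_one, mul_one]

instance range_normal [ρ.IsIrreducible] : (emb N ρ).range.Normal := by
  constructor
  rintro _ ⟨n, rfl⟩ γ
  exact ⟨_, (emb_conj N ρ γ n).symm⟩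

theorem emb_injective : Function.Injective (emb N ρ) := fun a b hab =>
  Subtype.ext (by simpa [proj_emb] using congrArg (proj N ρ) hab)

theorem char_emb (n : N) : (op N ρ).character (emb N ρ n) = ρ.character n :=
  congrArg (LinearMap.trace ℂ _) (op_emb N ρ n)

variable [hirr : ρ.IsIrreducible]

include hirr in
theorem isIrr_op : Cfsg.IsIrrCharacter (Gam N ρ) (op N ρ).character := by
  haveI := finite_gam N ρ
  haveI := nontrivial_of_isIrreducible ρ
  haveI : (op N ρ).IsIrreducible := isIrreducible_of_forall _ fun U hU => by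
    have h := IsSimpleOrder.eq_bot_or_eq_top (⟨U, fun n x hx => by
      rw [← op_emb]; exact hU _ x hx⟩ : Subrepresentation ρ)
    exact h.imp (congrArg Subrepresentation.toSubmodule) (congrArg Subrepresentation.toSubmodule)
  exact isIrrCharacter_character _

include hirr in
theorem isIrr_op_range :
    Cfsg.IsIrrCharacter (emb N ρ).range fun x : (emb N ρ).range => (op N ρ).character x := by
  let E : N ≃* (emb N ρ).range := MonoidHom.ofInjective (emb_injective N ρ)
  have h := isIrr_comp E.symm.toMonoidHom E.symm.surjective (isIrrCharacter_character ρ)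
  convert h using 2 with x
  obtain ⟨n, rfl⟩ := E.surjective x
  simp only [MulEquiv.coe_toMonoidHom, MulEquiv.symm_apply_apply]
  exact char_emb N ρ n

include hirr in
theorem mem_center_of_proj {γ : Gam N ρ} (h : proj N ρ γ ∈ Subgroup.center G) :
    γ ∈ Subgroup.center (Gam N ρ) := by
  rw [Subgroup.mem_center_iff]
  intro δ
  obtain ⟨c, hc⟩ := schur_scalar ρ (op N ρ γ) fun n x => by
    have h1 := op_intertwines N ρ γ n
    rw [show MulAut.conjNormal (proj N ρ γ) n = n from Subtype.ext (by
      rw [MulAut.conjNormal_apply, ← Subgroup.mem_center_iff.1 h (n : G),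
        mul_inv_cancel_right])] at h1
    exact LinearMap.congr_fun h1 x
  refine ext_gam N ρ ?_ ?_
  · rw [map_mul, map_mul, Subgroup.mem_center_iff.1 h]
  · rw [map_mul, map_mul, hc]
    exact LinearMap.ext fun x => by simp

/-- For invariant `θ` the ramification divides the index of `N` times the centre. -/
theorem ramification_dvd_center [Fintype G] [Fintype N] {θ : N → ℂ}
    (hθ : Cfsg.IsIrrCharacter N θ)
    (hinv : ∀ (g : G) (n : N), θ ⟨g * n * g⁻¹, hN.conj_mem n n.2 g⟩ = θ n) {χ : G → ℂ}
    (hχ : Cfsg.IsIrrCharacter G χ) {e : ℕ} (he0 : 0 < e)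
    (he : (fun n : N => χ n) = (e : ℂ) • θ) : e ∣ (N ⊔ Subgroup.center G).index := by
  obtain ⟨d, ρ, hρ, rfl⟩ := hθ
  have hsurj := proj_surjective N ρ (ExtensionCriteria.hinv_rep N hinv)
  haveI := finite_gam N ρ
  haveI : Fintype (Gam N ρ) := Fintype.ofFinite _
  set N' : Subgroup (Gam N ρ) := (emb N ρ).range with hN'
  haveI : Fintype N' := Fintype.ofFinite _
  have hres : (fun x : N' => χ (proj N ρ x)) =
      (e : ℂ) • fun x : N' => (op N ρ).character x := by
    funext x
    obtain ⟨n, hn⟩ := x.2
    rw [Pi.smul_apply, ← hn, char_emb, proj_emb]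
    exact congrFun he n
  have hne : Cfsg.classInner (fun x : N' => χ (proj N ρ x))
      (fun x : N' => (op N ρ).character x) = (e : ℂ) := by
    rw [hres, classInner_smul_left, classInner_isIrr_self (isIrr_op_range N ρ), mul_one]
  obtain ⟨β, hβ, hψβ⟩ := Gallagher.exists_eq_prodInfl N' (isIrr_op N ρ) (isIrr_op_range N ρ)
    (isIrr_comp (proj N ρ) hsurj hχ) (by rw [hne]; exact_mod_cast he0.ne')
  have hval := Gallagher.classInner_restrict_prodInfl N' (isIrr_op N ρ) (isIrr_op_range N ρ)
    (β := β)
  rw [← hψβ, hne] at hval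
  obtain ⟨m, σ, hσ, rfl⟩ := hβ
  haveI := hσ
  haveI : Fintype (Gam N ρ ⧸ N') := Fintype.ofFinite _
  have hdvd := finrank_dvd_center_index σ
  rw [Representation.char_one] at hval
  rw [← Nat.cast_injective hval] at hdvd
  refine hdvd.trans ?_
  have hle : ((Subgroup.center G).comap (proj N ρ)).map (QuotientGroup.mk' N') ≤
      Subgroup.center _ := by
    rintro _ ⟨z, hz, rfl⟩
    rw [Subgroup.mem_center_iff]
    intro y
    obtain ⟨γ, rfl⟩ := QuotientGroup.mk_surjective y
    rw [QuotientGroup.mk'_apply, ← QuotientGroup.mk_mul, ← QuotientGroup.mk_mul,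
      Subgroup.mem_center_iff.1 (mem_center_of_proj N ρ hz) γ]
  refine (Subgroup.index_dvd_of_le hle).trans (dvd_of_eq ?_)
  rw [← Subgroup.index_comap_of_surjective _ (QuotientGroup.mk'_surjective N'),
    Subgroup.comap_map_eq, QuotientGroup.ker_mk', ← Subgroup.index_comap_of_surjective _ hsurj,
    ← Subgroup.comap_sup_eq _ _ _ hsurj]
  congr 1
  refine le_antisymm (sup_le le_sup_right ?_) (sup_le ?_ le_sup_left)
  · rintro _ ⟨n, rfl⟩
    exact Subgroup.mem_sup_left n.2
  · intro γ hγ
    rw [← mul_inv_cancel_left (emb N ρ ⟨_, Subgroup.mem_comap.1 hγ⟩) γ]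
    refine mul_mem (Subgroup.mem_sup_right ⟨_, rfl⟩) (Subgroup.mem_sup_left ?_)
    rw [Subgroup.mem_comap, map_mul, map_inv, proj_emb, inv_mul_cancel]
    exact one_mem _

end CfsgLib.CharactersDeep.GamChar
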