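import Cfsg.Agent.CharactersDeep.Average
import Cfsg.Agent.CharactersDeep.BergerGroup
import Cfsg.Agent.CharactersDeep.GamChar
import Cfsg.Agent.Characters.Imprimitive

/-!
# Berger's theorem: quasiprimitive characters of solvable groups are primitive

Relative to a normal subgroup `Z` with solvable quotient: an irreducible character whose
restrictions to the normal subgroups above `Z` are homogeneous is not induced from a character of
a proper subgroup containing `Z`.
-/

set_option autoImplicit false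
set_option linter.style.haveILetI false
set_option linter.unusedSectionVars false

namespace CfsgLib.CharactersDeep.Berger

open CfsgLib.Characters CfsgLib.OddOrderChar CfsgLib.CharactersDeep
open scoped ComplexConjugate

universe u w

variable {G : Type u} [Group G] [Fintype G]

/-- The restrictions to the normal subgroups containing `Z` are homogeneous. -/
def Homog (Z : Subgroup G) (χ : G → ℂ) : Prop :=
  ∀ M : Subgroup G, M.Normal → Z ≤ M →
    ∃ (φ : M → ℂ) (e : ℕ), Cfsg.IsIrrCharacter M φ ∧ (fun m : M => χ m) = (e : ℂ) • φ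

theorem indFun_congr {H H' : Subgroup G} (h : H = H') (θ : H → ℂ) (θ' : H' → ℂ)
    (hθ : ∀ x : H, θ x = θ' ⟨x, h ▸ x.2⟩) : Cfsg.indFun H θ = Cfsg.indFun H' θ' := by
  subst h
  rw [show θ = θ' from funext hθ]

/-- Restrictions around the chief factor `K / L`. -/
theorem restrictions {χ : G → ℂ} (hχ : Cfsg.IsIrrCharacter G χ) {H : Subgroup G} {ψ : H → ℂ}
    (hψ : Cfsg.IsCharacter H ψ) (hind : Cfsg.indFun H ψ = χ) {L K : Subgroup G} [L.Normal]
    [K.Normal] (hLK : L ≤ K) (hLH : L ≤ H) (hinf : H ⊓ K = L)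
    (hK : ∃ (φ : K → ℂ) (e : ℕ), Cfsg.IsIrrCharacter K φ ∧ (fun m : K => χ m) = (e : ℂ) • φ)
    (hL : ∃ (φ : L → ℂ) (e : ℕ), Cfsg.IsIrrCharacter L φ ∧ (fun m : L => χ m) = (e : ℂ) • φ) :
    ∃ (η : K → ℂ) (θ : L → ℂ) (a b f : ℕ), Cfsg.IsIrrCharacter K η ∧ Cfsg.IsIrrCharacter L θ ∧
      0 < a ∧ 0 < f ∧ (fun k : K => χ k) = (a : ℂ) • η ∧
      (∀ (g : G) (n : K), η ⟨g * n * g⁻¹, Subgroup.Normal.conj_mem inferInstance _ n.2 g⟩ = η n) ∧
      (∀ k : K, (k : G) ∉ L → η k = 0) ∧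
      (fun l : L => η ⟨l, hLK l.2⟩) = (b : ℂ) • θ ∧
      (fun l : L => ψ ⟨l, hLH l.2⟩) = (f : ℂ) • θ ∧ b * b = L.relIndex K := by
  classical
  obtain ⟨η, a, hη, hKa⟩ := hK
  obtain ⟨θ, c, hθ, hLc⟩ := hL
  have ha : 0 < a := Nat.pos_of_ne_zero fun h0 => irr_one_ne_zero hχ (by
    have := congrFun hKa 1
    simpa [h0] using this)
  have ha' : (a : ℂ) ≠ 0 := Nat.cast_ne_zero.2 ha.ne'
  have hva : ∀ k : K, χ k = (a : ℂ) * η k := fun k => congrFun hKa k
  have hinv : ∀ (g : G) (n : K),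
      η ⟨g * n * g⁻¹, Subgroup.Normal.conj_mem inferInstance _ n.2 g⟩ = η n := fun g n => by
    refine mul_left_cancel₀ ha' ?_
    rw [← hva, ← hva]
    exact isClassFunction_of_isIrr hχ n g
  have hoff : ∀ k : K, (k : G) ∉ L → η k = 0 := fun k hk => by
    refine (mul_eq_zero.1 ((hva k).symm.trans ?_)).resolve_left ha'
    rw [← hind]
    refine indFun_eq_zero_of_forall H ψ _ fun x hx => hk ?_
    have h1 : x⁻¹ * (k : G) * x ∈ L := hinf ▸ ⟨hx, by
      simpa using Subgroup.Normal.conj_mem (H := K) inferInstance _ k.2 x⁻¹⟩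
    simpa [mul_assoc] using Subgroup.Normal.conj_mem (H := L) inferInstance _ h1 x
  have hηL : Cfsg.IsCharacter L fun l : L => η ⟨l, hLK l.2⟩ :=
    isCharacter_comp (Subgroup.inclusion hLK) (isCharacter_of_isIrr hη)
  obtain ⟨b, hb⟩ := classInner_character_irr hηL hθ
  have hac : (a : ℂ) * b = c := by
    have h1 : (fun l : L => χ l) = (a : ℂ) • fun l : L => η ⟨l, hLK l.2⟩ :=
      funext fun l => hva ⟨l, hLK l.2⟩
    have := congrArg (fun F => Cfsg.classInner F θ) (h1.symm.trans hLc)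
    simpa [classInner_smul_left, hb, classInner_isIrr_self hθ] using this
  have hηb : (fun l : L => η ⟨l, hLK l.2⟩) = (b : ℂ) • θ := funext fun l => by
    refine mul_left_cancel₀ ha' ?_
    rw [← hva, Pi.smul_apply, smul_eq_mul, ← mul_assoc, hac]
    exact congrFun hLc l
  -- the restriction of `ψ`
  let F : G → L → ℂ := fun x l =>
    ψ ⟨x⁻¹ * l * x, hLH (by
      simpa using Subgroup.Normal.conj_mem (H := L) inferInstance _ l.2 x⁻¹)⟩
  have hF : ∀ x ∈ (Finset.univ : Finset G), Cfsg.IsCharacter L (F x) := fun x _ => by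
    convert isCharacter_comp ((Subgroup.inclusion hLH).comp
      (MulAut.conjNormal (H := L) x⁻¹).toMonoidHom) hψ using 1
    funext l
    exact congrArg ψ (Subtype.ext (by simp))
  have hsum : ∑ x, F x = ((Nat.card H : ℂ) * c) • θ := funext fun l => by
    have h1 : χ l = (Nat.card H : ℂ)⁻¹ * ∑ x : G, F x l := by
      rw [← hind, Cfsg.indFun]
      congr 1
      exact Finset.sum_congr rfl fun x _ => CfsgLib.Characters.extendByZero_of_mem H ψ _
    have h2 : χ l = (c : ℂ) * θ l := congrFun hLc l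
    rw [Finset.sum_apply, Pi.smul_apply, smul_eq_mul, mul_assoc, ← h2, h1, ← mul_assoc,
      mul_inv_cancel₀ (subgroup_card_ne_zero H), one_mul]
  obtain ⟨f, hf⟩ := Average.multiple_of_sum Finset.univ hF hθ _ hsum 1 (Finset.mem_univ 1)
  have hF1 : F 1 = fun l : L => ψ ⟨l, hLH l.2⟩ :=
    funext fun l => congrArg ψ (Subtype.ext (by simp))
  rw [hF1] at hf
  have hf0 : 0 < f := Nat.pos_of_ne_zero fun h0 => irr_one_ne_zero hχ (by
    have h1 := congrFun hf 1
    simp only [h0, Nat.cast_zero, zero_smul, Pi.zero_apply] at h1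
    rw [← hind, indFun_one, show (1 : H) = ⟨((1 : L) : G), hLH (1 : L).2⟩ from rfl, h1, mul_zero])
  refine ⟨η, θ, a, b, f, hη, hθ, ha, hf0, hKa, hinv, hoff, hηb, hf, ?_⟩
  -- the norm of `η`
  let M : Subgroup K := L.subgroupOf K
  let E : M ≃* L := Subgroup.subgroupOfEquivOfLe hLK
  have hext : Cfsg.extendByZero M (fun m : M => η m) = η := funext fun k => by
    by_cases hk : k ∈ M
    · exact CfsgLib.Characters.extendByZero_of_mem M _ hk
    · rw [extendByZero_of_not_mem M _ hk, hoff k hk]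
  have hηE : ∀ m : M, η m = (b : ℂ) * θ (E m) := fun m => congrFun hηb (E m)
  have hθnorm : ∑ m : M, θ (E m) * conj (θ (E m)) = (Nat.card L : ℂ) := by
    have h1 := classInner_isIrr_self hθ
    rw [Cfsg.classInner, inv_mul_eq_one₀ natCard_ne_zero] at h1
    rw [h1]
    exact Fintype.sum_equiv E.toEquiv _ _ fun m => rfl
  have hKnorm : ∑ k : K, η k * conj (η k) = (Nat.card K : ℂ) := by
    have h1 := classInner_isIrr_self hη
    rw [Cfsg.classInner, inv_mul_eq_one₀ natCard_ne_zero] at h1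
    exact h1.symm
  have h2 : ((b * b * Nat.card L : ℕ) : ℂ) = (Nat.card K : ℂ) := by
    push_cast
    rw [← hKnorm, ← hθnorm, Finset.mul_sum]
    conv_rhs => arg 2; ext k; arg 1; rw [← congrFun hext k]
    rw [sum_subgroup_extendByZero M (fun m : M => η m) fun k => conj (η k)]
    refine Finset.sum_congr rfl fun m _ => ?_
    rw [hηE, map_mul, Complex.conj_natCast]
    ring
  have h3 : Nat.card K = L.relIndex K * Nat.card L := by
    rw [← Nat.card_congr E.toEquiv]
    exact (Subgroup.index_mul_card M).symm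
  have h4 : b * b * Nat.card L = Nat.card K := by exact_mod_cast h2
  exact Nat.eq_of_mul_eq_mul_right Nat.card_pos (h4.trans h3)

/-- A character restricting irreducibly is irreducible. -/
theorem isIrr_of_restrict (N : Subgroup G) [Fintype N] {F : G → ℂ} (hF : Cfsg.IsCharacter G F)
    (hN : Cfsg.IsIrrCharacter N fun n : N => F n) : Cfsg.IsIrrCharacter G F := by
  obtain ⟨d, R, rfl⟩ := hF
  let R' : Representation ℂ N (Fin d → ℂ) := R.comp N.subtype
  haveI : R'.IsIrreducible := (isIrreducible_iff_classInner R').2 (classInner_isIrr_self hN)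
  haveI := nontrivial_of_isIrreducible R'
  haveI : R.IsIrreducible := isIrreducible_of_forall _ fun U hU => by
    have h := IsSimpleOrder.eq_bot_or_eq_top
      (⟨U, fun n x hx => hU _ x hx⟩ : Subrepresentation R')
    exact h.imp (congrArg Subrepresentation.toSubmodule) (congrArg Subrepresentation.toSubmodule)
  exact isIrrCharacter_character R

section Average

variable (N : Subgroup G) [N.Normal] [Fintype N]

/-- If the mean of `Ψ conj Φ` is irreducible then so is `Φ`. -/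
theorem restrict_irr {Φ Ψ : G → ℂ} (hΦ : Cfsg.IsCharacter G Φ) (hΨ : Cfsg.IsCharacter G Ψ)
    {θ : N → ℂ} (hθ : Cfsg.IsIrrCharacter N θ) {b f : ℕ} (hf : 0 < f)
    (hΦN : (fun n : N => Φ n) = (b : ℂ) • θ) (hΨN : (fun n : N => Ψ n) = (f : ℂ) • θ)
    (havg : Cfsg.IsIrrCharacter G (Average.avg N fun x => Ψ x * conj (Φ x))) :
    Cfsg.IsIrrCharacter G Φ := by
  classical
  obtain ⟨m, hm⟩ := exists_nat_coeff hΦ
  let A : Cfsg.IrrCharacter G → G → ℂ := fun γ =>
    Average.avg N fun x => Ψ x * conj ((γ : G → ℂ) x)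
  have hA : ∀ γ, Cfsg.IsCharacter G (A γ) := fun γ =>
    Average.isCharacter_avg N (isCharacter_mul hΨ (isCharacter_conj (isCharacter_of_isIrr γ.2)))
  have hne : ∀ γ, m γ ≠ 0 → A γ 1 ≠ 0 := by
    intro γ hγ
    obtain ⟨k, hk⟩ := Average.multiple_of_sum (G := N) Finset.univ
      (F := fun (δ : Cfsg.IrrCharacter G) (n : N) => (m δ : ℂ) * (δ : G → ℂ) n)
      (fun δ _ => isCharacter_natCast_smul
        (isCharacter_restrict N (isCharacter_of_isIrr δ.2)) (m δ)) hθ (b : ℂ) (by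
        rw [← hΦN, hm]
        funext n
        simp [Finset.sum_apply]) γ (Finset.mem_univ γ)
    have hk' : ∀ n : N, (γ : G → ℂ) n = ((k : ℂ) / m γ) * θ n := fun n => by
      rw [div_mul_eq_mul_div, eq_div_iff (Nat.cast_ne_zero.2 hγ), mul_comm]
      exact congrFun hk n
    have hval : A γ 1 = (f : ℂ) * ((k : ℂ) / m γ) := by
      simp only [A, Average.avg_one]
      have h1 : Cfsg.classInner (fun n : N => Ψ n * conj ((γ : G → ℂ) n)) (fun _ => 1) =
          (f : ℂ) * ((k : ℂ) / m γ) * Cfsg.classInner θ θ := by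
        simp only [Cfsg.classInner, map_one, mul_one]
        rw [mul_left_comm]
        congr 1
        rw [Finset.mul_sum]
        refine Finset.sum_congr rfl fun n _ => ?_
        rw [hk', show Ψ n = (f : ℂ) * θ n from congrFun hΨN n, map_mul, map_div₀,
          Complex.conj_natCast, Complex.conj_natCast]
        ring
      rw [h1, classInner_isIrr_self hθ, mul_one]
    rw [hval]
    refine mul_ne_zero (Nat.cast_ne_zero.2 hf.ne') (div_ne_zero ?_ (Nat.cast_ne_zero.2 hγ))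
    intro h0
    apply irr_one_ne_zero γ.2
    have := hk' 1
    simpa [h0] using this
  have hsum : ∑ γ, (m γ : ℂ) • A γ = Average.avg N fun x => Ψ x * conj (Φ x) := by
    rw [← Average.avg_sum_smul]
    congr 1
    funext x
    simp [hm, Finset.sum_apply, Finset.mul_sum, mul_left_comm]
  obtain ⟨γ, hγ, hrest⟩ := Average.single_of_sum m hA hne havg hsum
  rw [hm, Finset.sum_eq_single γ (fun δ _ hδ => by rw [hrest δ hδ, Nat.cast_zero, zero_smul])
    (fun h => absurd (Finset.mem_univ γ) h), hγ, Nat.cast_one, one_smul]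
  exact γ.2

/-- The homogeneous case: `|Φ|²` has constant mean on the cosets of `N`. -/
theorem homog_case {Φ μ : G → ℂ} (hμ : Cfsg.IsIrrCharacter G μ) {θ : N → ℂ}
    (hθ : Cfsg.IsIrrCharacter N θ) {m b : ℕ} (hb : 0 < b) (hΦ : Φ = (m : ℂ) • μ)
    (hΦN : (fun n : N => Φ n) = (b : ℂ) • θ)
    (hcop : Nat.Coprime (N ⊔ Subgroup.center G).index (b * b)) (y : G) :
    ∑ n : N, Φ ((n : G) * y) * conj (Φ ((n : G) * y)) = (b : ℂ) * b * Nat.card N := by
  obtain ⟨s, hs⟩ := classInner_character_irr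
    (isCharacter_restrict N (isCharacter_of_isIrr hμ)) hθ
  have hms : (m : ℂ) * s = b := by
    have := congrArg (fun F => Cfsg.classInner F θ) hΦN
    simp only [classInner_smul_left, classInner_isIrr_self hθ, mul_one] at this
    rw [← this, ← hs, ← classInner_smul_left]
    congr 1
    funext n
    simp [hΦ]
  have hms' : m * s = b := by exact_mod_cast hms
  have hm0 : (m : ℂ) ≠ 0 := Nat.cast_ne_zero.2 fun h => hb.ne (by rw [← hms', h, zero_mul])
  have hs0 : 0 < s := Nat.pos_of_ne_zero fun h => hb.ne (by rw [← hms', h, mul_zero])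
  have hμN : (fun n : N => μ n) = (s : ℂ) • θ := funext fun n => by
    refine mul_left_cancel₀ hm0 ?_
    rw [Pi.smul_apply, smul_eq_mul, ← mul_assoc, hms]
    simpa [hΦ] using congrFun hΦN n
  have hinv : ∀ (g : G) (n : N),
      θ ⟨g * n * g⁻¹, Subgroup.Normal.conj_mem inferInstance _ n.2 g⟩ = θ n := fun g n => by
    refine mul_left_cancel₀ (Nat.cast_ne_zero.2 hs0.ne' : (s : ℂ) ≠ 0) ?_
    have h1 := congrFun hμN ⟨g * n * g⁻¹, Subgroup.Normal.conj_mem inferInstance _ n.2 g⟩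
    have h2 := congrFun hμN n
    simp only [Pi.smul_apply, smul_eq_mul] at h1 h2
    rw [← h1, ← h2]
    exact isClassFunction_of_isIrr hμ n g
  have hs1 : s = 1 := Nat.eq_one_of_dvd_coprimes hcop
    (GamChar.ramification_dvd_center N hθ hinv hμ hs0 hμN)
    ((Dvd.intro_left m hms').trans (Dvd.intro b rfl))
  rw [hs1, mul_one] at hms'
  rw [hs1, Nat.cast_one, one_smul] at hμN
  subst hms'
  have h := Gallagher.sum_coset_mul_conj N hμ (by rw [hμN]; exact hθ) y
  rw [← h, Finset.mul_sum, hΦ]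
  refine Finset.sum_congr rfl fun n _ => ?_
  simp only [Pi.smul_apply, smul_eq_mul, map_mul, Complex.conj_natCast]
  ring

/-- The case of a proper inertia group. -/
theorem induced_case {Q : Type w} [Group Q] [Fintype Q] (q : G →* Q) (hq : Function.Surjective q)
    (hker : ∀ x, x ∈ N ↔ q x = 1) (Y : Subgroup G) [Y.Normal] [Fintype Y] (hNY : N ≤ Y)
    {Φ Ψ : G → ℂ} (hΦ : Cfsg.IsIrrCharacter G Φ) (hΨ : Cfsg.IsCharacter G Ψ) {μ : Y → ℂ}
    (hμ : Cfsg.IsIrrCharacter Y μ) (hμΦ : Cfsg.classInner (fun y : Y => Φ y) μ ≠ 0)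
    (hninv : ∃ x, conjBy Y μ x ≠ μ) {β : Q → ℂ}
    (havg : ∀ x, β (q x) = Average.avg N (fun x => Ψ x * conj (Φ x)) x) :
    ∃ (T : Subgroup Q) (B : T → ℂ), T ≠ ⊤ ∧ Y.map q ≤ T ∧ Cfsg.IsCharacter T B ∧
      Cfsg.indFun T B = β := by
  classical
  let S : Subgroup G :=
    { carrier := {x | conjBy Y μ x = μ}
      one_mem' := conjBy_one Y μ
      mul_mem' := fun {x y} (hx : conjBy Y μ x = μ) (hy : conjBy Y μ y = μ) => by
        show conjBy Y μ (x * y) = μ
        rw [← conjBy_mul, hx, hy]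
      inv_mem' := fun {x} (hx : conjBy Y μ x = μ) => by
        show conjBy Y μ x⁻¹ = μ
        conv_lhs => rw [← hx]
        rw [conjBy_mul, mul_inv_cancel, conjBy_one] }
  have hYS : Y ≤ S := fun y hy => funext fun z => isClassFunction_of_isIrr hμ z ⟨y, hy⟩
  obtain ⟨φ, -, -, hφ, hindφ, -, -⟩ := Clifford.exists_induced_from_inertia Y hμ S
    (fun _ => Iff.rfl) hYS hΦ hμΦ
  let A : S → ℂ := fun s => conj (φ s) * Ψ s
  have hA : Cfsg.IsCharacter S A :=
    isCharacter_mul (isCharacter_conj (isCharacter_of_isIrr hφ)) (isCharacter_restrict S hΨ)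
  have hω : (fun x => Ψ x * conj (Φ x)) = Cfsg.indFun S A := by
    rw [show A = fun s : S => (fun t : S => conj (φ t)) s * Ψ s from rfl,
      indFun_mul S _ (isClassFunction_of_isCharacter hΨ)]
    funext x
    rw [← hindφ, Average.conj_indFun, mul_comm]
  have hNS : N ≤ S := hNY.trans hYS
  let D : S → ℂ := Average.avg (N.subgroupOf S) A
  have hD : Cfsg.IsCharacter S D := Average.isCharacter_avg _ hA
  let q' : S →* S.map q := q.subgroupMap S
  obtain ⟨B, hB, hDB⟩ := Average.isCharacter_descend q' (q.subgroupMap_surjective S) hD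
    fun x hx => Average.avg_of_mem _ A (Subgroup.mem_subgroupOf.2 ((hker x).2
      (congrArg Subtype.val (MonoidHom.mem_ker.1 hx))))
  have hcm : (S.map q).comap q = S :=
    Subgroup.comap_map_eq_self fun x hx => hNS ((hker x).2 (MonoidHom.mem_ker.1 hx))
  refine ⟨S.map q, B, fun htop => ?_, Subgroup.map_mono hYS, hB, ?_⟩
  · obtain ⟨x, hx⟩ := hninv
    apply hx
    show x ∈ S
    rw [← hcm, htop, Subgroup.comap_top]
    trivial
  · funext p
    obtain ⟨g, rfl⟩ := hq p
    rw [← indFun_comap q hq (S.map q) B g, havg, hω, Average.avg_indFun N S hNS A]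
    refine congrFun (indFun_congr hcm _ _ fun x => ?_) g
    exact (hDB ⟨x, hcm.le x.2⟩).symm

end Average

/-- Homogeneity passes to the projective factor. -/
theorem homog_quotient {Γ : Type u} [Group Γ] [Fintype Γ] (π : Γ →* G)
    (hπ : Function.Surjective π) (N : Subgroup Γ) [N.Normal] [Fintype N] {Φ : Γ → ℂ}
    (hΦ : Cfsg.IsIrrCharacter Γ Φ) (hΦN : Cfsg.IsIrrCharacter N fun n : N => Φ n)
    {β : Γ ⧸ N → ℂ} (hβ : Cfsg.IsIrrCharacter (Γ ⧸ N) β) [Fintype (Γ ⧸ N)] {χ : G → ℂ}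
    (hfac : (fun γ => χ (π γ)) = Gallagher.prodInfl N Φ β) {Z : Subgroup G}
    (hom : Homog Z χ) (hZ : Z ≤ N.map π) :
    Homog (π.ker.map (QuotientGroup.mk' N)) β := by
  classical
  intro M'' hM'' hle
  haveI := hM''
  set T : Subgroup Γ := M''.comap (QuotientGroup.mk' N) with hT
  haveI : T.Normal := hM''.comap _
  have hNT : N ≤ T := fun x hx => by
    rw [hT, Subgroup.mem_comap, show QuotientGroup.mk' N x = 1 from
      (QuotientGroup.eq_one_iff x).2 hx]
    exact M''.one_mem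
  obtain ⟨φ, e, hφ, hres⟩ := hom (T.map π) (Subgroup.Normal.map inferInstance π hπ)
    (hZ.trans (Subgroup.map_mono hNT))
  let πT : T →* T.map π := π.subgroupMap T
  let φ' : T → ℂ := fun t => φ (πT t)
  have hφ' : Cfsg.IsIrrCharacter T φ' := isIrr_comp πT (π.subgroupMap_surjective T) hφ
  let qT : T →* M'' := (((QuotientGroup.mk' N).comp T.subtype).codRestrict M'' fun t => t.2)
  have hqT : Function.Surjective qT := fun m => by
    obtain ⟨t, ht⟩ := QuotientGroup.mk'_surjective N m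
    exact ⟨⟨t, by rw [hT, Subgroup.mem_comap, ht]; exact m.2⟩, Subtype.ext ht⟩
  let N₁ : Subgroup T := N.subgroupOf T
  have hker : N₁ ≤ qT.ker := fun t ht => MonoidHom.mem_ker.2 (Subtype.ext
    ((QuotientGroup.eq_one_iff (t : Γ)).2 ht))
  let l : T ⧸ N₁ →* M'' := QuotientGroup.lift N₁ qT hker
  have hl : Function.Surjective l := fun m => by
    obtain ⟨t, rfl⟩ := hqT m
    exact ⟨t, rfl⟩
  let ΦT : T → ℂ := fun t => Φ t
  have hΦN₁ : Cfsg.IsIrrCharacter N₁ fun n : N₁ => ΦT n :=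
    isIrr_comp (Subgroup.subgroupOfEquivOfLe hNT).toMonoidHom
      (Subgroup.subgroupOfEquivOfLe hNT).surjective hΦN
  have hΦT : Cfsg.IsIrrCharacter T ΦT :=
    isIrr_of_restrict N₁ (isCharacter_restrict T (isCharacter_of_isIrr hΦ)) hΦN₁
  obtain ⟨m, hm⟩ := exists_nat_coeff (isCharacter_restrict M'' (isCharacter_of_isIrr hβ))
  let α : Cfsg.IrrCharacter M'' → T ⧸ N₁ → ℂ := fun ω x => (ω : M'' → ℂ) (l x)
  have hα : ∀ ω, Cfsg.IsIrrCharacter (T ⧸ N₁) (α ω) := fun ω => isIrr_comp l hl ω.2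
  let X : Cfsg.IrrCharacter M'' → T → ℂ := fun ω => Gallagher.prodInfl N₁ ΦT (α ω)
  have hX : ∀ ω, Cfsg.IsIrrCharacter T (X ω) := fun ω =>
    Gallagher.isIrr_prodInfl N₁ hΦT hΦN₁ (hα ω)
  have hXinj : Function.Injective X := fun ω ω' h => by
    have h1 := Gallagher.prodInfl_injective N₁ hΦT hΦN₁ (hα ω) (hα ω') h
    refine Subtype.ext (funext fun x => ?_)
    obtain ⟨x', rfl⟩ := hl x
    exact congrFun h1 x'
  have hexp : (e : ℂ) • φ' = ∑ ω, (m ω : ℂ) • X ω := by
    funext t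
    have h1 : χ (π t) = Φ t * β (QuotientGroup.mk' N t) := congrFun hfac t
    have h2 : χ (π t) = (e : ℂ) * φ' t := congrFun hres (πT t)
    have h3 : β (QuotientGroup.mk' N t) = ∑ ω, (m ω : ℂ) * (ω : M'' → ℂ) (qT t) := by
      have := congrFun hm (qT t)
      refine Eq.trans this ?_
      simp [Finset.sum_apply]
    rw [Pi.smul_apply, smul_eq_mul, ← h2, h1, h3, Finset.sum_apply, Finset.mul_sum]
    refine Finset.sum_congr rfl fun ω _ => ?_
    simp only [Pi.smul_apply, smul_eq_mul, X, Gallagher.prodInfl, α, l, ΦT,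
      QuotientGroup.lift_mk]
    ring
  have hone : ∀ ω, m ω ≠ 0 → X ω = φ' := fun ω hω => by
    by_contra hne
    have h1 := congrArg (fun F => Cfsg.classInner F (X ω)) hexp
    simp only [classInner_smul_left, classInner_sum_left,
      classInner_isIrr_ne hφ' (hX ω) fun h => hne h.symm, mul_zero] at h1
    rw [Finset.sum_eq_single ω (fun ω' _ h' => by
        rw [classInner_isIrr_ne (hX ω') (hX ω) fun h => h' (hXinj h), mul_zero])
      (fun h => absurd (Finset.mem_univ ω) h), classInner_isIrr_self (hX ω), mul_one] at h1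
    exact hω (by exact_mod_cast h1.symm)
  obtain ⟨ω₀, -, hω₀⟩ := Finset.exists_ne_zero_of_sum_ne_zero
    (show ∑ ω : Cfsg.IrrCharacter M'', m ω ≠ 0 from fun h0 => irr_one_ne_zero hβ (by
      have h1 := congrFun hm 1
      simp only [OneMemClass.coe_one] at h1
      rw [h1, Finset.sum_apply, Finset.sum_eq_zero]
      intro ω _
      rw [Finset.sum_eq_zero_iff.1 h0 ω (Finset.mem_univ ω), Nat.cast_zero, zero_smul,
        Pi.zero_apply]))
  refine ⟨(ω₀ : M'' → ℂ), m ω₀, ω₀.2, hm.trans (Finset.sum_eq_single ω₀ (fun ω _ hne => ?_)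
    fun h => absurd (Finset.mem_univ ω₀) h)⟩
  have : m ω = 0 := by
    by_contra h0
    exact hne (hXinj ((hone ω h0).trans (hone ω₀ hω₀).symm))
  rw [this, Nat.cast_zero, zero_smul]

/-- The projective factor is induced from a proper subgroup containing the image of the kernel. -/
theorem exists_induced_factor {Γ : Type u} [Group Γ] [Fintype Γ] (π : Γ →* G)
    (hπ : Function.Surjective π) (hcentral : π.ker ≤ Subgroup.center Γ)
    (L K H : Subgroup G) [L.Normal] [K.Normal] (hLK : L ≤ K) (hLH : L ≤ H) (hinf : H ⊓ K = L)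
    (hprod : ∀ g : G, ∃ h ∈ H, ∃ k ∈ K, g = h * k) (Q : Subgroup G) (hLQ : L ≤ Q) (hQH : Q ≤ H)
    (hQn : ∀ h ∈ H, ∀ x ∈ Q, h * x * h⁻¹ ∈ Q)
    (hcop : Nat.Coprime (L.relIndex Q) (L.relIndex K))
    (hcomm : ∃ x ∈ Q, ∃ k ∈ K, x * k * x⁻¹ * k⁻¹ ∉ L)
    (N : Subgroup Γ) [N.Normal] [Fintype N] [Fintype (Γ ⧸ N)]
    (hNK : ∀ n ∈ N, π n ∈ K) (hKN : ∀ k ∈ K, ∃ n ∈ N, π n = k)
    {Φ : Γ → ℂ} (hΦ : Cfsg.IsIrrCharacter Γ Φ) (hΦN : Cfsg.IsIrrCharacter N fun n : N => Φ n)
    (hoff : ∀ n ∈ N, π n ∉ L → Φ n = 0) {θ : L → ℂ} (hθ : Cfsg.IsIrrCharacter L θ) {b : ℕ}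
    (hΦb : ∀ n ∈ N, ∀ h : π n ∈ L, Φ n = (b : ℂ) * θ ⟨π n, h⟩) (hb : b * b = L.relIndex K)
    {χ : G → ℂ} {ψ : H → ℂ} (hψ : Cfsg.IsCharacter H ψ) (hind : Cfsg.indFun H ψ = χ) {f : ℕ}
    (hf : 0 < f) (hψL : (fun l : L => ψ ⟨l, hLH l.2⟩) = (f : ℂ) • θ)
    {β : Γ ⧸ N → ℂ} (hβ : Cfsg.IsIrrCharacter (Γ ⧸ N) β)
    (hfac : (fun γ => χ (π γ)) = Gallagher.prodInfl N Φ β) :
    ∃ (T : Subgroup (Γ ⧸ N)) (B : T → ℂ), T ≠ ⊤ ∧ π.ker.map (QuotientGroup.mk' N) ≤ T ∧
      Cfsg.IsCharacter T B ∧ Cfsg.indFun T B = β := by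
  classical
  set X : Subgroup Γ := H.comap π with hX
  let pX : X →* H := (π.comp X.subtype).codRestrict H fun x => x.2
  set NX : Subgroup X := N.subgroupOf X with hNX
  have hmemNX : ∀ x : X, x ∈ NX → π x ∈ L := fun x hx => hinf ▸ ⟨x.2, hNK _ hx⟩
  have hsup : ∀ γ : Γ, ∃ s : X, ∃ n : N, γ = s * n := fun γ => by
    obtain ⟨h, hh, k, hk, hγ⟩ := hprod (π γ)
    obtain ⟨n, hn, hnk⟩ := hKN k hk
    refine ⟨⟨γ * n⁻¹, ?_⟩, ⟨n, hn⟩, (inv_mul_cancel_right γ n).symm⟩
    rw [hX, Subgroup.mem_comap, map_mul, map_inv, hnk, hγ, mul_inv_cancel_right]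
    exact hh
  -- the factor on `X` is a mean
  let ΦX : X → ℂ := fun x => Φ x
  let Ψ : X → ℂ := fun x => ψ (pX x)
  have hΨ : Cfsg.IsCharacter X Ψ := isCharacter_comp pX hψ
  have hΦXc : Cfsg.IsCharacter X ΦX := isCharacter_restrict X (isCharacter_of_isIrr hΦ)
  let ω : X → ℂ := fun x => Ψ x * conj (ΦX x)
  have hω : Cfsg.IsCharacter X ω := isCharacter_mul hΨ (isCharacter_conj hΦXc)
  have hωind : (fun γ => χ (π γ) * conj (Φ γ)) = Cfsg.indFun X ω := by
    have h1 := indFun_mul X Ψ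
      (isClassFunction_of_isCharacter (isCharacter_conj (isCharacter_of_isIrr hΦ)))
    rw [show ω = fun x : X => Ψ x * (fun γ => conj (Φ γ)) x from rfl, h1]
    funext γ
    congr 1
    rw [← hind]
    exact (indFun_comap π hπ H ψ γ).symm
  have hβN : ∀ γ : Γ, β γ = Average.avg N (fun γ => χ (π γ) * conj (Φ γ)) γ := fun γ => by
    have h1 : ∀ n : N, χ (π ((n : Γ) * γ)) * conj (Φ ((n : Γ) * γ)) =
        β γ * (Φ ((n : Γ) * γ) * conj (Φ ((n : Γ) * γ))) := fun n => by
      have := congrFun hfac ((n : Γ) * γ)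
      simp only [Gallagher.prodInfl] at this
      rw [this, QuotientGroup.mk_mul, (QuotientGroup.eq_one_iff (n : Γ)).2 n.2, one_mul]
      ring
    rw [Average.avg]
    simp only [h1]
    rw [← Finset.mul_sum, Gallagher.sum_coset_mul_conj N hΦ hΦN, mul_left_comm,
      inv_mul_cancel₀ (subgroup_card_ne_zero N), mul_one]
  let q : X →* Γ ⧸ N := (QuotientGroup.mk' N).comp X.subtype
  have hq : Function.Surjective q := fun p => by
    obtain ⟨γ, rfl⟩ := QuotientGroup.mk_surjective p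
    obtain ⟨s, n, rfl⟩ := hsup γ
    refine ⟨s, ?_⟩
    simp [q]
  have hker : ∀ x, x ∈ NX ↔ q x = 1 := fun x => (QuotientGroup.eq_one_iff (x : Γ)).symm
  have hβX : ∀ x : X, β (q x) = Average.avg NX ω x := fun x => by
    rw [show q x = ((x : Γ) : Γ ⧸ N) from rfl, hβN, hωind,
      Average.avg_indFun_of_sup N X (isClassFunction_of_isCharacter hω) hsup x]
  -- the restriction to `X` is irreducible
  let pN : NX →* L := ((π.comp X.subtype).comp NX.subtype).codRestrict L fun x => hmemNX x x.2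
  have hpN : Function.Surjective pN := fun l => by
    obtain ⟨n, hn, hnl⟩ := hKN l (hLK l.2)
    exact ⟨⟨⟨n, by rw [hX, Subgroup.mem_comap, hnl]; exact hLH l.2⟩, hn⟩, Subtype.ext hnl⟩
  let θX : NX → ℂ := fun x => θ (pN x)
  have hθX : Cfsg.IsIrrCharacter NX θX := isIrr_comp pN hpN hθ
  have hΦX : Cfsg.IsIrrCharacter X ΦX := by
    refine restrict_irr NX hΦXc hΨ hθX hf (funext fun x => hΦb _ x.2 (hmemNX x x.2))
      (funext fun x => congrFun hψL (pN x)) ?_
    rw [show Average.avg NX (fun x => Ψ x * conj (ΦX x)) = fun x => β (q x) from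
      funext fun x => (hβX x).symm]
    exact isIrr_comp q hq hβ
  -- the normal subgroup over `Q`
  set Y : Subgroup X := (Q.comap π).subgroupOf X with hY
  haveI hYn : Y.Normal := ⟨fun y hy x => by
    simp only [hY, Subgroup.mem_subgroupOf, Subgroup.mem_comap, Subgroup.coe_mul,
      Subgroup.coe_inv, map_mul, map_inv] at hy ⊢
    exact hQn _ x.2 _ hy⟩
  have hNY : NX ≤ Y := fun x hx => hLQ (hmemNX x hx)
  obtain ⟨m, hm⟩ := exists_nat_coeff (isCharacter_restrict Y hΦXc)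
  obtain ⟨μ, -, hμ0⟩ := Finset.exists_ne_zero_of_sum_ne_zero
    (show ∑ μ : Cfsg.IrrCharacter Y, m μ ≠ 0 from fun h0 => irr_one_ne_zero hΦX (by
      have h1 := congrFun hm 1
      simp only [OneMemClass.coe_one] at h1
      rw [h1, Finset.sum_apply, Finset.sum_eq_zero]
      intro μ _
      rw [Finset.sum_eq_zero_iff.1 h0 μ (Finset.mem_univ μ), Nat.cast_zero, zero_smul,
        Pi.zero_apply]))
  have hμΦ : Cfsg.classInner (fun y : Y => ΦX y) (μ : Y → ℂ) ≠ 0 := by
    rw [hm, classInner_irr_coeff (fun δ => (m δ : ℂ)) μ]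
    exact_mod_cast hμ0
  by_cases hinv : ∀ x : X, conjBy Y (μ : Y → ℂ) x = (μ : Y → ℂ)
  swap
  · push Not at hinv
    obtain ⟨T, B, hT, hYT, hB, hBβ⟩ :=
      induced_case NX q hq hker Y hNY hΦX hΨ μ.2 hμΦ hinv hβX
    refine ⟨T, B, hT, ?_, hB, hBβ⟩
    rintro _ ⟨z, hz, rfl⟩
    refine hYT ⟨⟨z, ?_⟩, ?_, rfl⟩
    · rw [hX, Subgroup.mem_comap, MonoidHom.mem_ker.1 hz]; exact H.one_mem
    · simp only [hY, SetLike.mem_coe, Subgroup.mem_subgroupOf, Subgroup.mem_comap,
        MonoidHom.mem_ker.1 hz]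
      exact Q.one_mem
  -- the homogeneous case is impossible
  exfalso
  obtain ⟨e, -, hYe, -⟩ := Clifford.restrict_eq_smul Y hΦX μ.2 hinv hμΦ
  have hb0 : 0 < b := Nat.pos_of_ne_zero fun h0 => by
    have := Subgroup.index_ne_zero_of_finite (H := L.subgroupOf K)
    exact this (by rw [← Subgroup.relIndex, ← hb, h0, zero_mul])
  set NY : Subgroup Y := NX.subgroupOf Y with hNY'
  let θY : NY → ℂ := fun y => θX (Subgroup.subgroupOfEquivOfLe hNY y)
  have hθY : Cfsg.IsIrrCharacter NY θY :=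
    isIrr_comp (Subgroup.subgroupOfEquivOfLe hNY).toMonoidHom
      (Subgroup.subgroupOfEquivOfLe hNY).surjective hθX
  let pY : Y →* G := (π.comp X.subtype).comp Y.subtype
  have hrange : pY.range = Q := le_antisymm (by rintro _ ⟨y, rfl⟩; exact y.2) fun g hg => by
    obtain ⟨γ, rfl⟩ := hπ g
    exact ⟨⟨⟨γ, hQH hg⟩, hg⟩, rfl⟩
  have hdvd : (NY ⊔ Subgroup.center Y).index ∣ L.relIndex Q := by
    rw [← hrange, ← Subgroup.index_comap]
    refine Subgroup.index_dvd_of_le fun y hy => ?_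
    obtain ⟨n, hn, hny⟩ := hKN _ (hLK (Subgroup.mem_comap.1 hy))
    have hnL : π n ∈ L := by rw [hny]; exact Subgroup.mem_comap.1 hy
    let n' : Y := ⟨⟨n, hLH hnL⟩, hLQ hnL⟩
    rw [show y = n' * (n'⁻¹ * y) by group]
    refine Subgroup.mul_mem_sup hn (Subgroup.mem_center_iff.2 fun z => ?_)
    refine Subtype.ext (Subtype.ext ?_)
    have hk : ((n'⁻¹ * y : Y) : X).1 ∈ π.ker := by
      rw [MonoidHom.mem_ker]
      show π (n⁻¹ * ((y : X) : Γ)) = 1
      rw [map_mul, map_inv, hny]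
      exact inv_mul_cancel _
    exact Subgroup.mem_center_iff.1 (hcentral hk) _
  have hcst : ∀ y : Y, ∑ n : NY, ΦX ((n : Y) * y : Y) * conj (ΦX ((n : Y) * y : Y)) =
      (b : ℂ) * b * Nat.card NY := fun y =>
    homog_case NY (Φ := fun y : Y => ΦX y) μ.2 hθY hb0 hYe
      (funext fun n => hΦb _ (Subgroup.subgroupOfEquivOfLe hNY n).2
        (hmemNX _ (Subgroup.subgroupOfEquivOfLe hNY n).2))
      ((Nat.Coprime.coprime_dvd_left hdvd hcop).coprime_dvd_right hb.dvd) y
  -- the mean of `|Φ|²` over `L'`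
  set L' : Subgroup Γ := N ⊓ L.comap π with hL'
  haveI : L'.Normal := Subgroup.normal_inf_normal _ _
  let F : Γ → ℂ := Average.avg L' fun γ => Φ γ * conj (Φ γ)
  have hF : Cfsg.IsCharacter Γ F := Average.isCharacter_avg L'
    (isCharacter_mul (isCharacter_of_isIrr hΦ) (isCharacter_conj (isCharacter_of_isIrr hΦ)))
  have hFY : ∀ y : Y, F ((y : X) : Γ) = (b : ℂ) * b := fun y => by
    let E : NY ≃ L' :=
      { toFun := fun n => ⟨((n : Y) : X).1, (Subgroup.subgroupOfEquivOfLe hNY n).2,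
          hmemNX _ (Subgroup.subgroupOfEquivOfLe hNY n).2⟩
        invFun := fun l => ⟨⟨⟨l, hLH l.2.2⟩, hLQ l.2.2⟩, l.2.1⟩
        left_inv := fun n => rfl
        right_inv := fun l => rfl }
    simp only [F, Average.avg]
    rw [← Fintype.sum_equiv E
      (fun n : NY => ΦX ((n : Y) * y : Y) * conj (ΦX ((n : Y) * y : Y))) _ fun n => rfl,
      hcst, ← Nat.card_congr E, mul_comm, mul_inv_cancel_right₀]
    exact Nat.cast_ne_zero.2 Nat.card_pos.ne'
  obtain ⟨x, hxQ, k, hkK, hxk⟩ := hcomm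
  obtain ⟨γ, rfl⟩ := hπ x
  obtain ⟨n, hn, rfl⟩ := hKN k hkK
  have hc : γ * n * γ⁻¹ * n⁻¹ ∈ N :=
    N.mul_mem (Subgroup.Normal.conj_mem inferInstance n hn γ) (N.inv_mem hn)
  have hcL : π (γ * n * γ⁻¹ * n⁻¹) ∉ L := by simpa using hxk
  have hF0 : F (γ * n * γ⁻¹ * n⁻¹) = 0 := by
    simp only [F, Average.avg]
    rw [Finset.sum_eq_zero, mul_zero]
    intro l _
    rw [hoff _ (N.mul_mem l.2.1 hc) (fun h => hcL (by
      have h2 := L.mul_mem (L.inv_mem (Subgroup.mem_comap.1 l.2.2)) h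
      rwa [map_mul, inv_mul_cancel_left] at h2)), zero_mul]
  have hF1 : F 1 = (b : ℂ) * b := hFY 1
  have hFγ : F γ = F 1 := (hFY ⟨⟨γ, hQH hxQ⟩, hxQ⟩).trans hF1.symm
  obtain ⟨d, R, hR⟩ := hF
  rw [← hR] at hF0 hF1 hFγ
  have hid : R γ = 1 := (char_eq_finrank_iff R γ).1 (hFγ.trans (Representation.char_one R))
  have hc1 : R (γ * n * γ⁻¹ * n⁻¹) = 1 := by
    have h1 : R γ⁻¹ = 1 := by
      have h2 := map_mul R γ γ⁻¹
      rw [mul_inv_cancel, map_one, hid, one_mul] at h2
      exact h2.symm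
    rw [map_mul, map_mul, map_mul, hid, h1, one_mul, mul_one, ← map_mul, mul_inv_cancel, map_one]
  have : R.character (γ * n * γ⁻¹ * n⁻¹) = R.character 1 := by
    simp only [Representation.character, hc1, map_one]
  rw [hF0, hF1, eq_comm, mul_self_eq_zero, Nat.cast_eq_zero] at this
  exact hb0.ne' this

theorem berger_aux (n : ℕ) : ∀ {G : Type u} [Group G] [Fintype G] (Z : Subgroup G) [Z.Normal],
    Z.index = n → Group.IsSolvable (G ⧸ Z) → ∀ χ : G → ℂ, Cfsg.IsIrrCharacter G χ → Homog Z χ →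
    ∀ K : Subgroup G, Z ≤ K → K ≠ ⊤ → ∀ ψ : K → ℂ, Cfsg.IsCharacter K ψ →
    Cfsg.indFun K ψ ≠ χ := by
  induction n using Nat.strong_induction_on with
  | _ n ih =>
  intro G _ _ Z _ hn hsolv χ hχ hom K₀ hZK₀ hK₀ ψ₀ hψ₀ hind₀
  classical
  obtain ⟨H, hH, hK₀H⟩ := (eq_top_or_exists_le_coatom K₀).resolve_left hK₀
  let ψ : H → ℂ := Cfsg.indFun (K₀.subgroupOf H)
    fun x => ψ₀ ⟨(x : H), Subgroup.mem_subgroupOf.mp x.2⟩
  have hψ : Cfsg.IsCharacter H ψ := isCharacter_indFun _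
    (isCharacter_comp (Subgroup.subgroupOfEquivOfLe hK₀H).toMonoidHom hψ₀)
  have hind : Cfsg.indFun H ψ = χ := (indFun_trans K₀ H hK₀H ψ₀).trans hind₀
  set L := H.normalCore with hL
  have hZL : Z ≤ L := Subgroup.normal_le_normalCore.2 (hZK₀.trans hK₀H)
  have hLH : L ≤ H := H.normalCore_le
  have hsolvL : Group.IsSolvable (G ⧸ L) := by
    haveI := hsolv
    refine Group.isSolvable_of_surjective (f := QuotientGroup.map Z L (MonoidHom.id G) hZL) fun p => ?_
    obtain ⟨g, rfl⟩ := QuotientGroup.mk_surjective p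
    exact ⟨g, rfl⟩
  obtain ⟨K, hKn, hLK, hinf, hprod, hprime, hne⟩ :=
    BergerGroup.exists_chief L H hsolvL hH hL.symm
  haveI := hKn
  obtain ⟨η, θ, a, b, f, hη, hθ, ha, hf, hKa, hinv, hoff, hηb, hψf, hbb⟩ :=
    restrictions hχ hψ hind hLK.le hLH hinf (hom K hKn (hZL.trans hLK.le))
      (hom L inferInstance hZL)
  have hHL : H ≠ L := fun h => by
    have hp := hprime h
    rw [← hbb] at hp
    rcases hp.eq_one_or_self_of_dvd b (Dvd.intro b rfl) with h1 | h1
    · rw [h1] at hp; exact Nat.not_prime_one hp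
    · have hb1 : b = 1 := Nat.eq_of_mul_eq_mul_left
        (Nat.pos_of_ne_zero fun h0 => Nat.not_prime_zero (by rwa [h0, mul_zero] at hp))
        (h1.symm.trans (mul_one b).symm)
      rw [hb1] at hp; exact Nat.not_prime_one hp
  obtain ⟨Q, hLQ, hQH, hQn, hcop, hcomm⟩ := hne hHL
  obtain ⟨d, ρ, hρ, rfl⟩ := hη
  haveI := hρ
  have hsurj := Extension.proj_surjective K ρ (ExtensionCriteria.hinv_rep K hinv)
  haveI := Extension.finite_gam K ρ
  haveI : Fintype (Extension.Gam K ρ) := Fintype.ofFinite _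
  set N : Subgroup (Extension.Gam K ρ) := (Extension.emb K ρ).range with hN
  have hΦ := GamChar.isIrr_op K ρ
  have hΦN := GamChar.isIrr_op_range K ρ
  have hne' : Cfsg.classInner (fun x : N => χ (Extension.proj K ρ x))
      (fun x : N => (Extension.op K ρ).character x) ≠ 0 := by
    have : (fun x : N => χ (Extension.proj K ρ x)) =
        (a : ℂ) • fun x : N => (Extension.op K ρ).character x := by
      funext x
      obtain ⟨m, hm⟩ := x.2
      rw [Pi.smul_apply, ← hm, GamChar.char_emb, Extension.proj_emb]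
      exact congrFun hKa m
    rw [this, classInner_smul_left, classInner_isIrr_self hΦN, mul_one]
    exact_mod_cast ha.ne'
  obtain ⟨β, hβ, hfac⟩ := Gallagher.exists_eq_prodInfl N hΦ hΦN
    (isIrr_comp (Extension.proj K ρ) hsurj hχ) hne'
  haveI : Fintype (Extension.Gam K ρ ⧸ N) := Fintype.ofFinite _
  have hNmap : N.map (Extension.proj K ρ) = K := by
    refine le_antisymm ?_ fun k hk => ⟨_, ⟨⟨k, hk⟩, rfl⟩, rfl⟩
    rintro _ ⟨_, ⟨m, rfl⟩, rfl⟩
    exact m.2
  obtain ⟨T, B, hT, hZT, hB, hBβ⟩ := exists_induced_factor (Extension.proj K ρ) hsurj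
    (Extension.ker_le_center K ρ) L K H hLK.le hLH hinf hprod Q hLQ hQH hQn hcop hcomm N
    (fun x hx => hNmap.le (Subgroup.mem_map_of_mem _ hx))
    (fun k hk => ⟨Extension.emb K ρ ⟨k, hk⟩, ⟨_, rfl⟩, rfl⟩)
    hΦ hΦN
    (by rintro _ ⟨m, rfl⟩ hm; rw [GamChar.char_emb]; exact hoff m hm)
    hθ
    (by rintro _ ⟨m, rfl⟩ hm; rw [GamChar.char_emb]; exact congrFun hηb ⟨_, hm⟩)
    hbb hψ hind hf hψf hβ hfac
  -- the kernel of the projection
  set Z' := (Extension.proj K ρ).ker.map (QuotientGroup.mk' N) with hZ'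
  haveI : Z'.Normal :=
    Subgroup.Normal.map inferInstance _ (QuotientGroup.mk'_surjective N)
  have hcomap : Z'.comap (QuotientGroup.mk' N) = K.comap (Extension.proj K ρ) := by
    conv_rhs => arg 2; rw [← hNmap]
    rw [hZ', Subgroup.comap_map_eq, QuotientGroup.ker_mk', Subgroup.comap_map_eq, sup_comm]
  have hlt : Z'.index < n := by
    rw [← Subgroup.index_comap_of_surjective Z' (QuotientGroup.mk'_surjective N), hcomap,
      Subgroup.index_comap_of_surjective K hsurj, ← hn]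
    exact Subgroup.index_strictAnti (hZL.trans_lt hLK)
  have hsolv' : Group.IsSolvable ((Extension.Gam K ρ ⧸ N) ⧸ Z') := by
    haveI := hsolvL
    have hsK : Group.IsSolvable (G ⧸ K) :=
      Group.isSolvable_of_surjective (f := QuotientGroup.map L K (MonoidHom.id G) hLK.le) fun p => by
        obtain ⟨g, rfl⟩ := QuotientGroup.mk_surjective p
        exact ⟨g, rfl⟩
    let r : G →* (Extension.Gam K ρ ⧸ N) ⧸ Z' :=
      (Extension.proj K ρ).liftOfSurjective hsurj
        ⟨(QuotientGroup.mk' Z').comp (QuotientGroup.mk' N), fun z hz => MonoidHom.mem_ker.2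
          ((QuotientGroup.eq_one_iff _).2 (Subgroup.mem_map_of_mem (QuotientGroup.mk' N) hz))⟩
    have hr : ∀ z, r (Extension.proj K ρ z) = QuotientGroup.mk' Z' (QuotientGroup.mk' N z) :=
      fun z => MonoidHom.liftOfRightInverse_comp_apply _ _ _ _ z
    refine Group.isSolvable_of_surjective (f := QuotientGroup.lift K r fun k hk => ?_) fun p => ?_
    · rw [← show Extension.proj K ρ (Extension.emb K ρ ⟨k, hk⟩) = k from rfl, MonoidHom.mem_ker,
        hr, show QuotientGroup.mk' N (Extension.emb K ρ ⟨k, hk⟩) = 1 from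
          (QuotientGroup.eq_one_iff _).2 ⟨_, rfl⟩, map_one]
    · obtain ⟨x, rfl⟩ := QuotientGroup.mk_surjective p
      obtain ⟨z, rfl⟩ := QuotientGroup.mk_surjective x
      exact ⟨(Extension.proj K ρ z : G ⧸ K), hr z⟩
  exact ih Z'.index hlt Z' rfl hsolv' β hβ
    (homog_quotient (Extension.proj K ρ) hsurj N hΦ hΦN hβ hfac hom
      ((hZL.trans hLK.le).trans hNmap.ge)) T hZT hT B hB hBβ

/-- Berger's theorem. -/
theorem berger (Z : Subgroup G) [Z.Normal] (hsolv : Group.IsSolvable (G ⧸ Z)) {χ : G → ℂ}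
    (hχ : Cfsg.IsIrrCharacter G χ) (hom : Homog Z χ) (K : Subgroup G) (hZK : Z ≤ K) (hK : K ≠ ⊤)
    {ψ : K → ℂ} (hψ : Cfsg.IsCharacter K ψ) : Cfsg.indFun K ψ ≠ χ :=
  berger_aux Z.index Z rfl hsolv χ hχ hom K hZK hK ψ hψ

end CfsgLib.CharactersDeep.Berger
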