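import Cfsg.Agent.Characters.BrauerInduction

/-!
# Brauer induction at one prime

A constant prime to `p` is an integral combination of functions induced from linear characters of
`p`-elementary subgroups.  The argument is that of `Cfsg.Agent.Characters.BrauerInduction`, keeping
track of the prime.
-/

set_option autoImplicit false
set_option linter.style.haveILetI false
set_option linter.unusedSectionVars false

namespace CfsgLib.CharactersDeep.BrauerLocal

open CfsgLib.Characters
open scoped IsMulCommutative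

universe u

variable {G : Type u} [Group G] [Fintype G]

/-- The span of the functions induced from linear characters of `p`-elementary subgroups. -/
noncomputable def pSpan (p : ℕ) (G : Type u) [Group G] [Fintype G] : AddSubgroup (G → ℂ) :=
  AddSubgroup.closure {f | ∃ (E : Subgroup G) (l : E →* ℂˣ),
    Cfsg.IsElementary p E ∧ f = Cfsg.indFun E (fun e => (l e : ℂ))}

theorem indFun_mem_pSpan {p : ℕ} (K : Subgroup G) [Fintype K] {f : K → ℂ}
    (hf : f ∈ pSpan p K) : Cfsg.indFun K f ∈ pSpan p G := by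
  induction hf using AddSubgroup.closure_induction with
  | mem f hf =>
    obtain ⟨E, l, hE, rfl⟩ := hf
    rw [indFun_indFun]
    exact AddSubgroup.subset_closure ⟨_, l.comp
      (Subgroup.equivMapOfInjective E K.subtype K.subtype_injective).symm.toMonoidHom,
      isElementary_of_mulEquiv
        (Subgroup.equivMapOfInjective E K.subtype K.subtype_injective) hE, rfl⟩
  | zero => rw [indFun_zero]; exact zero_mem _
  | add a b _ _ ha hb => rw [indFun_add]; exact add_mem ha hb
  | neg a _ ha =>
    rw [show -a = (0 : K → ℂ) - a from (zero_sub a).symm, indFun_sub, indFun_zero, zero_sub]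
    exact neg_mem ha

theorem linear_mem_pSpan {p : ℕ} (hp : p.Prime) (hG : IsQuasiElementary p G) (l : G →* ℂˣ)
    (hnl : ∀ χ : Cfsg.IrrCharacter G, (χ : G → ℂ) 1 ≠ 1 → (χ : G → ℂ) ∈ pSpan p G) :
    (fun g => (l g : ℂ)) ∈ pSpan p G := by
  classical
  haveI := Fact.mk hp
  have hG' := hG
  obtain ⟨x, hn, hcop, k, hk⟩ := hG
  haveI := hn
  set C := Subgroup.zpowers x
  obtain ⟨P⟩ : Nonempty (Sylow p G) := inferInstance
  set D := C ⊓ Subgroup.centralizer ((P : Subgroup G) : Set G)
  have hDC : D ≤ C := inf_le_left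
  obtain ⟨y, hy⟩ : ∃ y, Subgroup.zpowers y = D := by
    haveI : IsCyclic D := isCyclic_of_injective (Subgroup.inclusion hDC)
      (Subgroup.inclusion_injective hDC)
    obtain ⟨d, hd⟩ := IsCyclic.exists_generator (α := D)
    refine ⟨d, le_antisymm (Subgroup.zpowers_le.2 d.2) fun z hz => ?_⟩
    obtain ⟨i, hi⟩ := Subgroup.mem_zpowers_iff.1 (hd ⟨z, hz⟩)
    exact ⟨i, congrArg Subtype.val hi⟩
  haveI hDn : D.Normal := by
    refine ⟨fun d hd g => ?_⟩
    rw [← hy] at hd ⊢
    obtain ⟨i, hi⟩ := Subgroup.mem_zpowers_iff.1 (hDC (hy ▸ Subgroup.mem_zpowers y) : y ∈ C)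
    obtain ⟨j, hj⟩ := Subgroup.mem_zpowers_iff.1 (hn.conj_mem x (Subgroup.mem_zpowers x) g)
    obtain ⟨r, rfl⟩ := Subgroup.mem_zpowers_iff.1 hd
    refine ⟨j * r, ?_⟩
    show y ^ (j * r) = g * y ^ r * g⁻¹
    rw [← hi, ← zpow_mul, ← zpow_mul, ← conj_zpow, ← hj, ← zpow_mul]
    congr 1
    ring
  set E := D ⊔ (P : Subgroup G)
  have hED : E ⊓ C ≤ D := by
    intro e he
    obtain ⟨d, hd, q, hq, rfl⟩ := Subgroup.mem_sup_of_normal_left.1 (Subgroup.mem_inf.1 he).1
    have hqC : q ∈ C := by
      simpa using C.mul_mem (C.inv_mem (hDC hd)) (Subgroup.mem_inf.1 he).2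
    have hq1 : q = 1 := by
      refine orderOf_eq_one_iff.1 (Nat.eq_one_of_dvd_coprimes hcop ?_ ?_ |>.trans rfl)
      · rw [← Nat.card_zpowers x]
        exact Subgroup.orderOf_dvd_natCard _ hqC
      · obtain ⟨i, hi⟩ := P.2 ⟨q, hq⟩
        have : q ^ p ^ i = 1 := congrArg Subtype.val hi
        obtain ⟨j, -, hj⟩ := (Nat.dvd_prime_pow hp).1 (orderOf_dvd_of_pow_eq_one this)
        rcases Nat.eq_zero_or_pos j with hj0 | hj0
        · rw [hj, hj0, pow_zero]; exact one_dvd _
        · exfalso
          have h1 : orderOf q ∣ orderOf x := by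
            rw [← Nat.card_zpowers x]
            exact Subgroup.orderOf_dvd_natCard _ hqC
          rw [hj] at h1
          have hp1 : p ∣ orderOf x := (dvd_pow_self p hj0.ne').trans h1
          exact hp.ne_one (Nat.eq_one_of_dvd_coprimes hcop hp1 dvd_rfl)
    rw [hq1, mul_one]
    exact hd
  have hEe : Cfsg.IsElementary p E := by
    have hyE : y ∈ E := Subgroup.mem_sup_left (hy ▸ Subgroup.mem_zpowers y)
    have hyD : y ∈ D := hy ▸ Subgroup.mem_zpowers y
    refine ⟨⟨y, hyE⟩, Subgroup.mem_center_iff.2 fun e => Subtype.ext ?_, ?_, ?_⟩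
    · obtain ⟨d, hd, q, hq, he⟩ := Subgroup.mem_sup_of_normal_left.1 e.2
      change (e : G) * y = y * e
      rw [← he]
      have h1 : d * y = y * d := by
        rw [← hy] at hd
        obtain ⟨r, rfl⟩ := Subgroup.mem_zpowers_iff.1 hd
        exact (Commute.zpow_self y r).eq
      have h2 : q * y = y * q := Subgroup.mem_centralizer_iff.1 (Subgroup.mem_inf.1 hyD).2 q hq
      rw [mul_assoc, h2, ← mul_assoc, h1, mul_assoc]
    · rw [← Subgroup.orderOf_coe]
      exact hcop.coprime_dvd_left (by
        rw [← Nat.card_zpowers x]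
        exact Subgroup.orderOf_dvd_natCard _ (hDC hyD))
    · have h1 : (Subgroup.zpowers (⟨y, hyE⟩ : E)) = C.subgroupOf E := by
        refine le_antisymm (Subgroup.zpowers_le.2 (hDC hyD)) fun e he => ?_
        have := hED (Subgroup.mem_inf.2 ⟨e.2, he⟩)
        rw [← hy] at this
        obtain ⟨r, hr⟩ := Subgroup.mem_zpowers_iff.1 this
        exact ⟨r, Subtype.ext hr⟩
      rw [h1]
      obtain ⟨i, -, hi⟩ := (Nat.dvd_prime_pow hp).1
        (hk ▸ Subgroup.relIndex_dvd_index_of_normal C E)
      exact ⟨i, hi⟩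
  -- the character induced from the restriction
  set ψ : G → ℂ := Cfsg.indFun E (fun e : E => (l e : ℂ)) with hψ
  have hψmem : ψ ∈ pSpan p G :=
    AddSubgroup.subset_closure ⟨E, l.comp E.subtype, hEe, rfl⟩
  obtain ⟨m, hm⟩ := exists_nat_coeff (isCharacter_indFun E
    (isCharacter_of_isIrr (isIrr_linChar (l.comp E.subtype))))
  let lc : Cfsg.IrrCharacter G := ⟨fun g => (l g : ℂ), isIrr_linChar l⟩
  haveI := Fintype.ofFinite E
  have hcoeff : ∀ (f : G →* ℂˣ), Cfsg.classInner ψ (fun g => (f g : ℂ)) ≠ 0 →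
      ∀ e : E, f e = l e := by
    intro f hf e
    rw [hψ, classInner_indFun E _ (isClassFunction_of_isIrr (isIrr_linChar f))] at hf
    by_contra hne
    refine hf (classInner_isIrr_ne (isIrr_linChar (l.comp E.subtype))
      (isIrr_linChar (f.comp E.subtype)) fun h => hne ?_)
    exact Units.ext (congrFun h e).symm
  have hml : m lc = 1 := by
    have h1 : Cfsg.classInner ψ (lc : G → ℂ) = 1 := by
      rw [hψ, classInner_indFun E _ (isClassFunction_of_isIrr lc.2)]
      exact classInner_isIrr_self (isIrr_linChar (l.comp E.subtype))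
    have h2 : ψ = ∑ χ, (m χ : ℂ) • (χ : G → ℂ) := hm
    rw [h2, classInner_irr_coeff] at h1
    exact_mod_cast h1
  -- a linear constituent equals `l`
  have honly : ∀ f : G →* ℂˣ, (∀ e : E, f e = l e) → f = l := by
    intro f hf
    set q : G →* ℂˣ := f * l⁻¹ with hq
    have hqE : E ≤ q.ker := fun e he => by
      rw [MonoidHom.mem_ker, hq, MonoidHom.mul_apply, MonoidHom.inv_apply, hf ⟨e, he⟩,
        mul_inv_cancel]
    have hqx : q x = 1 := by
      haveI hCc : IsMulCommutative C := ⟨⟨fun a b => by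
        obtain ⟨i, hi⟩ := Subgroup.mem_zpowers_iff.1 a.2
        obtain ⟨j, hj⟩ := Subgroup.mem_zpowers_iff.1 b.2
        exact Subtype.ext (by
          change (a : G) * b = b * a
          rw [← hi, ← hj]; exact (Commute.zpow_zpow_self x i j).eq)⟩⟩
      haveI := Fintype.ofFinite (P : Subgroup G)
      let cj : G → C →* C := fun g => (MulAut.conjNormal g).toMonoidHom
      let z : C := ∏ r : (P : Subgroup G), cj r ⟨x, Subgroup.mem_zpowers x⟩
      have hzfix : (z : G) ∈ Subgroup.centralizer ((P : Subgroup G) : Set G) := by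
        refine Subgroup.mem_centralizer_iff.2 fun r hr => ?_
        have h1 : cj r z = z := by
          simp only [z, map_prod]
          refine Fintype.prod_equiv (Equiv.mulLeft (⟨r, hr⟩ : (P : Subgroup G))) _ _ fun t => ?_
          apply Subtype.ext
          simp [cj, MulAut.conjNormal_apply, mul_assoc]
        have h2 : r * (z : G) * r⁻¹ = z := by
          simpa [cj, MulAut.conjNormal_apply] using congrArg Subtype.val h1
        calc r * (z : G) = r * z * r⁻¹ * r := by group
          _ = z * r := by rw [h2]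
      have h3 : q (z : G) = 1 :=
        MonoidHom.mem_ker.1 (hqE (Subgroup.mem_sup_left (Subgroup.mem_inf.2 ⟨z.2, hzfix⟩)))
      have h4 : q (z : G) = q x ^ Nat.card (P : Subgroup G) := by
        change (q.comp C.subtype) z = _
        rw [map_prod, Finset.prod_congr rfl (g := fun _ => q x)
          (fun t _ => by simp [cj, MulAut.conjNormal_apply]),
          Finset.prod_const, Finset.card_univ, Nat.card_eq_fintype_card]
      rw [h3] at h4
      obtain ⟨j, hj⟩ := P.2.exists_card_eq
      rw [hj] at h4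
      have h5 : orderOf (q x) = 1 := Nat.eq_one_of_dvd_coprimes (hcop.pow_right j)
        (orderOf_map_dvd q x) (orderOf_dvd_of_pow_eq_one h4.symm)
      exact orderOf_eq_one_iff.1 h5
    have htop : C ⊔ (P : Subgroup G) = ⊤ := by
      refine Subgroup.index_eq_one.1 (Nat.eq_one_of_dvd_coprimes (a := p ^ k) (b := (P : Subgroup G).index) ?_
        (hk ▸ Subgroup.index_dvd_of_le le_sup_left) (Subgroup.index_dvd_of_le le_sup_right))
      exact Nat.Coprime.pow_left k (hp.coprime_iff_not_dvd.2 P.not_dvd_index)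
    have hker : q.ker = ⊤ := by
      rw [eq_top_iff, ← htop, sup_le_iff]
      exact ⟨Subgroup.zpowers_le.2 hqx, le_sup_right.trans hqE⟩
    refine MonoidHom.ext fun g => ?_
    have hg : q g = 1 := MonoidHom.mem_ker.1 (hker ▸ Subgroup.mem_top g)
    rwa [hq, MonoidHom.mul_apply, MonoidHom.inv_apply, mul_inv_eq_one] at hg
  have hsplit : (fun g => (l g : ℂ)) =
      ψ - ∑ χ ∈ Finset.univ.erase lc, (m χ : ℂ) • (χ : G → ℂ) := by
    have h2 : ψ = ∑ χ, (m χ : ℂ) • (χ : G → ℂ) := hm
    rw [h2, ← Finset.add_sum_erase _ _ (Finset.mem_univ lc), hml, Nat.cast_one, one_smul,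
      add_sub_cancel_right]
  rw [hsplit]
  refine sub_mem hψmem (sum_mem fun χ hχ => ?_)
  by_cases hm0 : m χ = 0
  · rw [hm0, Nat.cast_zero, zero_smul]; exact zero_mem _
  rw [Nat.cast_smul_eq_nsmul]
  refine nsmul_mem (hnl χ fun h1 => ?_) _
  obtain ⟨f, hf⟩ := exists_hom_of_degree_one (isCharacter_of_isIrr χ.2) h1
  have hfl : f = l := honly f (hcoeff f (by
    have h2 : ψ = ∑ χ, (m χ : ℂ) • (χ : G → ℂ) := hm
    rw [h2, ← hf, classInner_irr_coeff]
    exact_mod_cast hm0))
  exact Finset.ne_of_mem_erase hχ (Subtype.ext (hf.trans (by rw [hfl])))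

theorem quasiElementary_mem_pSpan {p : ℕ} (hp : p.Prime) (n : ℕ) :
    ∀ (G : Type u) [Group G] [Fintype G], Nat.card G = n → IsQuasiElementary p G →
      ∀ χ : G → ℂ, Cfsg.IsCharacter G χ → χ ∈ pSpan p G := by
  induction n using Nat.strong_induction_on with
  | _ n ih =>
    intro G _ _ hcard hG χ hχ
    have hnl : ∀ ψ : Cfsg.IrrCharacter G, (ψ : G → ℂ) 1 ≠ 1 → (ψ : G → ℂ) ∈ pSpan p G := by
      intro ψ h1
      obtain ⟨T, η, hT, hη, heq⟩ := exists_induced_of_quasiElementary hp hG ψ.2 h1
      haveI := Fintype.ofFinite T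
      rw [heq]
      refine indFun_mem_pSpan T (ih (Nat.card T) ?_ T rfl (isQuasiElementary_subgroup hp T hG) η hη)
      rw [← hcard]
      exact lt_of_le_of_ne (Subgroup.card_le_card_group T) fun h => hT (Subgroup.eq_top_of_card_eq T h)
    obtain ⟨c, rfl⟩ := exists_nat_coeff hχ
    refine sum_mem fun ψ _ => ?_
    rw [Nat.cast_smul_eq_nsmul]
    refine nsmul_mem ?_ _
    by_cases h1 : (ψ : G → ℂ) 1 = 1
    · obtain ⟨f, hf⟩ := exists_hom_of_degree_one (isCharacter_of_isIrr ψ.2) h1
      rw [hf]
      exact linear_mem_pSpan hp hG f hnl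
    · exact hnl ψ h1

/-- A constant prime to `p` in the span at `p`. -/
theorem exists_const_mem_pSpan (p : ℕ) (hp : p.Prime) :
    ∃ m : ℤ, ¬ (p : ℤ) ∣ m ∧ (fun _ : G => (m : ℂ)) ∈ pSpan p G := by
  classical
  obtain ⟨m, hm, hmem⟩ := exists_const_mem_qeSpan (G := G) p hp
  refine ⟨m, hm, ?_⟩
  have key : ∀ f ∈ qeSpan (G := G) (· = p), (fun g => (f g : ℂ)) ∈ pSpan p G := by
    intro f hf
    induction hf using AddSubgroup.closure_induction with
    | mem f hf =>
      obtain ⟨H, ⟨q, hq, rfl, hH⟩, rfl⟩ := hf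
      haveI := Fintype.ofFinite H
      have h : (fun g => (cosetFix H g : ℂ)) = Cfsg.indFun H (fun _ : H => 1) :=
        funext fun g => cosetFix_eq_indFun H g
      rw [h]
      exact indFun_mem_pSpan H
        (quasiElementary_mem_pSpan hq _ H rfl hH _ isCharacter_one)
    | zero =>
      convert! zero_mem (pSpan p G) using 1
      funext g; simp
    | add a b _ _ ha hb =>
      convert! add_mem ha hb using 1
      funext g; simp
    | neg a _ ha =>
      convert! neg_mem ha using 1
      funext g; simp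
  exact key _ hmem

end CfsgLib.CharactersDeep.BrauerLocal
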