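import Cfsg.Agent.CharactersDeep.BrauerLocal
import Cfsg.Agent.CharactersDeep.Clifford
import Cfsg.Agent.BlocksCharsC.InvariantIrr

/-!
# Dade: detection of an invariant character on a `p`-elementary subgroup

If `N` is normal of `p`-power index and `ϑ` is an invariant irreducible character of `N`, some
`p`-elementary `E` with `E ⊔ N = ⊤` has an `E`-invariant irreducible character of `E ⊓ N` whose
multiplicity in the restriction of `ϑ` is prime to `p`.
-/

set_option autoImplicit false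
set_option linter.style.haveILetI false
set_option linter.unusedSectionVars false
set_option linter.unusedSimpArgs false

namespace CfsgLib.CharactersDeep.Dade

open CfsgLib.Characters
open scoped ComplexConjugate

universe u

variable {G : Type u} [Group G] [Fintype G]

/-- A function on `N` restricted to the trace of a subgroup. -/
def res (N : Subgroup G) (ϑ : N → ℂ) (E : Subgroup G) : N.subgroupOf E → ℂ :=
  fun d => ϑ ⟨((d : E) : G), Subgroup.mem_subgroupOf.1 d.2⟩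

/-- The inclusion of the trace of a subgroup in `N`. -/
def incl (N : Subgroup G) (E : Subgroup G) : N.subgroupOf E →* N where
  toFun d := ⟨((d : E) : G), Subgroup.mem_subgroupOf.1 d.2⟩
  map_one' := rfl
  map_mul' _ _ := rfl

variable (N : Subgroup G) [hN : N.Normal] [Fintype N]

theorem isCharacter_res {ϑ : N → ℂ} (hϑ : Cfsg.IsCharacter N ϑ) (E : Subgroup G) :
    Cfsg.IsCharacter (N.subgroupOf E) (res N ϑ E) :=
  isCharacter_comp (incl N E) hϑ

/-- The pairing of `ϑ` times a monomial character with `ϑ`. -/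
theorem twisted_sum {ϑ : N → ℂ}
    (hinv : ∀ (g : G) (n : N), ϑ ⟨g * n * g⁻¹, hN.conj_mem (n : G) n.2 g⟩ = ϑ n)
    (E : Subgroup G) [Fintype (N.subgroupOf E)] (l : E →* ℂˣ) :
    (Nat.card N : ℂ)⁻¹ *
        ∑ n : N, ϑ n * conj (ϑ n) * Cfsg.indFun E (fun e => (l e : ℂ)) (n : G) =
      ((E ⊔ N).index : ℂ) *
        Cfsg.classInner (fun d : N.subgroupOf E => (l (d : E) : ℂ) * res N ϑ E d) (res N ϑ E) := by
  classical
  set w : N → ℂ := fun n => ϑ n * conj (ϑ n) with hw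
  set L : G → ℂ := Cfsg.extendByZero E (fun e => (l e : ℂ)) with hL
  have hx : ∀ x : G, ∑ n : N, w n * L (x⁻¹ * n * x) = ∑ n : N, w n * L n := by
    intro x
    refine Fintype.sum_equiv (MulAut.conjNormal (H := N) x⁻¹).toEquiv _ _ fun n => ?_
    have hc : ((MulAut.conjNormal (H := N) x⁻¹ n : N) : G) = x⁻¹ * n * x := by
      simp [MulAut.conjNormal_apply]
    have hwi : w (MulAut.conjNormal (H := N) x⁻¹ n) = w n := by
      have h := hinv x⁻¹ n
      simp only [hw]
      rw [show (MulAut.conjNormal (H := N) x⁻¹ n : N) =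
        ⟨x⁻¹ * n * x⁻¹⁻¹, hN.conj_mem (n : G) n.2 x⁻¹⟩ from
        Subtype.ext (by simp [hc]), h]
    simp only [MulEquiv.toEquiv_eq_coe, MulEquiv.coe_toEquiv]
    rw [hwi, hc]
  have htr : ∑ n : N, w n * L n =
      ∑ d : N.subgroupOf E, w (incl N E d) * (l (d : E) : ℂ) := by
    refine (Fintype.sum_of_injective (fun d => incl N E d) ?_ _ _ ?_ ?_).symm
    · intro a b h
      exact Subtype.ext (Subtype.ext (congrArg Subtype.val h : _))
    · intro n hn
      have hnE : (n : G) ∉ E := fun h =>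
        hn ⟨⟨⟨n, h⟩, Subgroup.mem_subgroupOf.2 n.2⟩, Subtype.ext rfl⟩
      rw [hL, extendByZero_of_not_mem _ _ hnE, mul_zero]
    · intro d
      rw [hL, extendByZero_of_mem E (fun e => (l e : ℂ))
        (show ((incl N E d : N) : G) ∈ E from (d : E).2)]
      rfl
  have hsum : ∑ n : N, ϑ n * conj (ϑ n) * Cfsg.indFun E (fun e => (l e : ℂ)) (n : G) =
      (Nat.card E : ℂ)⁻¹ * ((Nat.card G : ℂ) *
        ∑ d : N.subgroupOf E, w (incl N E d) * (l (d : E) : ℂ)) := by
    calc ∑ n : N, ϑ n * conj (ϑ n) * Cfsg.indFun E (fun e => (l e : ℂ)) (n : G)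
        = (Nat.card E : ℂ)⁻¹ * ∑ x : G, ∑ n : N, w n * L (x⁻¹ * n * x) := by
          simp only [Cfsg.indFun, hw, hL, Finset.mul_sum]
          rw [Finset.sum_comm]
          exact Finset.sum_congr rfl fun x _ => Finset.sum_congr rfl fun n _ => by ring
      _ = _ := by
          rw [Finset.sum_congr rfl fun x _ => hx x, Finset.sum_const, Finset.card_univ,
            nsmul_eq_mul, htr, Fintype.card_eq_nat_card]
  rw [hsum, Cfsg.classInner]
  have h1 : Nat.card (N.subgroupOf E) * N.relIndex E = Nat.card E :=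
    (N.subgroupOf E).card_mul_index
  have h2 : N.index * Nat.card N = Nat.card G := by rw [mul_comm]; exact N.card_mul_index
  have h3 : N.relIndex E * (E ⊔ N).index = N.index := by
    have h := Subgroup.relIndex_mul_index (le_sup_right : N ≤ E ⊔ N)
    rwa [Subgroup.relIndex_sup_right] at h
  have hr0 : (N.relIndex E : ℂ) ≠ 0 := by
    refine Nat.cast_ne_zero.2 fun h0 => ?_
    rw [h0, mul_zero] at h1
    exact Nat.card_pos.ne h1
  have hN0 : (Nat.card N : ℂ) ≠ 0 := Nat.cast_ne_zero.2 Nat.card_pos.ne'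
  have hD0 : (Nat.card (N.subgroupOf E) : ℂ) ≠ 0 := Nat.cast_ne_zero.2 Nat.card_pos.ne'
  rw [← h1, ← h2, ← h3]
  push_cast
  rw [Finset.sum_congr rfl (g := fun d => w (incl N E d) * (l (d : E) : ℂ))
    (s₁ := Finset.univ) (f := fun d : N.subgroupOf E =>
      (l (d : E) : ℂ) * res N ϑ E d * conj (res N ϑ E d))
    fun d _ => by simp only [hw, res, incl, MonoidHom.coe_mk, OneHom.coe_mk]; ring]
  field_simp

/-- The fixed constituent with multiplicity prime to `p`. -/
theorem exists_constituent {p : ℕ} [hp : Fact p.Prime] {ϑ : N → ℂ} (hϑ : Cfsg.IsCharacter N ϑ)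
    (hinv : ∀ (g : G) (n : N), ϑ ⟨g * n * g⁻¹, hN.conj_mem (n : G) n.2 g⟩ = ϑ n)
    (E : Subgroup G) [Fintype (N.subgroupOf E)] (hpow : ∃ k : ℕ, N.index = p ^ k) (l : E →* ℂˣ)
    {s : ℕ} (hs : Cfsg.classInner (fun d : N.subgroupOf E => (l (d : E) : ℂ) * res N ϑ E d) (res N ϑ E) = s)
    (hps : ¬ p ∣ s) :
    ∃ χ : Cfsg.IrrCharacter (N.subgroupOf E),
      (∀ (e : E) (d : N.subgroupOf E), (χ : N.subgroupOf E → ℂ)
        ⟨e * d * e⁻¹, (Subgroup.normal_subgroupOf (H := E) (N := N)).conj_mem _ d.2 e⟩ =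
          (χ : N.subgroupOf E → ℂ) d) ∧
      ∃ m : ℕ, ¬ p ∣ m ∧ Cfsg.classInner (res N ϑ E) (χ : N.subgroupOf E → ℂ) = m := by
  classical
  haveI hDn : (N.subgroupOf E).Normal := Subgroup.normal_subgroupOf
  set ψ := res N ϑ E with hψ
  set lψ : (N.subgroupOf E) → ℂ := fun d => (l (d : E) : ℂ) * ψ d with hlψ
  have hψc : Cfsg.IsCharacter (N.subgroupOf E) ψ := isCharacter_res N hϑ E
  have hlc : Cfsg.IsCharacter (N.subgroupOf E) lψ :=
    isCharacter_mul (isCharacter_of_isIrr (isIrr_linChar (l.comp (N.subgroupOf E).subtype))) hψc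
  obtain ⟨c, hc⟩ := exists_nat_coeff hψc
  obtain ⟨d, hd⟩ := exists_nat_coeff hlc
  have hcc : ∀ χ : Cfsg.IrrCharacter (N.subgroupOf E), Cfsg.classInner ψ (χ : (N.subgroupOf E) → ℂ) = c χ := fun χ => by
    rw [hc, classInner_irr_coeff]
  have hdd : ∀ χ : Cfsg.IrrCharacter (N.subgroupOf E), Cfsg.classInner lψ (χ : (N.subgroupOf E) → ℂ) = d χ := fun χ => by
    rw [hd, classInner_irr_coeff]
  have hsum : s = ∑ χ, d χ * c χ := by
    apply Nat.cast_injective (R := ℂ)
    rw [← hs]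
    push_cast
    conv_lhs => rw [hd]
    rw [classInner_sum_left]
    refine Finset.sum_congr rfl fun χ _ => ?_
    rw [classInner_smul_left, classInner_conj_symm ψ, hcc, Complex.conj_natCast]
  letI : MulAction E (Cfsg.IrrCharacter (N.subgroupOf E)) := CfsgLib.BlocksCharsC.irrConjAction (N.subgroupOf E)
  have hsmul : ∀ (e : E) (χ : Cfsg.IrrCharacter (N.subgroupOf E)) (x : (N.subgroupOf E)),
      (e • χ : Cfsg.IrrCharacter (N.subgroupOf E)).1 x = χ.1 (MulAut.conjNormal (H := (N.subgroupOf E)) e⁻¹ x) := fun e χ x =>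
    congrArg χ.1 (Subtype.ext (by simp [MulAut.conjNormal_apply]))
  have hψi : ∀ (e : E) (x : (N.subgroupOf E)), ψ (MulAut.conjNormal (H := (N.subgroupOf E)) e x) = ψ x := by
    intro e x
    have h := hinv (e : G) (incl N E x)
    simp only [hψ, res]
    refine Eq.trans (congrArg ϑ (Subtype.ext ?_)) h
    simp [MulAut.conjNormal_apply, incl]
  have hlψi : ∀ (e : E) (x : (N.subgroupOf E)), lψ (MulAut.conjNormal (H := (N.subgroupOf E)) e x) = lψ x := by
    intro e x
    simp only [hlψ, hψi]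
    congr 2
    simp [MulAut.conjNormal_apply, mul_comm]
  have hinner : ∀ (F : (N.subgroupOf E) → ℂ), (∀ (e : E) (x : (N.subgroupOf E)), F (MulAut.conjNormal (H := (N.subgroupOf E)) e x) = F x) →
      ∀ (e : E) (χ : Cfsg.IrrCharacter (N.subgroupOf E)),
        Cfsg.classInner F (e • χ : Cfsg.IrrCharacter (N.subgroupOf E)).1 = Cfsg.classInner F χ.1 := by
    intro F hF e χ
    conv_rhs => rw [← Clifford.classInner_comp_equiv (MulAut.conjNormal (H := (N.subgroupOf E)) e⁻¹) F χ.1]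
    congr 1
    · funext x; rw [hF]
    · funext x; exact hsmul e χ x
  obtain ⟨Q⟩ : Nonempty (Sylow p E) := inferInstance
  set f : Cfsg.IrrCharacter (N.subgroupOf E) → ℤ := fun χ => ((d χ * c χ : ℕ) : ℤ) with hf
  have hfi : ∀ (g : (Q : Subgroup E)) (χ : Cfsg.IrrCharacter (N.subgroupOf E)), f (g • χ) = f χ := by
    intro g χ
    have h1 : c ((g : E) • χ) = c χ :=
      Nat.cast_injective (R := ℂ) (by rw [← hcc, ← hcc]; exact hinner ψ hψi g χ)
    have h2 : d ((g : E) • χ) = d χ :=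
      Nat.cast_injective (R := ℂ) (by rw [← hdd, ← hdd]; exact hinner lψ hlψi g χ)
    show ((d ((g : E) • χ) * c ((g : E) • χ) : ℕ) : ℤ) = _
    rw [h1, h2]
  have hdiv := CfsgLib.BlocksCharsC.dvd_sum_sub_sum_fixed (p := p) Q.isPGroup' f hfi
  obtain ⟨χ, hχfix, hχp⟩ : ∃ χ, χ ∈ MulAction.fixedPoints (Q : Subgroup E) (Cfsg.IrrCharacter (N.subgroupOf E)) ∧
      ¬ p ∣ c χ := by
    by_contra hcon
    push Not at hcon
    refine hps (Int.natCast_dvd_natCast.1 ?_)
    have h2 : (p : ℤ) ∣ ∑ χ ∈ Finset.univ.filter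
        (fun χ => χ ∈ MulAction.fixedPoints (Q : Subgroup E) (Cfsg.IrrCharacter (N.subgroupOf E))), f χ :=
      Finset.dvd_sum fun χ hχ => Int.natCast_dvd_natCast.2
        (Dvd.dvd.mul_left (hcon χ (Finset.mem_filter.1 hχ).2) _)
    have h3 := dvd_add hdiv h2
    rw [sub_add_cancel] at h3
    rw [hsum, Nat.cast_sum]
    exact h3
  refine ⟨χ, ?_, c χ, hχp, hcc χ⟩
  have htop : (N.subgroupOf E) ⊔ (Q : Subgroup E) = ⊤ := by
    obtain ⟨k, hk⟩ := hpow
    refine Subgroup.index_eq_one.1 (Nat.eq_one_of_dvd_coprimes (a := p ^ k)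
      (b := (Q : Subgroup E).index) ?_ ?_ (Subgroup.index_dvd_of_le le_sup_right))
    · exact Nat.Coprime.pow_left k (hp.out.coprime_iff_not_dvd.2 Q.not_dvd_index)
    · exact (Subgroup.index_dvd_of_le le_sup_left).trans
        (hk ▸ Subgroup.relIndex_dvd_index_of_normal N E)
  have hall : ∀ e : E, e • χ = χ := by
    intro e
    have he : e ∈ (N.subgroupOf E) ⊔ (Q : Subgroup E) := htop ▸ Subgroup.mem_top e
    obtain ⟨a, ha, q, hq, rfl⟩ := Subgroup.mem_sup_of_normal_left.1 he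
    rw [mul_smul, show q • χ = χ from hχfix ⟨q, hq⟩]
    refine Subtype.ext (funext fun x => ?_)
    rw [hsmul]
    have := (isClassFunction_of_isIrr χ.2) x (⟨a, ha⟩ : (N.subgroupOf E))⁻¹
    rw [← this]
    exact congrArg χ.1 (Subtype.ext (by simp [MulAut.conjNormal_apply]))
  intro e x
  have h := congrArg (fun t : Cfsg.IrrCharacter (N.subgroupOf E) => t.1 x) (hall e⁻¹)
  simp only [hsmul, inv_inv] at h
  rw [← h]
  exact congrArg χ.1 (Subtype.ext (by simp [MulAut.conjNormal_apply]))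

/-- Dade's detection theorem, on the trace inside `E`. -/
theorem detection {p : ℕ} [hp : Fact p.Prime] (hpow : ∃ k : ℕ, N.index = p ^ k) {ϑ : N → ℂ}
    (hϑ : Cfsg.IsIrrCharacter N ϑ)
    (hinv : ∀ (g : G) (n : N), ϑ ⟨g * n * g⁻¹, hN.conj_mem (n : G) n.2 g⟩ = ϑ n) :
    ∃ (E : Subgroup G) (l : E →* ℂˣ), Cfsg.IsElementary p E ∧ E ⊔ N = ⊤ ∧
      ∀ [Fintype (N.subgroupOf E)], ∃ s : ℕ, ¬ p ∣ s ∧
        Cfsg.classInner (fun d : N.subgroupOf E => (l (d : E) : ℂ) * res N ϑ E d) (res N ϑ E) = s := by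
  classical
  by_contra hcon
  obtain ⟨m, hm, hmem⟩ := BrauerLocal.exists_const_mem_pSpan (G := G) p hp.out
  set Φ : (G → ℂ) → ℂ := fun f =>
    (Nat.card N : ℂ)⁻¹ * ∑ n : N, ϑ n * conj (ϑ n) * f (n : G) with hΦ
  have hadd : ∀ a b, Φ (a + b) = Φ a + Φ b := fun a b => by
    simp only [hΦ, Pi.add_apply, mul_add, Finset.sum_add_distrib]
  have hneg : ∀ a, Φ (-a) = -Φ a := fun a => by
    simp only [hΦ, Pi.neg_apply, mul_neg, Finset.sum_neg_distrib]
  have key : ∀ f ∈ BrauerLocal.pSpan p G, ∃ z : ℤ, Φ f = (p : ℂ) * z := by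
    intro f hf
    induction hf using AddSubgroup.closure_induction with
    | mem f hf =>
      obtain ⟨E, l, hE, rfl⟩ := hf
      haveI : Fintype (N.subgroupOf E) := Fintype.ofFinite _
      have hval : Φ (Cfsg.indFun E fun e => (l e : ℂ)) = ((E ⊔ N).index : ℂ) *
          Cfsg.classInner (fun d : N.subgroupOf E => (l (d : E) : ℂ) * res N ϑ E d) (res N ϑ E) :=
        twisted_sum N hinv E l
      have hψc := isCharacter_res N (isCharacter_of_isIrr hϑ) E
      obtain ⟨s, hs⟩ := classInner_characters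
        (isCharacter_mul (isCharacter_of_isIrr (isIrr_linChar (l.comp (N.subgroupOf E).subtype))) hψc)
        hψc
      have hs' : Cfsg.classInner (fun d : N.subgroupOf E => (l (d : E) : ℂ) * res N ϑ E d) (res N ϑ E) = s := hs
      rw [hval, hs']
      obtain ⟨k, hk⟩ := hpow
      obtain ⟨j, -, hj⟩ := (Nat.dvd_prime_pow hp.out).1
        (hk ▸ Subgroup.index_dvd_of_le (le_sup_right : N ≤ E ⊔ N))
      cases j with
      | succ j => exact ⟨(p : ℤ) ^ j * s, by rw [hj]; push_cast; ring⟩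
      | zero =>
        by_cases hps : p ∣ s
        · obtain ⟨t, rfl⟩ := hps
          exact ⟨t, by rw [hj]; push_cast; ring⟩
        · refine absurd ⟨E, l, hE, Subgroup.index_eq_one.1 hj, ?_⟩ hcon
          intro inst
          refine ⟨s, hps, ?_⟩
          convert hs' using 2
    | zero => exact ⟨0, by simp [hΦ]⟩
    | add a b _ _ ha hb =>
      obtain ⟨x, hx⟩ := ha
      obtain ⟨y, hy⟩ := hb
      exact ⟨x + y, by rw [hadd, hx, hy]; push_cast; ring⟩
    | neg a _ ha =>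
      obtain ⟨x, hx⟩ := ha
      exact ⟨-x, by rw [hneg, hx]; push_cast; ring⟩
  obtain ⟨z, hz⟩ := key _ hmem
  refine hm ⟨z, ?_⟩
  have h1 := classInner_isIrr_self hϑ
  rw [Cfsg.classInner] at h1
  have h2 : (m : ℂ) = (p : ℂ) * z := by
    rw [← hz, hΦ]
    simp only
    rw [← Finset.sum_mul, ← mul_assoc, h1, one_mul]
  exact_mod_cast h2

/-- Dade's detection theorem, with the inner product written on `E ⊓ N`. -/
theorem detection_inf {p : ℕ} [hp : Fact p.Prime] (hpow : ∃ k : ℕ, N.index = p ^ k) {ϑ : N → ℂ}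
    (hϑ : Cfsg.IsIrrCharacter N ϑ)
    (hinv : ∀ (g : G) (n : N), ϑ ⟨g * n * g⁻¹, hN.conj_mem (n : G) n.2 g⟩ = ϑ n) :
    ∃ (E : Subgroup G) (φ : ↥(E ⊓ N) → ℂ), Cfsg.IsElementary p E ∧ E ⊔ N = ⊤ ∧
      Cfsg.IsIrrCharacter ↥(E ⊓ N) φ ∧
      (∀ (g : G) (hg : g ∈ E) (x : ↥(E ⊓ N)),
        φ ⟨g * x * g⁻¹, ⟨(E.mul_mem (E.mul_mem hg x.2.1) (E.inv_mem hg)),
          hN.conj_mem (x : G) x.2.2 g⟩⟩ = φ x) ∧
      ∃ m : ℕ, ¬ p ∣ m ∧ (Nat.card ↥(E ⊓ N) : ℂ)⁻¹ *
        ∑ᶠ x : ↥(E ⊓ N), ϑ ⟨(x : G), x.2.2⟩ * conj (φ x) = (m : ℂ) := by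
  classical
  obtain ⟨E, l, hE, htop, h⟩ := detection N hpow hϑ hinv
  haveI : Fintype (N.subgroupOf E) := Fintype.ofFinite _
  obtain ⟨s, hps, hs⟩ := h
  obtain ⟨χ, hχi, m, hm, hmv⟩ :=
    exists_constituent N (isCharacter_of_isIrr hϑ) hinv E hpow l hs hps
  let e : ↥(E ⊓ N) ≃* N.subgroupOf E :=
    { toFun := fun x => ⟨⟨x.1, x.2.1⟩, Subgroup.mem_subgroupOf.2 x.2.2⟩
      invFun := fun d => ⟨((d : E) : G), (d : E).2, Subgroup.mem_subgroupOf.1 d.2⟩
      left_inv := fun x => rfl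
      right_inv := fun d => rfl
      map_mul' := fun a b => rfl }
  refine ⟨E, fun x => χ.1 (e x), hE, htop, isIrr_comp e.toMonoidHom e.surjective χ.2, ?_, m, hm, ?_⟩
  · intro g hg x
    exact hχi ⟨g, hg⟩ (e x)
  · haveI : Fintype ↥(E ⊓ N) := Fintype.ofFinite _
    rw [finsum_eq_sum_of_fintype, ← hmv, ← Clifford.classInner_comp_equiv e]
    rfl

end CfsgLib.CharactersDeep.Dade
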