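import Cfsg.Agent.Characters.GL23.Count
import Cfsg.Agent.Characters.Induction
import Cfsg.Agent.Characters.Linear
import Mathlib.Algebra.Group.Int.Units
import Mathlib.NumberTheory.Divisors

/-!
# Perfect groups with an involution centralizer that is dihedral of order eight

`X = C \ {1}`, for `C` cyclic of order four in the centralizer `D`, is a trivial intersection set
with normaliser `D`.  Inducing the two generalised characters `1 - λ` of `C` gives the values of
the irreducible characters at the involution; counting products of two involutions gives the order.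
-/

set_option autoImplicit false
set_option linter.unusedSectionVars false
set_option linter.style.haveILetI false

namespace CfsgLib.CharactersDeep.DihedralEightCentralizer

open CfsgLib.Characters
open scoped ComplexConjugate

universe u

variable {G : Type u} [Group G] [Fintype G]

/-- The configuration: `r` of order four, `C(r²)` of order eight, `s` inverting `r`. -/
structure Config (r s : G) : Prop where
  ord : orderOf r = 4
  card : Nat.card (Subgroup.centralizer ({r * r} : Set G)) = 8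
  cent : ∀ g : G, g * r = r * g → g ∈ Subgroup.zpowers r
  flip : s * r * s⁻¹ = r⁻¹

variable {r s : G} (T : Config r s)

local notation "C" => Subgroup.zpowers r
local notation "D" => Subgroup.centralizer ({r * r} : Set G)

/-- The generator of `C`. -/
def gen : C := ⟨r, Subgroup.mem_zpowers r⟩

theorem forall_gen (x : C) : x ∈ Subgroup.zpowers (gen : C) := by
  obtain ⟨k, hk⟩ := Subgroup.mem_zpowers_iff.1 x.2
  exact Subgroup.mem_zpowers_iff.2 ⟨k, Subtype.ext (by simpa [gen] using hk)⟩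

namespace Config

include T

theorem card_C : Nat.card C = 4 := by rw [Nat.card_zpowers, T.ord]

theorem pow_four : r ^ 4 = 1 := T.ord ▸ pow_orderOf_eq_one r

theorem rr_ne_one : r * r ≠ 1 := fun h =>
  pow_ne_one_of_lt_orderOf (n := 2) two_ne_zero (by rw [T.ord]; norm_num) (by rw [pow_two, h])

theorem inv_rr : (r * r)⁻¹ = r * r := inv_eq_of_mul_eq_one_right (by
  rw [← T.pow_four]; simp only [pow_succ, pow_zero, one_mul, mul_assoc])

theorem C_le : C ≤ D := Subgroup.zpowers_le.2 (Subgroup.mem_centralizer_singleton_iff.2 (by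
  simp only [mul_assoc]))

theorem s_mem : s ∈ D := by
  rw [Subgroup.mem_centralizer_singleton_iff, ← mul_inv_eq_iff_eq_mul]
  rw [show s * (r * r) * s⁻¹ = (s * r * s⁻¹) * (s * r * s⁻¹) by group, T.flip, ← mul_inv_rev,
    T.inv_rr]

theorem s_not_mem : s ∉ C := by
  intro h
  obtain ⟨k, rfl⟩ := Subgroup.mem_zpowers_iff.1 h
  have hf := T.flip
  rw [((Commute.refl r).zpow_left k).eq, mul_inv_cancel_right] at hf
  exact T.rr_ne_one (by nth_rw 2 [hf]; exact mul_inv_cancel r)

theorem eq_s_mul {g : G} (hg : g ∈ D) (hgC : g ∉ C) : s⁻¹ * g ∈ C := by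
  have hindex : ((C).subgroupOf D).index = 2 := by
    have h := Subgroup.card_mul_index ((C).subgroupOf D)
    rw [Nat.card_congr (Subgroup.subgroupOfEquivOfLe T.C_le).toEquiv, T.card_C, T.card] at h
    omega
  have h := Subgroup.mul_mem_iff_of_index_two hindex (a := (⟨s⁻¹, inv_mem T.s_mem⟩ : D))
    (b := ⟨g, hg⟩)
  simp only [Subgroup.mem_subgroupOf] at h
  exact h.2 ⟨fun h' => absurd (inv_mem_iff.1 h') T.s_not_mem, fun h' => absurd h' hgC⟩

theorem conj_flip {g : G} (hg : g ∈ D) (hgC : g ∉ C) {x : G} (hx : x ∈ C) :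
    g⁻¹ * x * g = x⁻¹ := by
  obtain ⟨k, rfl⟩ := Subgroup.mem_zpowers_iff.1 hx
  obtain ⟨j, hj⟩ := Subgroup.mem_zpowers_iff.1 (T.eq_s_mul hg hgC)
  have hg' : g = s * r ^ j := by rw [hj, mul_inv_cancel_left]
  have h1 : s⁻¹ * r * s = r⁻¹ := by
    have h := congrArg (fun u => (s⁻¹ * u * s)⁻¹) T.flip
    simpa [mul_assoc] using h.symm
  have h2 : s⁻¹ * r ^ k * s = (r ^ k)⁻¹ := by
    rw [show s⁻¹ * r ^ k * s = (s⁻¹ * r * s) ^ k from ?_, h1, inv_zpow]
    rw [show s⁻¹ * r * s = s⁻¹ * r * (s⁻¹)⁻¹ by group, conj_zpow]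
    group
  rw [hg', show (s * r ^ j)⁻¹ * r ^ k * (s * r ^ j) = (r ^ j)⁻¹ * (s⁻¹ * r ^ k * s) * r ^ j by group,
    h2]
  group

theorem conj_fix {g x : G} (hg : g ∈ C) (hx : x ∈ C) : g⁻¹ * x * g = x := by
  obtain ⟨k, rfl⟩ := Subgroup.mem_zpowers_iff.1 hx
  obtain ⟨j, rfl⟩ := Subgroup.mem_zpowers_iff.1 hg
  group

/-- The elements of `C`. -/
theorem mem_C_cases {x : G} (hx : x ∈ C) :
    x = 1 ∨ x = r ∨ x = r * r ∨ x = r⁻¹ := by
  classical
  have hr : IsOfFinOrder r := isOfFinOrder_of_finite r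
  rw [← mem_powers_iff_mem_zpowers, hr.mem_powers_iff_mem_range_orderOf, T.ord,
    Finset.mem_image] at hx
  obtain ⟨k, hk, rfl⟩ := hx
  rw [Finset.mem_range] at hk
  interval_cases k
  · left; simp
  · right; left; simp
  · right; right; left; exact pow_two r
  · right; right; right
    exact eq_inv_of_mul_eq_one_left (by rw [← pow_succ, T.pow_four])

/-- `C \ {1}` is a trivial intersection set with normaliser `D`. -/
theorem mem_D_of_conj {x g : G} (hx : x ∈ C) (hx1 : x ≠ 1) (h : g⁻¹ * x * g ∈ C) : g ∈ D := by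
  rcases T.mem_C_cases hx with rfl | hx' | hx' | hx'
  · exact absurd rfl hx1
  all_goals rw [hx'] at h
  all_goals rw [Subgroup.mem_centralizer_singleton_iff]
  · have hne : g⁻¹ * r * g * (g⁻¹ * r * g) = r * r := by
      rcases T.mem_C_cases h with h' | h' | h' | h' <;> rw [h']
      · exact absurd (show r = 1 by rw [show r = g * (g⁻¹ * r * g) * g⁻¹ by group, h']; group)
          (fun e => T.rr_ne_one (by rw [e, one_mul]))
      · exfalso
        refine T.rr_ne_one ?_
        have e : r * r = g * ((g⁻¹ * r * g) * (g⁻¹ * r * g)) * g⁻¹ := by group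
        rw [e, h', show r * r * (r * r) = r ^ 4 by simp [pow_succ, mul_assoc], T.pow_four]
        group
      · rw [← mul_inv_rev, T.inv_rr]
    calc g * (r * r) = g * (g⁻¹ * r * g * (g⁻¹ * r * g)) := by rw [hne]
      _ = r * r * g := by group
  · have hne : g⁻¹ * (r * r) * g = r * r := by
      have hsq : g⁻¹ * (r * r) * g * (g⁻¹ * (r * r) * g) = 1 := by
        rw [show g⁻¹ * (r * r) * g * (g⁻¹ * (r * r) * g) = g⁻¹ * (r * r * (r * r)) * g by group,
          show r * r * (r * r) = r ^ 4 by simp [pow_succ, mul_assoc], T.pow_four]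
        group
      rcases T.mem_C_cases h with h' | h' | h' | h'
      · exact absurd (show r * r = 1 by
          rw [show r * r = g * (g⁻¹ * (r * r) * g) * g⁻¹ by group, h']; group) T.rr_ne_one
      · rw [h'] at hsq; exact absurd hsq T.rr_ne_one
      · exact h'
      · rw [h', ← mul_inv_rev, inv_eq_one] at hsq; exact absurd hsq T.rr_ne_one
    calc g * (r * r) = g * (g⁻¹ * (r * r) * g) := by rw [hne]
      _ = r * r * g := by group
  · have hne : g⁻¹ * r⁻¹ * g * (g⁻¹ * r⁻¹ * g) = r * r := by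
      rcases T.mem_C_cases h with h' | h' | h' | h' <;> rw [h']
      · exact absurd (show r⁻¹ = 1 by rw [show r⁻¹ = g * (g⁻¹ * r⁻¹ * g) * g⁻¹ by group, h']; group)
          (fun e => T.rr_ne_one (by rw [inv_eq_one.1 e, one_mul]))
      · exfalso
        refine T.rr_ne_one ?_
        have e : (r * r)⁻¹ = g * ((g⁻¹ * r⁻¹ * g) * (g⁻¹ * r⁻¹ * g)) * g⁻¹ := by group
        rw [← inv_eq_one, e, h', show r * r * (r * r) = r ^ 4 by simp [pow_succ, mul_assoc],
          T.pow_four]
        group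
      · rw [← mul_inv_rev, T.inv_rr]
    calc g * (r * r) = g * (g⁻¹ * r⁻¹ * g * (g⁻¹ * r⁻¹ * g)) := by rw [hne]
      _ = (r * r)⁻¹ * g := by group
      _ = r * r * g := by rw [T.inv_rr]

/-- The linear character of `C` with value `ω` at the generator. -/
noncomputable def lam (ω : ℂˣ) (hω : ω ^ 4 = 1) : C →* ℂˣ :=
  monoidHomOfForallMemZpowers (g := (gen : C)) (g' := ω) forall_gen (by
    rw [show orderOf (gen : C) = 4 from (Subgroup.orderOf_coe _).symm.trans T.ord]
    exact orderOf_dvd_of_pow_eq_one hω)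

theorem lam_gen (ω : ℂˣ) (hω : ω ^ 4 = 1) : T.lam ω hω (gen : C) = ω :=
  monoidHomOfForallMemZpowers_apply_gen _ _

/-- The function `1 - lam` on `C`. -/
noncomputable def diffChar (ω : ℂˣ) (hω : ω ^ 4 = 1) : C → ℂ :=
  (fun _ => 1) - fun x => (T.lam ω hω x : ℂ)

theorem diffChar_one (ω : ℂˣ) (hω : ω ^ 4 = 1) : T.diffChar ω hω 1 = 0 := by
  simp [diffChar]

theorem sum_C [Fintype C] (F : C → ℂ) :
    ∑ x : C, F x = F 1 + F gen + F (gen ^ 2) + F gen⁻¹ := by
  rw [← ((finCongr T.ord.symm).trans (finEquivZPowers (isOfFinOrder_of_finite r))).sum_comp F,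
    Fin.sum_univ_four]
  congr 1
  · congr 1
    congr 1
    · exact congrArg F (Subtype.ext (pow_zero r))
    · exact congrArg F (Subtype.ext (pow_one r))
  · refine congrArg F (Subtype.ext ?_)
    show r ^ 3 = r⁻¹
    exact eq_inv_of_mul_eq_one_left (by rw [← pow_succ, T.pow_four])

theorem inner_C [Fintype C] (F H : C → ℂ) (hF : F 1 = 0) :
    Cfsg.classInner F H = (4 : ℂ)⁻¹ *
      (F gen * conj (H gen) + F (gen ^ 2) * conj (H (gen ^ 2)) + F gen⁻¹ * conj (H gen⁻¹)) := by
  rw [Cfsg.classInner, T.card_C, T.sum_C, hF]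
  push_cast
  ring

/-- The induced functions take at `X` the symmetrised values. -/
theorem indFun_value (θ : C → ℂ) (x : C) (hx : x ≠ 1) :
    Cfsg.indFun C θ (x : G) = θ x + θ x⁻¹ := by
  classical
  have hzero : ∀ g : G, g ∉ D → Cfsg.extendByZero C θ (g⁻¹ * x * g) = 0 := fun g hg =>
    extendByZero_of_not_mem _ _ fun h =>
      hg (T.mem_D_of_conj x.2 (fun e => hx (Subtype.ext e)) h)
  have hterm : ∀ g : G, Cfsg.extendByZero C θ (g⁻¹ * x * g) =
      (if g ∈ C then θ x else 0) + (if g ∈ D ∧ g ∉ C then θ x⁻¹ else 0) := by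
    intro g
    by_cases hC : g ∈ C
    · rw [if_pos hC, if_neg (fun h => h.2 hC), add_zero, T.conj_fix hC x.2]
      exact extendByZero_coe _ _ x
    · by_cases hD : g ∈ D
      · rw [if_neg hC, if_pos ⟨hD, hC⟩, zero_add, T.conj_flip hD hC x.2]
        exact extendByZero_coe _ _ x⁻¹
      · rw [if_neg hC, if_neg (fun h => hD h.1), add_zero, hzero g hD]
  have hC : (Finset.univ.filter fun g : G => g ∈ C).card = 4 := by
    rw [← Fintype.card_subtype, ← Nat.card_eq_fintype_card]
    exact T.card_C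
  have hDC : (Finset.univ.filter fun g : G => g ∈ D ∧ g ∉ C).card = 4 := by
    rw [show (Finset.univ.filter fun g : G => g ∈ D ∧ g ∉ C) =
        (Finset.univ.filter fun g : G => g ∈ D) \ (Finset.univ.filter fun g : G => g ∈ C) by
      ext; simp, Finset.card_sdiff_of_subset (fun g hg => by simpa using T.C_le (by simpa using hg)),
      hC, ← Fintype.card_subtype, ← Nat.card_eq_fintype_card]
    exact congrArg (· - 4) T.card
  rw [Cfsg.indFun, Finset.sum_congr rfl fun g _ => hterm g, Finset.sum_add_distrib,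
    ← Finset.sum_filter, ← Finset.sum_filter, Finset.sum_const, Finset.sum_const, hC, hDC,
    T.card_C]
  simp only [nsmul_eq_mul]
  push_cast
  ring

theorem classInner_indFun_indFun [Fintype C] (θ η : C → ℂ) (hθ : θ 1 = 0) :
    Cfsg.classInner (Cfsg.indFun C θ) (Cfsg.indFun C η) = (4 : ℂ)⁻¹ *
      (θ gen * conj (η gen + η gen⁻¹) +
        θ (gen ^ 2) * conj (η (gen ^ 2) + η (gen ^ 2)⁻¹) +
        θ gen⁻¹ * conj (η gen⁻¹ + η gen)) := by
  have hg : (gen : C) ≠ 1 := fun h => T.rr_ne_one (by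
    rw [show r = 1 from congrArg Subtype.val h, one_mul])
  have hg2 : (gen : C) ^ 2 ≠ 1 := fun h => T.rr_ne_one (by
    have h' := congrArg Subtype.val h
    rwa [SubgroupClass.coe_pow, OneMemClass.coe_one, show ((gen : C) : G) = r from rfl,
      pow_two] at h')
  rw [classInner_indFun _ _ (isClassFunction_indFun _ _), T.inner_C _ _ hθ,
    T.indFun_value η _ hg, T.indFun_value η _ hg2, T.indFun_value η _ (inv_ne_one.2 hg), inv_inv]

omit T in
/-- Integrality of a multiplicity in a difference of two characters. -/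
theorem exists_int_inner [Fintype C] (f : C →* ℂˣ) (χ : Cfsg.IrrCharacter G) :
    ∃ k : ℤ, Cfsg.classInner (Cfsg.indFun C ((fun _ => 1) - fun x => (f x : ℂ))) (χ : G → ℂ) = k := by
  rw [classInner_indFun _ _ (isClassFunction_of_isIrr χ.2), classInner_sub_left]
  obtain ⟨a, ha⟩ := classInner_characters (isCharacter_one (G := C))
    (isCharacter_restrict C (isCharacter_of_isIrr χ.2))
  obtain ⟨b, hb⟩ := classInner_characters (isCharacter_of_isIrr (isIrr_linChar f))
    (isCharacter_restrict C (isCharacter_of_isIrr χ.2))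
  exact ⟨(a : ℤ) - b, by rw [ha, hb]; push_cast; rfl⟩

theorem char_inv_gen {χ : G → ℂ} (hχ : Cfsg.IsIrrCharacter G χ) : χ r⁻¹ = χ r := by
  rw [← T.flip]
  exact isClassFunction_of_isIrr hχ r s

theorem integer_data :
    ∃ m n : Cfsg.IrrCharacter G → ℤ,
      (∀ χ : Cfsg.IrrCharacter G,
        (χ : G → ℂ) r = n χ ∧ (χ : G → ℂ) (r * r) = 2 * m χ - n χ) ∧
      ∑ χ, m χ * m χ = 3 ∧ ∑ χ, n χ * n χ = 4 ∧ ∑ χ, m χ * n χ = 2 ∧
      ∑ χ : Cfsg.IrrCharacter G, (m χ : ℂ) * (χ : G → ℂ) 1 = 0 := by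
  classical
  haveI : Fintype C := Fintype.ofFinite _
  have hI : ((Units.mk0 Complex.I Complex.I_ne_zero) : ℂˣ) ^ 4 = 1 := Units.ext Complex.I_pow_four
  have hN : (-1 : ℂˣ) ^ 4 = 1 := by norm_num
  set θ := T.diffChar _ hI with hθdef
  set η := T.diffChar _ hN with hηdef
  have hθ0 : θ 1 = 0 := T.diffChar_one _ _
  have hη0 : η 1 = 0 := T.diffChar_one _ _
  have v1 : θ gen = 1 - Complex.I := by simp [hθdef, diffChar, T.lam_gen]
  have v2 : θ (gen ^ 2) = 2 := by
    simp [hθdef, diffChar, T.lam_gen]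
    norm_num
  have v2' : θ (gen ^ 2)⁻¹ = 2 := by
    simp [hθdef, diffChar, T.lam_gen]
    norm_num
  have v3 : θ gen⁻¹ = 1 + Complex.I := by simp [hθdef, diffChar, T.lam_gen]
  have w1 : η gen = 2 := by
    simp [hηdef, diffChar, T.lam_gen]
    norm_num
  have w2 : η (gen ^ 2) = 0 := by simp [hηdef, diffChar, T.lam_gen]
  have w2' : η (gen ^ 2)⁻¹ = 0 := by simp [hηdef, diffChar, T.lam_gen]
  have w3 : η gen⁻¹ = 2 := by
    simp [hηdef, diffChar, T.lam_gen]
    norm_num
  choose m hm using fun χ => exists_int_inner (T.lam _ hI) χ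
  choose n hn using fun χ => exists_int_inner (T.lam _ hN) χ
  change ∀ χ : Cfsg.IrrCharacter G, Cfsg.classInner (Cfsg.indFun C θ) (χ : G → ℂ) = m χ at hm
  change ∀ χ : Cfsg.IrrCharacter G, Cfsg.classInner (Cfsg.indFun C η) (χ : G → ℂ) = n χ at hn
  have hval : ∀ χ : Cfsg.IrrCharacter G,
      (n χ : ℂ) = conj ((χ : G → ℂ) r) ∧
      2 * (m χ : ℂ) = conj ((χ : G → ℂ) (r * r)) + conj ((χ : G → ℂ) r) := by
    intro χ
    have e1 := hn χ
    have e2 := hm χ
    rw [classInner_indFun _ _ (isClassFunction_of_isIrr χ.2), T.inner_C _ _ hη0, w1, w2, w3] at e1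
    rw [classInner_indFun _ _ (isClassFunction_of_isIrr χ.2), T.inner_C _ _ hθ0, v1, v2, v3] at e2
    simp only [MulMemClass.coe_mul, InvMemClass.coe_inv, show ((gen : C) : G) = r from rfl,
      T.char_inv_gen χ.2, pow_two] at e1 e2
    exact ⟨by linear_combination -e1, by linear_combination -2 * e2⟩
  have hexp : ∀ (θ' : C → ℂ) (k : Cfsg.IrrCharacter G → ℤ),
      (∀ χ : Cfsg.IrrCharacter G, Cfsg.classInner (Cfsg.indFun C θ') (χ : G → ℂ) = k χ) →
      Cfsg.indFun C θ' = ∑ χ : Cfsg.IrrCharacter G, (k χ : ℂ) • (χ : G → ℂ) := fun θ' k hk => by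
    conv_lhs => rw [classFunction_expansion (isClassFunction_indFun C θ')]
    exact Finset.sum_congr rfl fun χ _ => by rw [hk χ]
  have hpair : ∀ (θ' η' : C → ℂ) (k l : Cfsg.IrrCharacter G → ℤ),
      (∀ χ : Cfsg.IrrCharacter G, Cfsg.classInner (Cfsg.indFun C θ') (χ : G → ℂ) = k χ) →
      (∀ χ : Cfsg.IrrCharacter G, Cfsg.classInner (Cfsg.indFun C η') (χ : G → ℂ) = l χ) →
      Cfsg.classInner (Cfsg.indFun C θ') (Cfsg.indFun C η') =
        ((∑ χ, k χ * l χ : ℤ) : ℂ) := by
    intro θ' η' k l hk hl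
    rw [hexp η' l hl]
    rw [classInner_sum_right, Int.cast_sum]
    refine Finset.sum_congr rfl fun χ _ => ?_
    rw [classInner_smul_right, hk, map_intCast, Int.cast_mul, mul_comm]
  refine ⟨m, n, fun χ => ?_, ?_, ?_, ?_, ?_⟩
  · obtain ⟨h1, h2⟩ := hval χ
    have e1 : (χ : G → ℂ) r = n χ := by
      have := congrArg conj h1
      simpa using this.symm
    refine ⟨e1, ?_⟩
    have := congrArg conj h2
    simp only [map_add, map_mul, Complex.conj_conj, map_intCast, map_ofNat, e1] at this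
    linear_combination -this
  · have h := hpair θ θ m m hm hm
    rw [T.classInner_indFun_indFun θ θ hθ0, v1, v2, v2', v3] at h
    simp only [map_add, map_sub, map_one, Complex.conj_I, map_ofNat] at h
    exact_mod_cast (show ((∑ χ, m χ * m χ : ℤ) : ℂ) = 3 by rw [← h]; ring_nf)
  · have h := hpair η η n n hn hn
    rw [T.classInner_indFun_indFun η η hη0, w1, w2, w2', w3] at h
    simp only [map_add, map_zero, map_ofNat] at h
    exact_mod_cast (show ((∑ χ, n χ * n χ : ℤ) : ℂ) = 4 by rw [← h]; ring_nf)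
  · have h := hpair θ η m n hm hn
    rw [T.classInner_indFun_indFun θ η hθ0, v1, v2, v3, w1, w2, w2', w3] at h
    simp only [map_add, map_zero, map_ofNat] at h
    exact_mod_cast (show ((∑ χ, m χ * n χ : ℤ) : ℂ) = 2 by rw [← h]; ring_nf)
  · have h := congrFun (hexp θ m hm) 1
    rw [indFun_one, hθ0, mul_zero, Finset.sum_apply] at h
    simpa [smul_eq_mul] using h.symm

end Config

end CfsgLib.CharactersDeep.DihedralEightCentralizer
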