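import Cfsg.Agent.CharactersDeep.DihedralEightCentralizer
import Cfsg.Agent.Small.ThompsonTransfer
import Mathlib.GroupTheory.Abelianization.Defs
import Mathlib.GroupTheory.SpecificGroups.Dihedral

/-!
# The order of a perfect group with an involution centralizer that is dihedral of order eight
-/

set_option autoImplicit false
set_option linter.unusedSectionVars false
set_option linter.style.haveILetI false

namespace CfsgLib.CharactersDeep.DihedralEightOrder

open CfsgLib.Characters DihedralEightCentralizer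
open scoped ComplexConjugate

/-- The arithmetic of the order formula. -/
theorem numeric (g : ℕ) (A : ℤ) (hg : g % 16 = 8) (h : (g : ℤ) * (A - 1) ^ 2 = 256 * A * (A + 1)) :
    g = 168 ∨ g = 360 := by
  have hdvd : (A - 1).natAbs ∣ 512 := by
    have h' : (A - 1) ∣ (512 : ℤ) := ⟨(g : ℤ) * (A - 1) - 256 * (A + 2), by linear_combination -h⟩
    simpa using Int.natAbs_dvd_natAbs.2 h'
  obtain ⟨k, hk, hk'⟩ := (Nat.dvd_prime_pow Nat.prime_two (i := (A - 1).natAbs) (m := 9)).1
    (by simpa using hdvd)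
  rcases Int.natAbs_eq (A - 1) with hA | hA <;> rw [hk'] at hA <;>
    obtain rfl : A = _ := eq_add_of_sub_eq hA <;> interval_cases k <;> norm_num at h <;> omega

/-- The combinatorics of the two induced functions. -/
theorem combinatorics {ι : Type*} [Fintype ι] [DecidableEq ι] (i₀ : ι) (m n : ι → ℤ) (hm₀ : m i₀ = 1)
    (hn₀ : n i₀ = 1) (hmm : ∑ i, m i * m i = 3) (hnn : ∑ i, n i * n i = 4)
    (hmn : ∑ i, m i * n i = 2) :
    ∃ a b, a ≠ b ∧ a ≠ i₀ ∧ b ≠ i₀ ∧ (∀ i, i ≠ i₀ → i ≠ a → i ≠ b → m i = 0) ∧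
      (m a = 1 ∨ m a = -1) ∧ (m b = 1 ∨ m b = -1) ∧ n a = m a ∧ n b = 0 := by
  rw [← Finset.add_sum_erase _ _ (Finset.mem_univ i₀), hm₀] at hmm hmn
  rw [← Finset.add_sum_erase _ _ (Finset.mem_univ i₀), hn₀] at hnn
  rw [hn₀] at hmn
  set E := Finset.univ.erase i₀
  have small : ∀ (z : ℤ), z * z ≤ 3 → z = 1 ∨ z = -1 ∨ z = 0 := fun z hz => by
    have h1 : -2 < z := by nlinarith
    have h2 : z < 2 := by nlinarith
    omega
  have hm1 : ∀ i ∈ E, m i = 1 ∨ m i = -1 ∨ m i = 0 := fun i hi => small _ (by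
    have := Finset.single_le_sum (f := fun i => m i * m i) (fun j _ => mul_self_nonneg (m j)) hi
    linarith)
  have hn1 : ∀ i ∈ E, n i = 1 ∨ n i = -1 ∨ n i = 0 := fun i hi => small _ (by
    have := Finset.single_le_sum (f := fun i => n i * n i) (fun j _ => mul_self_nonneg (n j)) hi
    linarith)
  set S := E.filter (fun i => m i ≠ 0)
  have hS : S.card = 2 := by
    have h : ∑ i ∈ S, m i * m i = (S.card : ℤ) := by
      rw [Finset.sum_congr rfl (g := fun _ => (1 : ℤ)) fun i hi => ?_]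
      · simp
      · obtain ⟨hiE, hi0⟩ := Finset.mem_filter.1 hi
        rcases hm1 i hiE with h | h | h <;> simp_all
    have h' : ∑ i ∈ S, m i * m i = ∑ i ∈ E, m i * m i :=
      Finset.sum_filter_of_ne fun i _ hi h0 => hi (by rw [h0, mul_zero])
    omega
  obtain ⟨a, b, hab, hSab⟩ := Finset.card_eq_two.1 hS
  have haS : a ∈ S := by simp [hSab]
  have hbS : b ∈ S := by simp [hSab]
  obtain ⟨haE, ha0⟩ := Finset.mem_filter.1 haS
  obtain ⟨hbE, hb0⟩ := Finset.mem_filter.1 hbS
  have ha := hm1 a haE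
  have hb := hm1 b hbE
  have hsum : m a * n a + m b * n b = 1 := by
    have h : ∑ i ∈ S, m i * n i = ∑ i ∈ E, m i * n i :=
      Finset.sum_filter_of_ne fun i _ hi h0 => hi (by rw [h0, zero_mul])
    rw [hSab, Finset.sum_pair hab] at h
    omega
  have hrest : ∀ i, i ≠ i₀ → i ≠ a → i ≠ b → m i = 0 := fun i h0 hia hib => by
    by_contra h
    have : i ∈ S := Finset.mem_filter.2 ⟨Finset.mem_erase.2 ⟨h0, Finset.mem_univ _⟩, h⟩
    simp [hSab, hia, hib] at this
  have hane : a ≠ i₀ := (Finset.mem_erase.1 haE).1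
  have hbne : b ≠ i₀ := (Finset.mem_erase.1 hbE).1
  have hma : m a = 1 ∨ m a = -1 := by omega
  have hmb : m b = 1 ∨ m b = -1 := by omega
  by_cases hnb : n b = 0
  · refine ⟨a, b, hab, hane, hbne, hrest, hma, hmb, ?_, hnb⟩
    rw [hnb, mul_zero, add_zero] at hsum
    rcases hma with h | h <;> rw [h] at hsum ⊢ <;> omega
  · refine ⟨b, a, hab.symm, hbne, hane, fun i h0 h1 h2 => hrest i h0 h2 h1, hmb, hma, ?_, ?_⟩
    · rcases hn1 a haE with h | h | h <;> rcases hn1 b hbE with h' | h' | h' <;>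
        rcases hma with h1 | h1 <;> rcases hmb with h2 | h2 <;>
        rw [h, h', h1, h2] at hsum <;> omega
    · rcases hn1 a haE with h | h | h <;> rcases hn1 b hbE with h' | h' | h' <;>
        rcases hma with h1 | h1 <;> rcases hmb with h2 | h2 <;>
        rw [h, h', h1, h2] at hsum <;> omega

universe u

variable {G : Type u} [Group G] [Fintype G] {r s : G}

/-- An irreducible character of degree one of a perfect group is trivial. -/
theorem eq_one_of_degree_one (hperf : commutator G = ⊤) {χ : G → ℂ}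
    (hχ : Cfsg.IsIrrCharacter G χ) (h1 : χ 1 = 1) : χ = fun _ => 1 := by
  obtain ⟨f, rfl⟩ := exists_hom_of_degree_one (isCharacter_of_isIrr hχ) h1
  funext g
  have hg : g ∈ f.ker := Abelianization.commutator_subset_ker f (hperf ▸ Subgroup.mem_top g)
  simp [MonoidHom.mem_ker.1 hg]

/-- The order formula. -/
theorem order (T : Config r s) (hperf : commutator G = ⊤)
    (hall : ∀ y : G, orderOf y = 2 → IsConj (r * r) y)
    (hpt : Nat.card {a : G // orderOf a = 2 ∧ orderOf (a * (r * r)) = 2} = 4)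
    (hpr : Nat.card {a : G // orderOf a = 2 ∧ orderOf (a * r) = 2} = 4)
    (hmod : Nat.card G % 16 = 8) : Nat.card G = 168 ∨ Nat.card G = 360 := by
  classical
  obtain ⟨m, n, hval, hmm, hnn, hmn, hdeg⟩ := T.integer_data
  have ht : orderOf (r * r) = 2 := orderOf_eq_prime
    (by rw [← T.pow_four]; simp [pow_succ, mul_assoc]) T.rr_ne_one
  have hcnt : ∀ g : G, Nat.card {a : G // orderOf a = 2 ∧ orderOf (a * g) = 2} = 4 →
      (256 : ℂ) = (Nat.card G : ℂ) * ∑ χ : Cfsg.IrrCharacter G,
        (χ : G → ℂ) (r * r) * (χ : G → ℂ) (r * r) * (χ : G → ℂ) g / (χ : G → ℂ) 1 := by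
    intro g hg
    rw [← card_conj_mul_conj T.inv_rr g, card_conj_mul_conj_eq ht hall g, hg, T.card]
    norm_num
  have hS : (256 : ℂ) = (Nat.card G : ℂ) * ∑ χ : Cfsg.IrrCharacter G,
      (2 * (m χ : ℂ) - n χ) ^ 2 * m χ / (χ : G → ℂ) 1 := by
    have h := congrArg₂ (· + ·) (hcnt _ hpt) (hcnt _ hpr)
    simp only [← mul_add, ← Finset.sum_add_distrib] at h
    rw [Finset.sum_congr rfl (g := fun χ : Cfsg.IrrCharacter G =>
      2 * ((2 * (m χ : ℂ) - n χ) ^ 2 * m χ / (χ : G → ℂ) 1)) fun χ _ => by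
        rw [(hval χ).1, (hval χ).2]; ring, ← Finset.mul_sum] at h
    linear_combination h / 2
  set χ₀ : Cfsg.IrrCharacter G := ⟨fun _ => 1, isIrr_one⟩
  have hn₀ : n χ₀ = 1 := by
    have h : (1 : ℂ) = n χ₀ := (hval χ₀).1
    exact_mod_cast h.symm
  have hm₀ : m χ₀ = 1 := by
    have h := (hval χ₀).2
    rw [hn₀] at h
    have h' : (m χ₀ : ℂ) = 1 := by
      have e : (1 : ℂ) = 2 * (m χ₀ : ℂ) - ((1 : ℤ) : ℂ) := h
      push_cast at e
      linear_combination -e / 2
    exact_mod_cast h'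
  obtain ⟨a, b, hab, ha0, hb0, hrest, hma, hmb, hna, hnb⟩ :=
    combinatorics χ₀ m n hm₀ hn₀ hmm hnn hmn
  have hred : ∀ F : Cfsg.IrrCharacter G → ℂ, (∀ χ, m χ = 0 → F χ = 0) →
      ∑ χ, F χ = F χ₀ + (F a + F b) := by
    intro F hF
    rw [← Finset.add_sum_erase _ _ (Finset.mem_univ χ₀)]
    congr 1
    rw [← Finset.sum_pair hab]
    refine (Finset.sum_subset ?_ ?_).symm
    · intro χ hχ
      simp only [Finset.mem_insert, Finset.mem_singleton] at hχ
      rcases hχ with rfl | rfl <;> simp [ha0, hb0]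
    · intro χ hχ hχ'
      simp only [Finset.mem_insert, Finset.mem_singleton, not_or] at hχ'
      exact hF χ (hrest χ (Finset.mem_erase.1 hχ).1 hχ'.1 hχ'.2)
  obtain ⟨da, hda0, hda⟩ := exists_degree_pos a.2
  obtain ⟨db, hdb0, hdb⟩ := exists_degree_pos b.2
  rw [hred _ (fun χ h => by rw [h]; simp), hm₀, hda, hdb] at hdeg
  rw [hred _ (fun χ h => by rw [h]; simp), hm₀, hn₀, hna, hnb, hda, hdb] at hS
  simp only [show (χ₀ : G → ℂ) 1 = 1 from rfl] at hdeg hS
  have hA : (m a : ℂ) * (m a : ℂ) = 1 := by rcases hma with h | h <;> rw [h] <;> norm_num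
  have hB : (m b : ℂ) * (m b : ℂ) = 1 := by rcases hmb with h | h <;> rw [h] <;> norm_num
  have hda' : (da : ℂ) ≠ 0 := Nat.cast_ne_zero.2 hda0.ne'
  have hdb' : (db : ℂ) ≠ 0 := Nat.cast_ne_zero.2 hdb0.ne'
  field_simp at hS
  push_cast at hS hdeg
  have key : (Nat.card G : ℂ) * ((m a : ℂ) * da - 1) ^ 2 =
      256 * ((m a : ℂ) * da) * ((m a : ℂ) * da + 1) := by
    have hdb2 : (m b : ℂ) * db = -1 - (m a : ℂ) * da := by linear_combination hdeg
    have hS' : (256 : ℂ) * ((m a : ℂ) * da) * ((m b : ℂ) * db) = (Nat.card G : ℂ) *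
        ((m a : ℂ) * da * ((m b : ℂ) * db) + (m b : ℂ) * db + 4 * ((m a : ℂ) * da)) := by
      rcases hma with h | h <;> rcases hmb with h' | h' <;> rw [h, h'] at hS ⊢ <;> push_cast at hS ⊢ <;>
        first
          | linear_combination hS
          | linear_combination -hS
    rw [hdb2] at hS'
    linear_combination hS'
  refine numeric (Nat.card G) (m a * da) hmod ?_
  exact_mod_cast key

/-! ### The configuration from the dihedral centralizer -/

section Group

variable {t : G} (ht : orderOf t = 2)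
  (e : Subgroup.centralizer ({t} : Set G) ≃* DihedralGroup 4)

include ht e

local notation "H" => Subgroup.centralizer ({(t : G)} : Set G)

theorem t_mem : t ∈ H := Subgroup.mem_centralizer_singleton_iff.2 rfl

theorem e_t : e ⟨t, t_mem ht e⟩ = DihedralGroup.r 2 := by
  refine (by decide : ∀ x : DihedralGroup 4, x ≠ 1 → (∀ y, x * y = y * x) → x = DihedralGroup.r 2)
    _ ?_ fun y => ?_
  · intro h
    rw [MulEquiv.map_eq_one_iff] at h
    have h' : t = 1 := congrArg Subtype.val h
    rw [h', orderOf_one] at ht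
    exact absurd ht (by decide)
  · obtain ⟨⟨z, hz⟩, rfl⟩ := e.surjective y
    rw [← map_mul, ← map_mul]
    exact congrArg e (Subtype.ext (Subgroup.mem_centralizer_singleton_iff.1 hz).symm)

theorem sq_rot : ((e.symm (DihedralGroup.r 1) : H) : G) * (e.symm (DihedralGroup.r 1) : H) = t := by
  rw [← Subgroup.coe_mul, ← map_mul, show (DihedralGroup.r 1 * DihedralGroup.r 1 : DihedralGroup 4) =
    DihedralGroup.r 2 by decide, ← e_t ht e, MulEquiv.symm_apply_apply]

theorem config :
    Config ((e.symm (DihedralGroup.r 1) : H) : G) ((e.symm (DihedralGroup.sr 0) : H) : G) := by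
  have hrr := sq_rot ht e
  refine ⟨?_, ?_, fun g hg => ?_, ?_⟩
  · rw [Subgroup.orderOf_coe, MulEquiv.orderOf_eq, DihedralGroup.orderOf_r_one]
  · rw [hrr, Nat.card_congr e.toEquiv, DihedralGroup.nat_card]
  · have hgH : g ∈ H := by
      rw [Subgroup.mem_centralizer_singleton_iff, ← hrr, ← mul_assoc, hg, mul_assoc, hg, mul_assoc]
    obtain ⟨k, hk⟩ := (by decide : ∀ x : DihedralGroup 4,
      x * DihedralGroup.r 1 = DihedralGroup.r 1 * x → ∃ k : Fin 4, DihedralGroup.r 1 ^ k.val = x)
      (e ⟨g, hgH⟩) (by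
        rw [← MulEquiv.apply_symm_apply e (DihedralGroup.r 1), ← map_mul, ← map_mul]
        exact congrArg e (Subtype.ext hg))
    refine Subgroup.mem_zpowers_iff.2 ⟨(k.val : ℤ), ?_⟩
    rw [zpow_natCast, ← SubgroupClass.coe_pow, ← map_pow, hk, MulEquiv.symm_apply_apply]
  · rw [← InvMemClass.coe_inv, ← InvMemClass.coe_inv, ← Subgroup.coe_mul, ← Subgroup.coe_mul,
      ← map_inv, ← map_inv, ← map_mul, ← map_mul]
    exact congrArg Subtype.val (congrArg e.symm (by decide))

/-- Counting the involutions whose product with an element of `C(t)` is an involution. -/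
theorem card_pairs (d : DihedralGroup 4)
    (hin : ∀ a : G, orderOf a = 2 → orderOf (a * (e.symm d : H)) = 2 → a ∈ H) :
    Nat.card {a : G // orderOf a = 2 ∧ orderOf (a * (e.symm d : H)) = 2} =
      Fintype.card {x : DihedralGroup 4 //
        (x * x = 1 ∧ x ≠ 1) ∧ (x * d * (x * d) = 1 ∧ x * d ≠ 1)} := by
  rw [← Nat.card_eq_fintype_card]
  have hiff : ∀ (a : G) (ha : a ∈ H),
      (orderOf a = 2 ∧ orderOf (a * (e.symm d : H)) = 2) ↔
      ((e ⟨a, ha⟩ * e ⟨a, ha⟩ = 1 ∧ e ⟨a, ha⟩ ≠ 1) ∧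
        (e ⟨a, ha⟩ * d * (e ⟨a, ha⟩ * d) = 1 ∧ e ⟨a, ha⟩ * d ≠ 1)) := by
    intro a ha
    have h2 : ∀ x : DihedralGroup 4, orderOf x = 2 ↔ x * x = 1 ∧ x ≠ 1 := fun x => by
      rw [orderOf_eq_iff (by norm_num : 0 < 2)]
      refine ⟨fun h => ⟨by rw [← pow_two]; exact h.1, by simpa using h.2 1 (by norm_num) one_pos⟩,
        fun h => ⟨by rw [pow_two]; exact h.1, fun m hm hm0 => ?_⟩⟩
      obtain rfl : m = 1 := by omega
      simpa using h.2
    rw [← h2, ← h2]
    have e1 : orderOf (e ⟨a, ha⟩) = orderOf a := by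
      rw [MulEquiv.orderOf_eq, ← Subgroup.orderOf_coe]
    have e2 : orderOf (e ⟨a, ha⟩ * d) = orderOf (a * (e.symm d : H)) := by
      rw [show e ⟨a, ha⟩ * d = e (⟨a, ha⟩ * e.symm d) by rw [map_mul, MulEquiv.apply_symm_apply],
        MulEquiv.orderOf_eq, ← Subgroup.orderOf_coe]
      rfl
    rw [e1, e2]
  refine Nat.card_congr
    { toFun := fun a => ⟨e ⟨a.1, hin a.1 a.2.1 a.2.2⟩, (hiff _ _).1 a.2⟩
      invFun := fun x => ⟨(e.symm x.1 : H), (hiff _ (e.symm x.1).2).2 (by
        simp only [Subtype.coe_eta, MulEquiv.apply_symm_apply]; exact x.2)⟩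
      left_inv := fun a => by simp
      right_inv := fun x => by simp }

theorem exists_sylow : ∃ P : Sylow 2 G, (P : Subgroup G) = H := by
  haveI : Fact (Nat.Prime 2) := ⟨Nat.prime_two⟩
  have h8 : Nat.card H = 8 := by rw [Nat.card_congr e.toEquiv, DihedralGroup.nat_card]
  obtain ⟨P, hP⟩ := (IsPGroup.of_card (p := 2) (n := 3) (G := H) (by rw [h8]; norm_num)).exists_le_sylow
  refine ⟨P, le_antisymm ?_ hP⟩
  have htP : t ∈ (P : Subgroup G) := hP (t_mem ht e)
  haveI : Nontrivial P := ⟨⟨1, ⟨t, htP⟩, fun h => by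
    have h' : (1 : G) = t := congrArg Subtype.val h
    rw [← h', orderOf_one] at ht
    exact absurd ht (by decide)⟩⟩
  haveI := P.isPGroup'.center_nontrivial
  obtain ⟨⟨z, hz⟩, hz1⟩ := exists_ne (1 : Subgroup.center P)
  have hzH : (z : G) ∈ H := Subgroup.mem_centralizer_singleton_iff.2
    (congrArg Subtype.val (Subgroup.mem_center_iff.1 hz ⟨t, htP⟩)).symm
  have hzt : (z : G) = t := by
    have h := (by decide : ∀ x : DihedralGroup 4, x ≠ 1 → (∀ y, x * y = y * x) → x = DihedralGroup.r 2)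
      (e ⟨z, hzH⟩) ?_ fun y => ?_
    · exact congrArg Subtype.val (e.injective (h.trans (e_t ht e).symm))
    · intro h
      rw [MulEquiv.map_eq_one_iff] at h
      exact hz1 (Subtype.ext (Subtype.ext (congrArg (fun u : H => (u : G)) h)))
    · obtain ⟨w, rfl⟩ := e.surjective y
      rw [← map_mul, ← map_mul]
      exact congrArg e (Subtype.ext
        (congrArg Subtype.val (Subgroup.mem_center_iff.1 hz ⟨w, hP w.2⟩)).symm)
  intro x hx
  rw [Subgroup.mem_centralizer_singleton_iff, ← hzt]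
  exact congrArg Subtype.val (Subgroup.mem_center_iff.1 hz ⟨x, hx⟩)

theorem result (hperf : commutator G = ⊤) : Nat.card G = 168 ∨ Nat.card G = 360 := by
  classical
  haveI : Fact (Nat.Prime 2) := ⟨Nat.prime_two⟩
  set r := ((e.symm (DihedralGroup.r 1) : H) : G) with hrdef
  have hrr : r * r = t := sq_rot ht e
  have T := config ht e
  obtain ⟨P, hP⟩ := exists_sylow ht e
  have h8 : Nat.card H = 8 := by rw [Nat.card_congr e.toEquiv, DihedralGroup.nat_card]
  have hC4 : Nat.card (Subgroup.zpowers r) = 4 := T.card_C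
  have hCle : Subgroup.zpowers r ≤ (P : Subgroup G) :=
    hP ▸ Subgroup.zpowers_le.2 (e.symm (DihedralGroup.r 1)).2
  have hmod : Nat.card G % 16 = 8 := by
    have h := P.card_eq_multiplicity
    rw [hP, h8] at h
    have hfac : (Nat.card G).factorization 2 = 3 := by
      exact Nat.pow_right_injective le_rfl (show 2 ^ (Nat.card G).factorization 2 = 2 ^ 3 from h.symm)
    have h1 := Nat.ordProj_mul_ordCompl_eq_self (Nat.card G) 2
    have h2 := Nat.not_dvd_ordCompl Nat.prime_two (n := Nat.card G) Nat.card_pos.ne'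
    rw [hfac] at h1 h2
    omega
  have hno : ∀ K : Subgroup G, K.index ≠ 2 := by
    intro K hK
    haveI : K.Normal := ⟨fun x hx g => by
      rw [Subgroup.mul_mem_iff_of_index_two hK, Subgroup.mul_mem_iff_of_index_two hK, inv_mem_iff]
      simp [hx]⟩
    haveI : IsCyclic (G ⧸ K) := isCyclic_of_prime_card (p := 2) (Subgroup.index_eq_card K ▸ hK)
    have hle : commutator G ≤ K := by
      rw [commutator_def, Subgroup.commutator_le]
      intro a _ b _
      rw [← QuotientGroup.eq_one_iff, ← QuotientGroup.mk'_apply, map_commutatorElement,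
        commutatorElement_eq_one_iff_mul_comm]
      letI := IsCyclic.commGroup (α := G ⧸ K)
      exact mul_comm _ _
    rw [hperf, top_le_iff] at hle
    rw [hle, Subgroup.index_top] at hK
    exact absurd hK (by decide)
  have hall : ∀ y : G, orderOf y = 2 → IsConj (r * r) y := by
    intro y hy
    obtain ⟨g, hg⟩ := Small.thompson_transfer_sylow hno P (Subgroup.zpowers r) hCle (by
      have h := Subgroup.relIndex_mul_relIndex ⊥ (Subgroup.zpowers r) (P : Subgroup G) bot_le hCle
      rw [Subgroup.relIndex_bot_left, Subgroup.relIndex_bot_left, hC4, hP, h8] at h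
      rw [hP]
      omega) hy
    have hord : orderOf (g⁻¹ * y * g) = 2 := by
      simpa using (MulAut.conj g⁻¹).orderOf_eq y |>.trans hy
    have hsq : g⁻¹ * y * g * (g⁻¹ * y * g) = 1 := by
      rw [← pow_two, ← hord, pow_orderOf_eq_one]
    refine isConj_iff.2 ⟨g, ?_⟩
    rcases T.mem_C_cases hg with h | h | h | h
    · rw [h, orderOf_one] at hord; exact absurd hord (by decide)
    · rw [h] at hsq; exact absurd hsq T.rr_ne_one
    · rw [← h]; group
    · rw [h, ← mul_inv_rev, inv_eq_one] at hsq; exact absurd hsq T.rr_ne_one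
  have hinv : ∀ a g : G, orderOf a = 2 → orderOf (a * g) = 2 → a * g * a⁻¹ = g⁻¹ := by
    intro a g ha hag
    have h1 : a * a = 1 := by rw [← pow_two, ← ha, pow_orderOf_eq_one]
    have h2 : a * g * (a * g) = 1 := by rw [← pow_two, ← hag, pow_orderOf_eq_one]
    rw [inv_eq_of_mul_eq_one_right h1]
    exact eq_inv_of_mul_eq_one_left (by rw [mul_assoc (a * g), h2])
  have htinv : t⁻¹ = t := hrr ▸ T.inv_rr
  have hpr : Nat.card {a : G // orderOf a = 2 ∧ orderOf (a * r) = 2} = 4 := by
    rw [hrdef, card_pairs ht e (DihedralGroup.r 1)]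
    · decide
    · intro a ha hag
      rw [← hrdef] at hag
      rw [Subgroup.mem_centralizer_singleton_iff, ← hrr]
      have h := hinv a r ha hag
      have h' : a * (r * r) * a⁻¹ = r * r := by
        rw [show a * (r * r) * a⁻¹ = (a * r * a⁻¹) * (a * r * a⁻¹) by group, h, ← mul_inv_rev,
          T.inv_rr]
      exact mul_inv_eq_iff_eq_mul.1 h'
  have hpt : Nat.card {a : G // orderOf a = 2 ∧ orderOf (a * (r * r)) = 2} = 4 := by
    rw [hrr, show t = ((e.symm (DihedralGroup.r 2) : H) : G) by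
      rw [← e_t ht e, MulEquiv.symm_apply_apply], card_pairs ht e (DihedralGroup.r 2)]
    · decide
    · intro a ha hag
      rw [← e_t ht e, MulEquiv.symm_apply_apply] at hag
      rw [Subgroup.mem_centralizer_singleton_iff]
      have h := hinv a t ha hag
      rw [htinv] at h
      exact mul_inv_eq_iff_eq_mul.1 h
  exact order T hperf hall hpt hpr hmod

end Group

end CfsgLib.CharactersDeep.DihedralEightOrder
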