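import Cfsg.Agent.CharactersDeep.TransferExtend
import Cfsg.Agent.Characters.Integrality
import Cfsg.Agent.Characters.Linear
import Mathlib.LinearAlgebra.Determinant
import Mathlib.GroupTheory.QuotientGroup.Basic
import Mathlib.GroupTheory.SpecificGroups.Cyclic
import Mathlib.GroupTheory.FiniteAbelian.Duality
import Mathlib.RingTheory.RootsOfUnity.AlgebraicallyClosed

/-!
# The projective extension of an invariant irreducible representation

For an irreducible representation `ρ` of a normal subgroup `N` of the finite group `G` whose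
character is invariant in `G`, the group `Gam N ρ` consists of the pairs `(g, T)` with
`T ρ(n) = ρ(g n g⁻¹) T` and `det(T) ^ |G| = 1`.  It is a finite central extension of `G` on which
`ρ` extends; `ρ` extends to `G` exactly when the scalar homomorphism `lam` on the preimage of `N`
extends to a homomorphism of `Gam N ρ`.
-/

set_option autoImplicit false
set_option linter.style.haveILetI false
set_option linter.unusedSectionVars false

namespace CfsgLib.CharactersDeep.Extension

open CfsgLib.Characters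

universe u

/-- A representation whose pullback has the character of `ρ` can be realised extending `ρ`. -/
theorem exists_rep_exact {A : Type*} [Group A] [Finite A] {B : Type*} [Group B] [Finite B] {d : ℕ}
    (ρ : Representation ℂ A (Fin d → ℂ)) (f : A →* B) {χ : B → ℂ} (hχ : Cfsg.IsCharacter B χ)
    (h : ∀ a, χ (f a) = ρ.character a) :
    ∃ R : Representation ℂ B (Fin d → ℂ), R.character = χ ∧ ∀ a, R (f a) = ρ a := by
  haveI := Fintype.ofFinite A
  obtain ⟨n, R₀, rfl⟩ := hχ
  obtain ⟨e⟩ := equiv_of_char_eq (R₀.comp f) ρ (funext h)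
  refine ⟨transport R₀ e.toLinearEquiv, char_transport R₀ _, fun a => LinearMap.ext fun x => ?_⟩
  obtain ⟨y, rfl⟩ := e.toLinearEquiv.surjective x
  rw [transport_apply, LinearEquiv.symm_apply_apply]
  exact equiv_map e a y

section

variable {G : Type u} [Group G] [Finite G] (N : Subgroup G) [hN : N.Normal] {d : ℕ}
  (ρ : Representation ℂ N (Fin d → ℂ))

/-- The finite central extension attached to `ρ`. -/
def Gam : Subgroup (G × (Module.End ℂ (Fin d → ℂ))ˣ) where
  carrier := {p | (∀ n : N, (p.2 : Module.End ℂ (Fin d → ℂ)) * ρ n =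
      ρ (MulAut.conjNormal p.1 n) * p.2) ∧
    LinearMap.det (p.2 : Module.End ℂ (Fin d → ℂ)) ^ Nat.card G = 1}
  one_mem' := ⟨fun n => by simp, by simp⟩
  mul_mem' := by
    rintro p q ⟨hp, hp'⟩ ⟨hq, hq'⟩
    refine ⟨fun n => ?_, ?_⟩
    · simp only [Prod.snd_mul, Prod.fst_mul, Units.val_mul]
      rw [mul_assoc, hq, ← mul_assoc, hp, mul_assoc, map_mul, MulAut.mul_apply]
    · simp only [Prod.snd_mul, Units.val_mul, map_mul, mul_pow, hp', hq', mul_one]
  inv_mem' := by
    rintro p ⟨hp, hp'⟩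
    refine ⟨fun n => ?_, ?_⟩
    · have h := hp (MulAut.conjNormal p.1⁻¹ n)
      rw [← MulAut.mul_apply, ← map_mul, mul_inv_cancel, map_one, MulAut.one_apply] at h
      simp only [Prod.snd_inv, Prod.fst_inv]
      calc ((p.2⁻¹ : (Module.End ℂ (Fin d → ℂ))ˣ) : Module.End ℂ (Fin d → ℂ)) * ρ n
          = (p.2⁻¹ : (Module.End ℂ (Fin d → ℂ))ˣ) * (ρ n * p.2) *
              (p.2⁻¹ : (Module.End ℂ (Fin d → ℂ))ˣ) := by
            rw [mul_assoc, mul_assoc, Units.mul_inv, mul_one]
        _ = (p.2⁻¹ : (Module.End ℂ (Fin d → ℂ))ˣ) * (p.2 * ρ (MulAut.conjNormal p.1⁻¹ n)) *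
              (p.2⁻¹ : (Module.End ℂ (Fin d → ℂ))ˣ) := by rw [h]
        _ = _ := by rw [← mul_assoc, Units.inv_mul, one_mul]
    · have h1 : LinearMap.det ((p.2⁻¹ : (Module.End ℂ (Fin d → ℂ))ˣ) : Module.End ℂ (Fin d → ℂ)) *
          LinearMap.det (p.2 : Module.End ℂ (Fin d → ℂ)) = 1 := by
        rw [← map_mul, Units.inv_mul, map_one]
      have h2 := congrArg (· ^ Nat.card G) h1
      simp only [mul_pow, hp', one_pow, mul_one] at h2
      simpa only [Prod.snd_inv] using h2

/-- The projection to `G`. -/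
def proj : Gam N ρ →* G := (MonoidHom.fst G _).comp (Gam N ρ).subtype

/-- The representation of `Gam N ρ`. -/
def op : Representation ℂ (Gam N ρ) (Fin d → ℂ) :=
  (Units.coeHom _).comp ((MonoidHom.snd G _).comp (Gam N ρ).subtype)

theorem op_intertwines (γ : Gam N ρ) (n : N) :
    op N ρ γ * ρ n = ρ (MulAut.conjNormal (proj N ρ γ) n) * op N ρ γ :=
  γ.2.1 n

theorem det_op_pow (γ : Gam N ρ) : LinearMap.det (op N ρ γ) ^ Nat.card G = 1 := γ.2.2

theorem det_ne_zero_of_rep {A : Type*} [Group A] (R : Representation ℂ A (Fin d → ℂ)) (a : A) :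
    LinearMap.det (R a) ≠ 0 := by
  intro h
  have := congrArg LinearMap.det (map_mul R a a⁻¹)
  rw [mul_inv_cancel, map_one, map_mul, h, zero_mul, map_one] at this
  exact one_ne_zero this

/-- The embedding of `N`. -/
noncomputable def emb : N →* Gam N ρ :=
  (N.subtype.prod ρ.toHomUnits).codRestrict _ fun n => by
    refine ⟨fun m => ?_, ?_⟩
    · simp only [MonoidHom.prod_apply, MonoidHom.coe_toHomUnits, Subgroup.coe_subtype]
      rw [← map_mul, ← map_mul]
      congr 1
      exact Subtype.ext (by simp [MulAut.conjNormal_apply])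
    · simp only [MonoidHom.prod_apply, MonoidHom.coe_toHomUnits]
      obtain ⟨k, hk⟩ := Subgroup.card_subgroup_dvd_card N
      rw [← map_pow, ← map_pow, hk, pow_mul, pow_card_eq_one', one_pow, map_one, map_one]

theorem proj_emb (n : N) : proj N ρ (emb N ρ n) = n := rfl

theorem op_emb (n : N) : op N ρ (emb N ρ n) = ρ n := by
  simp [op, emb]
  rfl

variable [hirr : ρ.IsIrreducible]

include hirr in
theorem smul_cancel {T : Module.End ℂ (Fin d → ℂ)} (hT : LinearMap.det T ≠ 0) {a b : ℂ}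
    (h : a • T = b • T) : a = b := by
  haveI := nontrivial_of_isIrreducible ρ
  by_contra hab
  have h1 : (a - b) • T = 0 := LinearMap.ext fun x => by
    have h2 := LinearMap.congr_fun h x
    simp only [LinearMap.smul_apply] at h2
    simp [sub_smul, h2]
  rw [smul_eq_zero, sub_eq_zero, or_iff_right hab] at h1
  rw [h1, LinearMap.det_zero] at hT
  rw [zero_pow Module.finrank_pos.ne'] at hT
  exact hT rfl

include hirr in
theorem dim_pos : 0 < d := by
  simpa using finrank_pos_of_isIrreducible ρ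

theorem proj_surjective (hinv : ∀ (g : G) (n : N),
    ρ.character (MulAut.conjNormal g n) = ρ.character n) : Function.Surjective (proj N ρ) := by
  haveI := Fintype.ofFinite N
  intro g
  obtain ⟨e⟩ := equiv_of_char_eq ρ (ρ.comp (MulAut.conjNormal (H := N) g).toMonoidHom)
    (funext fun n => (hinv g n).symm)
  set T : Module.End ℂ (Fin d → ℂ) := e.toLinearEquiv.toLinearMap with hTdef
  have hT : ∀ n : N, T * ρ n = ρ (MulAut.conjNormal g n) * T := fun n =>
    LinearMap.ext fun x => equiv_map e n x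
  have hdet : LinearMap.det T ≠ 0 := (LinearEquiv.isUnit_det' e.toLinearEquiv).ne_zero
  obtain ⟨c, hc⟩ := IsAlgClosed.exists_pow_nat_eq (LinearMap.det T)⁻¹ (dim_pos N ρ)
  have hc1 : LinearMap.det (c • T) = 1 := by
    rw [LinearMap.det_smul, Module.finrank_fin_fun, hc, inv_mul_cancel₀ hdet]
  have hu : IsUnit (c • T) := by
    rw [LinearMap.isUnit_iff_isUnit_det, hc1]; exact isUnit_one
  refine ⟨⟨(g, hu.unit), fun n => ?_, ?_⟩, rfl⟩
  · simp only [IsUnit.unit_spec, smul_mul_assoc, mul_smul_comm, hT]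
  · simp [IsUnit.unit_spec, hc1]

include hirr in
/-- The kernel consists of scalars. -/
theorem op_ker {γ : Gam N ρ} (h : proj N ρ γ = 1) : ∃ c : ℂ, op N ρ γ = c • LinearMap.id := by
  refine schur_scalar ρ _ fun n x => ?_
  have := op_intertwines N ρ γ n
  rw [h, map_one, MulAut.one_apply] at this
  exact LinearMap.congr_fun this x

theorem ext_gam {γ δ : Gam N ρ} (h₁ : proj N ρ γ = proj N ρ δ) (h₂ : op N ρ γ = op N ρ δ) :
    γ = δ :=
  Subtype.ext (Prod.ext h₁ (Units.ext h₂))

include hirr in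
/-- The kernel is central. -/
theorem ker_le_center : (proj N ρ).ker ≤ Subgroup.center (Gam N ρ) := by
  intro γ hγ
  rw [Subgroup.mem_center_iff]
  intro δ
  obtain ⟨c, hc⟩ := op_ker N ρ (MonoidHom.mem_ker.1 hγ)
  refine ext_gam N ρ ?_ ?_
  · rw [map_mul, map_mul, MonoidHom.mem_ker.1 hγ, mul_one, one_mul]
  · rw [map_mul, map_mul, hc]
    exact LinearMap.ext fun x => by simp

include hirr in
theorem finite_gam : Finite (Gam N ρ) := by
  haveI : Finite (proj N ρ).ker := by
    have hpos : 0 < d * Nat.card G := Nat.mul_pos (dim_pos N ρ) Nat.card_pos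
    choose c hc using fun γ : (proj N ρ).ker => op_ker N ρ (MonoidHom.mem_ker.1 γ.2)
    let f : (proj N ρ).ker → {z : ℂ | z ∈ Polynomial.nthRoots (d * Nat.card G) (1 : ℂ)} :=
      fun γ => ⟨c γ, by
        have h1 := det_op_pow N ρ γ.1
        rw [hc γ, LinearMap.det_smul, Module.finrank_fin_fun, LinearMap.det_id, mul_one,
          ← pow_mul] at h1
        exact (Polynomial.mem_nthRoots hpos).2 h1⟩
    haveI : Finite {z : ℂ | z ∈ Polynomial.nthRoots (d * Nat.card G) (1 : ℂ)} :=
      (Multiset.finite_toSet _).to_subtype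
    refine Finite.of_injective f fun a b hab => Subtype.ext (ext_gam N ρ ?_ ?_)
    · rw [MonoidHom.mem_ker.1 a.2, MonoidHom.mem_ker.1 b.2]
    · rw [hc a, hc b, show c a = c b from congrArg Subtype.val hab]
  haveI : Finite (Gam N ρ ⧸ (proj N ρ).ker) :=
    Finite.of_equiv _ (QuotientGroup.quotientKerEquivRange (proj N ρ)).symm.toEquiv
  exact Finite.of_equiv _ (Subgroup.groupEquivQuotientProdSubgroup (s := (proj N ρ).ker)).symm

variable {N ρ} in
include hirr in
theorem exists_scalar (H : Subgroup G) (hNH : N ≤ H) (R : Representation ℂ H (Fin d → ℂ))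
    (hR : ∀ n : N, R ⟨n, hNH n.2⟩ = ρ n) (γ : H.comap (proj N ρ)) :
    ∃ c : ℂ, op N ρ γ = c • R ⟨proj N ρ γ, Subgroup.mem_comap.1 γ.2⟩ := by
  set h : H := ⟨proj N ρ γ, Subgroup.mem_comap.1 γ.2⟩
  have hcomm : ∀ (n : N) (x : Fin d → ℂ),
      (R h⁻¹ * op N ρ γ) (ρ n x) = ρ n ((R h⁻¹ * op N ρ γ) x) := by
    intro n
    refine fun x => LinearMap.congr_fun (?_ : R h⁻¹ * op N ρ γ * ρ n = ρ n * (R h⁻¹ * op N ρ γ)) x
    rw [mul_assoc, op_intertwines, ← hR, ← hR, ← mul_assoc, ← map_mul, ← mul_assoc, ← map_mul]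
    congr 2
    apply Subtype.ext
    simp [h, MulAut.conjNormal_apply, mul_assoc]
  obtain ⟨c, hc⟩ := schur_scalar ρ _ hcomm
  refine ⟨c, ?_⟩
  have := congrArg (R h * ·) hc
  simp only [← mul_assoc, ← map_mul, mul_inv_cancel, map_one, one_mul] at this
  rw [this]
  exact LinearMap.ext fun x => by simp

/-- The homomorphism by which `op` differs from a representation of a subgroup extending `ρ`. -/
noncomputable def scalarHom (H : Subgroup G) (hNH : N ≤ H) (R : Representation ℂ H (Fin d → ℂ))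
    (hR : ∀ n : N, R ⟨n, hNH n.2⟩ = ρ n) : H.comap (proj N ρ) →* ℂˣ :=
  MonoidHom.toHomUnits
    { toFun := fun γ => (exists_scalar H hNH R hR γ).choose
      map_one' := by
        refine smul_cancel N ρ (det_ne_zero_of_rep R 1) ?_
        have h := (exists_scalar H hNH R hR 1).choose_spec
        generalize (exists_scalar H hNH R hR 1).choose = c at h ⊢
        have e : (⟨proj N ρ ((1 : H.comap (proj N ρ)) : Gam N ρ), Subgroup.mem_comap.1
            (1 : H.comap (proj N ρ)).2⟩ : H) = 1 := Subtype.ext (by simp)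
        rw [e, map_one, OneMemClass.coe_one, map_one] at h
        rw [one_smul, map_one, ← h]
      map_mul' := fun γ δ => by
        refine smul_cancel N ρ (det_ne_zero_of_rep R (⟨_, Subgroup.mem_comap.1 γ.2⟩ *
          ⟨_, Subgroup.mem_comap.1 δ.2⟩)) ?_
        have h := (exists_scalar H hNH R hR (γ * δ)).choose_spec
        generalize (exists_scalar H hNH R hR (γ * δ)).choose = c at h ⊢
        have e : (⟨proj N ρ ((γ * δ : H.comap (proj N ρ)) : Gam N ρ), Subgroup.mem_comap.1
            (γ * δ).2⟩ : H) = (⟨_, Subgroup.mem_comap.1 γ.2⟩ : H) *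
              ⟨_, Subgroup.mem_comap.1 δ.2⟩ := Subtype.ext (by simp)
        rw [e] at h
        have hγ := (exists_scalar H hNH R hR γ).choose_spec
        have hδ := (exists_scalar H hNH R hR δ).choose_spec
        generalize (exists_scalar H hNH R hR γ).choose = a at hγ ⊢
        generalize (exists_scalar H hNH R hR δ).choose = b at hδ ⊢
        rw [← h, Subgroup.coe_mul, map_mul, hγ, hδ, smul_mul_smul_comm, ← map_mul] }

theorem scalarHom_spec (H : Subgroup G) (hNH : N ≤ H) (R : Representation ℂ H (Fin d → ℂ))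
    (hR : ∀ n : N, R ⟨n, hNH n.2⟩ = ρ n) (γ : H.comap (proj N ρ)) :
    op N ρ γ = (scalarHom N ρ H hNH R hR γ : ℂ) • R ⟨proj N ρ γ, Subgroup.mem_comap.1 γ.2⟩ := by
  rw [scalarHom, MonoidHom.coe_toHomUnits]
  exact (exists_scalar H hNH R hR γ).choose_spec

/-- The preimage of `N`. -/
noncomputable abbrev base : Subgroup (Gam N ρ) := N.comap (proj N ρ)

/-- The scalar homomorphism on the preimage of `N`. -/
noncomputable def lam : base N ρ →* ℂˣ := scalarHom N ρ N le_rfl ρ fun _ => rfl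

theorem lam_spec (γ : base N ρ) : op N ρ γ = (lam N ρ γ : ℂ) • ρ ⟨proj N ρ γ, Subgroup.mem_comap.1 γ.2⟩ :=
  scalarHom_spec N ρ N le_rfl ρ (fun _ => rfl) γ

theorem lam_invariant (γ : Gam N ρ) (m : base N ρ) :
    lam N ρ ⟨γ * m * γ⁻¹, Subgroup.Normal.conj_mem inferInstance _ m.2 γ⟩ = lam N ρ m := by
  apply Units.ext
  set m' : base N ρ := ⟨γ * m * γ⁻¹, Subgroup.Normal.conj_mem inferInstance _ m.2 γ⟩
  refine smul_cancel N ρ (det_ne_zero_of_rep ρ ⟨proj N ρ m', Subgroup.mem_comap.1 m'.2⟩) ?_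
  rw [← lam_spec N ρ m']
  have h := op_intertwines N ρ γ ⟨proj N ρ m, Subgroup.mem_comap.1 m.2⟩
  simp only [m', map_mul]
  rw [lam_spec N ρ m, mul_smul_comm, h, smul_mul_assoc, mul_assoc, ← map_mul (op N ρ),
    mul_inv_cancel, map_one, mul_one]
  congr 2

/-- If `lam` extends, `ρ` extends. -/
theorem extends_of_hom (hsurj : Function.Surjective (proj N ρ)) (μ : Gam N ρ →* ℂˣ)
    (hμ : ∀ γ : base N ρ, μ γ = lam N ρ γ) :
    ∃ R : Representation ℂ G (Fin d → ℂ), ∀ n : N, R n = ρ n := by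
  let f : Gam N ρ →* Module.End ℂ (Fin d → ℂ) :=
    { toFun := fun γ => ((μ γ)⁻¹ : ℂˣ).val • op N ρ γ
      map_one' := by simp
      map_mul' := fun a b => by
        simp only [map_mul, mul_inv, Units.val_mul, smul_mul_smul_comm] }
  have hf : ∀ γ : base N ρ, f γ = ρ ⟨proj N ρ γ, Subgroup.mem_comap.1 γ.2⟩ := fun γ => by
    change ((μ γ)⁻¹ : ℂˣ).val • op N ρ γ = _
    rw [lam_spec, hμ, smul_smul, Units.inv_mul, one_smul]
  have hker : (proj N ρ).ker ≤ f.ker := by
    intro γ hγ
    have hγN : γ ∈ base N ρ := by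
      rw [Subgroup.mem_comap, MonoidHom.mem_ker.1 hγ]; exact N.one_mem
    refine MonoidHom.mem_ker.2 ((hf ⟨γ, hγN⟩).trans ?_)
    rw [show (⟨proj N ρ γ, hγN⟩ : N) = 1 from Subtype.ext (MonoidHom.mem_ker.1 hγ), map_one]
  refine ⟨(QuotientGroup.lift _ f hker).comp
    (QuotientGroup.quotientKerEquivOfSurjective (proj N ρ) hsurj).symm.toMonoidHom, fun n => ?_⟩
  have h1 : (QuotientGroup.quotientKerEquivOfSurjective (proj N ρ) hsurj).symm (n : G) =
      (emb N ρ n : Gam N ρ ⧸ (proj N ρ).ker) := by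
    rw [MulEquiv.symm_apply_eq]; rfl
  simp only [MonoidHom.comp_apply, MulEquiv.coe_toMonoidHom, h1, QuotientGroup.lift_mk]
  exact hf ⟨emb N ρ n, n.2⟩

/-- `lam` raised to the dimension extends when the determinant does. -/
theorem exponent_det (μ₀ : G →* ℂˣ) (hμ₀ : ∀ n : N, (μ₀ n : ℂ) = LinearMap.det (ρ n)) :
    (d : ℤ) ∈ TransferExtend.extExponents (base N ρ) (lam N ρ) := by
  refine ⟨((LinearMap.det (A := ℂ) (M := Fin d → ℂ)).comp (op N ρ)).toHomUnits /
    μ₀.comp (proj N ρ), fun γ => Units.ext ?_⟩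
  rw [MonoidHom.div_apply, Units.val_div_eq_div_val, MonoidHom.coe_toHomUnits,
    MonoidHom.comp_apply, MonoidHom.comp_apply, lam_spec, LinearMap.det_smul,
    Module.finrank_fin_fun, hμ₀ ⟨_, γ.2⟩, mul_div_assoc, div_self (det_ne_zero_of_rep ρ _),
    mul_one, zpow_natCast, Units.val_pow_eq_pow_val]

/-- The index of a subgroup carrying an extension is an exponent. -/
theorem exponent_index (hsurj : Function.Surjective (proj N ρ)) (H : Subgroup G) (hNH : N ≤ H)
    (R : Representation ℂ H (Fin d → ℂ)) (hR : ∀ n : N, R ⟨n, hNH n.2⟩ = ρ n) :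
    (H.index : ℤ) ∈ TransferExtend.extExponents (base N ρ) (lam N ρ) := by
  haveI := finite_gam N ρ
  obtain ⟨μ, hμ⟩ := TransferExtend.exists_extend_pow_index (base N ρ) (H.comap (proj N ρ))
    (Subgroup.comap_mono hNH) (lam N ρ) (lam_invariant N ρ) (scalarHom N ρ H hNH R hR) fun γ => by
      apply Units.ext
      refine smul_cancel N ρ (det_ne_zero_of_rep R ⟨proj N ρ γ, hNH γ.2⟩) ?_
      rw [← scalarHom_spec N ρ H hNH R hR ⟨γ, _⟩, lam_spec, ← hR ⟨_, γ.2⟩]
  rw [Subgroup.index_comap_of_surjective _ hsurj] at hμ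
  exact ⟨μ, fun n => by simpa using hμ n⟩

/-- The index of `N` is an exponent. -/
theorem exponent_index_self (hsurj : Function.Surjective (proj N ρ)) :
    (N.index : ℤ) ∈ TransferExtend.extExponents (base N ρ) (lam N ρ) :=
  exponent_index N ρ hsurj N le_rfl ρ fun _ => rfl

/-- A cyclic quotient is no obstruction. -/
theorem extends_of_cyclic (hcyc : IsCyclic (G ⧸ N)) :
    ∃ μ : Gam N ρ →* ℂˣ, ∀ γ : base N ρ, μ γ = lam N ρ γ := by
  haveI := finite_gam N ρ
  let K : Subgroup (Gam N ρ) := (lam N ρ).ker.map (base N ρ).subtype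
  haveI : K.Normal := by
    constructor
    rintro _ ⟨m, hm, rfl⟩ γ
    exact ⟨⟨γ * m * γ⁻¹, Subgroup.Normal.conj_mem inferInstance _ m.2 γ⟩,
      MonoidHom.mem_ker.2 ((lam_invariant N ρ γ m).trans (MonoidHom.mem_ker.1 hm)), rfl⟩
  let q : Gam N ρ ⧸ K →* G ⧸ N := QuotientGroup.lift K ((QuotientGroup.mk' N).comp (proj N ρ)) (by
    rintro _ ⟨m, -, rfl⟩
    rw [MonoidHom.mem_ker]
    exact (QuotientGroup.eq_one_iff _).2 m.2)
  have hqker : q.ker ≤ Subgroup.center (Gam N ρ ⧸ K) := by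
    intro x hx
    obtain ⟨m, rfl⟩ := QuotientGroup.mk_surjective x
    have hm : m ∈ base N ρ :=
      (QuotientGroup.eq_one_iff (proj N ρ m)).1 (MonoidHom.mem_ker.1 hx)
    rw [Subgroup.mem_center_iff]
    intro y
    obtain ⟨γ, rfl⟩ := QuotientGroup.mk_surjective y
    rw [← QuotientGroup.mk_mul, ← QuotientGroup.mk_mul, QuotientGroup.eq]
    let c : base N ρ := ⟨γ⁻¹ * m * γ⁻¹⁻¹, Subgroup.Normal.conj_mem inferInstance _ hm γ⁻¹⟩
    refine ⟨(⟨m, hm⟩ : base N ρ)⁻¹ * c, ?_, ?_⟩
    · show lam N ρ _ = 1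
      rw [map_mul, show lam N ρ c = lam N ρ ⟨m, hm⟩ from lam_invariant N ρ γ⁻¹ ⟨m, hm⟩,
        ← map_mul, inv_mul_cancel, map_one]
    · show m⁻¹ * (γ⁻¹ * m * γ⁻¹⁻¹) = (γ * m)⁻¹ * (m * γ)
      group
  haveI := q.isMulCommutative_of_isCyclic_of_ker_le_center hqker
  letI : CommGroup (Gam N ρ ⧸ K) :=
    { (inferInstance : Group (Gam N ρ ⧸ K)) with mul_comm := IsMulCommutative.is_comm.comm }
  let m : base N ρ →* (base N ρ).map (QuotientGroup.mk' K) :=
    (QuotientGroup.mk' K).subgroupMap (base N ρ)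
  have hmker : m.ker ≤ (lam N ρ).ker := by
    intro γ hγ
    have h1 : (QuotientGroup.mk' K) (γ : Gam N ρ) = 1 :=
      congrArg Subtype.val (MonoidHom.mem_ker.1 hγ)
    obtain ⟨γ', hγ', hval⟩ := (QuotientGroup.eq_one_iff _).1 h1
    rwa [← Subtype.ext hval]
  let lam' := m.liftOfSurjective ((QuotientGroup.mk' K).subgroupMap_surjective (base N ρ))
    ⟨lam N ρ, hmker⟩
  haveI : NeZero (Monoid.exponent (Gam N ρ ⧸ K) : ℂ) :=
    ⟨Nat.cast_ne_zero.2 Monoid.exponent_ne_zero_of_finite⟩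
  obtain ⟨μ, hμ⟩ := MonoidHom.domRestrict_surjective (M := ℂ)
    ((base N ρ).map (QuotientGroup.mk' K)) lam'
  refine ⟨μ.comp (QuotientGroup.mk' K), fun γ => ?_⟩
  have h2 : lam' (m γ) = lam N ρ γ := MonoidHom.liftOfRightInverse_comp_apply _ _ _ _ _
  rw [← h2, ← hμ]
  rfl

end

end CfsgLib.CharactersDeep.Extension
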