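import Cfsg.Agent.ExtraspecialBasic.Order
import Cfsg.Agent.Characters.Linear
import Cfsg.Agent.Characters.Induction
import Cfsg.Agent.Characters.Classes

/-!
# The irreducible characters of an extraspecial group

A nonlinear irreducible character vanishes outside the centre and has degree `p ^ n`.
-/

set_option autoImplicit false
set_option linter.style.haveILetI false
set_option linter.unusedSectionVars false

namespace CfsgLib.CharactersDeep.Extraspecial

open scoped ComplexConjugate commutatorElement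
open CfsgLib.Characters

universe u

variable {P : Type u} [Group P] {p n : ℕ}

/-- A function translated by a nontrivial factor along a commutator vanishes there. -/
theorem eq_zero_of_translate {f : P → ℂ} (hcl : Cfsg.IsClassFunction P f) {x y : P} {μ : ℂ}
    (hμ : μ ≠ 1) (h : f (⁅y, x⁆ * x) = μ * f x) : f x = 0 := by
  have h1 : ⁅y, x⁆ * x = y * x * y⁻¹ := by rw [commutatorElement_def, inv_mul_cancel_right]
  rw [h1, hcl x y] at h
  exact (mul_eq_zero.1 (show (μ - 1) * f x = 0 by linear_combination -h)).resolve_left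
    (sub_ne_zero.2 hμ)

theorem exists_commutator [hp : Fact p.Prime] (hP : Cfsg.IsExtraspecial p P) {x : P}
    (hx : x ∉ Subgroup.center P) :
    ∃ y : P, ∀ z ∈ Subgroup.center P, ∃ i : ℤ, ⁅y, x⁆ ^ i = z := by
  obtain ⟨y, hy⟩ := not_forall.1 (fun h => hx (Subgroup.mem_center_iff.2 h))
  refine ⟨y, fun z hz => ?_⟩
  have hc : (⟨⁅y, x⁆, ExtraspecialBasic.commutator_mem_center hP y x⟩ : Subgroup.center P) ≠ 1 :=
    fun h => hy (commutatorElement_eq_one_iff_commute.1 (congrArg Subtype.val h)).eq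
  obtain ⟨i, hi⟩ := Subgroup.mem_zpowers_iff.1
    (mem_zpowers_of_prime_card hP.2 hc (g' := ⟨z, hz⟩))
  exact ⟨i, by simpa using congrArg Subtype.val hi⟩

theorem scalar_pow {V : Type*} [AddCommGroup V] [Module ℂ V] (ρ : Representation ℂ P V) {c : P}
    (hc : ρ c = LinearMap.id) (i : ℤ) : ρ (c ^ i) = LinearMap.id := by
  have h : c ∈ MonoidHom.ker ρ := MonoidHom.mem_ker.2 hc
  exact MonoidHom.mem_ker.1 (Subgroup.zpow_mem _ h i)

/-- The norm of a function supported on the centre, of constant absolute value there. -/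
theorem classInner_of_support [Fintype P] (hP : Cfsg.IsExtraspecial p P) {f : P → ℂ} {d : ℕ}
    (hout : ∀ x, x ∉ Subgroup.center P → f x = 0) (hin : ∀ z ∈ Subgroup.center P, ‖f z‖ = d) :
    Cfsg.classInner f f = (Nat.card P : ℂ)⁻¹ * ((p : ℂ) * (d : ℂ) ^ 2) := by
  classical
  rw [Cfsg.classInner]
  congr 1
  rw [← Finset.sum_subset (Finset.subset_univ (Finset.univ.filter (· ∈ Subgroup.center P)))
    (fun x _ hx => by rw [hout x (by simpa using hx), zero_mul]),
    Finset.sum_congr rfl (g := fun _ => (d : ℂ) ^ 2) fun z hz => ?_, Finset.sum_const,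
    nsmul_eq_mul]
  · congr 2
    rw [← Fintype.card_subtype, ← Nat.card_eq_fintype_card]
    exact hP.2
  · rw [Complex.mul_conj', hin z (Finset.mem_filter.1 hz).2, Complex.ofReal_natCast]

/-- A linear character, or one of degree `p ^ n` vanishing outside the centre. -/
theorem dichotomy [Fintype P] [hp : Fact p.Prime] (hP : Cfsg.IsExtraspecial p P)
    (hcard : Nat.card P = p ^ (2 * n + 1)) {χ : P → ℂ} (hχ : Cfsg.IsIrrCharacter P χ) :
    χ 1 = 1 ∨ ((χ 1 = (p : ℂ) ^ n) ∧ ∀ x, x ∉ Subgroup.center P → χ x = 0) := by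
  classical
  obtain ⟨d, ρ, hρ, rfl⟩ := hχ
  haveI := hρ
  have hself : Cfsg.classInner ρ.character ρ.character = 1 :=
    classInner_isIrr_self (isIrrCharacter_character ρ)
  have hone : ρ.character 1 = (d : ℂ) := by rw [Representation.char_one, Module.finrank_fin_fun]
  have hscal : ∀ z ∈ Subgroup.center P, ‖ρ.character z‖ = (d : ℝ) := fun z hz => by
    have h := (norm_char_eq_iff_scalar ρ z).2
      (central_scalar ρ hz)
    rwa [Module.finrank_fin_fun] at h
  have hd : 0 < d := by
    have := finrank_pos_of_isIrreducible ρ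
    rwa [Module.finrank_fin_fun] at this
  by_cases hker : ∀ z ∈ Subgroup.center P, ρ z = LinearMap.id
  · left
    have hnorm : ∀ g : P, ‖ρ.character g‖ = (d : ℝ) := fun g => by
      refine (norm_char_eq_iff_scalar ρ g).2 ?_ |>.trans (by rw [Module.finrank_fin_fun])
      refine schur_scalar ρ (ρ g) fun h x => ?_
      have hc : ρ (g * h) = ρ (h * g) := by
        rw [show h * g = ⁅h, g⁆ * (g * h) by rw [commutatorElement_def]; group, map_mul ρ ⁅h, g⁆,
          hker _ (ExtraspecialBasic.commutator_mem_center hP h g), Module.End.mul_eq_comp,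
          LinearMap.id_comp]
      rw [map_mul, map_mul] at hc
      exact LinearMap.congr_fun hc x
    rw [Cfsg.classInner, Finset.sum_congr rfl (g := fun _ => (d : ℂ) ^ 2)
      fun g _ => by rw [Complex.mul_conj', hnorm g, Complex.ofReal_natCast],
      Finset.sum_const, Finset.card_univ, nsmul_eq_mul, ← Nat.card_eq_fintype_card, ← mul_assoc,
      inv_mul_cancel₀ natCard_ne_zero, one_mul] at hself
    rw [hone, show d = 1 from Nat.pow_left_injective two_ne_zero (by simpa using (by exact_mod_cast hself : d ^ 2 = 1)),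
      Nat.cast_one]
  · right
    push Not at hker
    obtain ⟨z, hz, hz1⟩ := hker
    have hout : ∀ x, x ∉ Subgroup.center P → ρ.character x = 0 := by
      intro x hx
      obtain ⟨y, hy⟩ := exists_commutator hP hx
      obtain ⟨ω, hω⟩ := central_scalar ρ (ExtraspecialBasic.commutator_mem_center hP y x)
      refine eq_zero_of_translate (y := y) (μ := ω)
        (isClassFunction_of_isIrr (isIrrCharacter_character ρ)) (fun h => hz1 ?_) ?_
      · obtain ⟨i, rfl⟩ := hy z hz
        exact scalar_pow ρ (by rw [hω, h, one_smul]) i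
      · rw [Representation.character, Representation.character, map_mul, hω,
          Module.End.mul_eq_comp, LinearMap.smul_comp, LinearMap.id_comp, map_smul, smul_eq_mul]
    refine ⟨?_, hout⟩
    rw [classInner_of_support hP hout hscal, hcard] at hself
    have hp0 : (p : ℂ) ≠ 0 := Nat.cast_ne_zero.2 hp.out.ne_zero
    have h2 : (d : ℂ) ^ 2 = ((p : ℂ) ^ n) ^ 2 := by
      push_cast at hself
      field_simp at hself
      refine mul_left_cancel₀ hp0 (hself.trans ?_)
      ring
    rw [hone]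
    exact_mod_cast Nat.pow_left_injective two_ne_zero (show d ^ 2 = (p ^ n) ^ 2 by exact_mod_cast h2)

theorem one_le_n [Finite P] [hp : Fact p.Prime] (hP : Cfsg.IsExtraspecial p P)
    (hcard : Nat.card P = p ^ (2 * n + 1)) : n ≠ 0 := by
  rintro rfl
  have htop : Subgroup.center P = ⊤ := Subgroup.eq_top_of_card_eq _ (by rw [hP.2, hcard]; simp)
  have hbot : commutator P = ⊥ := by
    rw [commutator_def, Subgroup.commutator_eq_bot_iff_le_centralizer]
    intro x _
    exact Subgroup.centralizer_le (Set.subset_univ _)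
      (by rw [Subgroup.centralizer_univ, htop]; exact Subgroup.mem_top x)
  rw [hP.1.2.2] at hbot
  have := hP.2
  rw [hbot, Subgroup.card_bot] at this
  exact hp.out.one_lt.ne this

/-- The degrees, and the number of nonlinear irreducible characters. -/
theorem degrees [Finite P] [hp : Fact p.Prime] (hP : Cfsg.IsExtraspecial p P)
    (hcard : Nat.card P = p ^ (2 * n + 1)) :
    (∀ χ : Cfsg.IrrCharacter P, (χ : P → ℂ) 1 = 1 ∨ (χ : P → ℂ) 1 = (p : ℂ) ^ n) ∧
      Nat.card {χ : Cfsg.IrrCharacter P // (χ : P → ℂ) 1 = (p : ℂ) ^ n} = p - 1 := by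
  classical
  haveI := Fintype.ofFinite P
  have hdeg := fun χ : Cfsg.IrrCharacter P => (dichotomy hP hcard χ.2).imp_right And.left
  refine ⟨hdeg, ?_⟩
  have hne : (p : ℂ) ^ n ≠ 1 := by
    exact_mod_cast (Nat.one_lt_pow (one_le_n hP hcard) hp.out.one_lt).ne'
  have hidx : (commutator P).index = p ^ (2 * n) := by
    have h := Subgroup.card_mul_index (commutator P)
    rw [hP.1.2.2, hP.2, hcard, pow_succ'] at h
    rw [hP.1.2.2]
    exact Nat.eq_of_mul_eq_mul_left hp.out.pos h
  have hsum := sum_degree_sq (G := P)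
  rw [← Finset.sum_filter_add_sum_filter_not Finset.univ
    (fun χ : Cfsg.IrrCharacter P => (χ : P → ℂ) 1 = 1),
    Finset.sum_congr (f := fun χ : Cfsg.IrrCharacter P => (χ : P → ℂ) 1 ^ 2)
      (s₁ := Finset.univ.filter (fun χ : Cfsg.IrrCharacter P => (χ : P → ℂ) 1 = 1)) rfl
      (g := fun _ => (1 : ℂ)) (fun χ hχ => by simp [(Finset.mem_filter.1 hχ).2]),
    Finset.sum_congr (f := fun χ : Cfsg.IrrCharacter P => (χ : P → ℂ) 1 ^ 2)
      (s₁ := Finset.univ.filter (fun χ : Cfsg.IrrCharacter P => ¬ (χ : P → ℂ) 1 = 1)) rfl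
      (g := fun _ => ((p : ℂ) ^ n) ^ 2)
      (fun χ hχ => by simp [(hdeg χ).resolve_left (Finset.mem_filter.1 hχ).2]),
    Finset.sum_const, Finset.sum_const, ← Fintype.card_subtype, ← Nat.card_eq_fintype_card,
    card_linear_char, hidx] at hsum
  rw [Nat.card_eq_fintype_card, Fintype.card_subtype]
  set M := Finset.univ.filter (fun χ : Cfsg.IrrCharacter P => ¬ (χ : P → ℂ) 1 = 1) with hM
  have hsum' : p ^ (2 * n) + M.card * p ^ (2 * n) = p ^ (2 * n + 1) := by
    rw [hcard] at hsum
    simp only [nsmul_eq_mul, mul_one] at hsum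
    apply Nat.cast_injective (R := ℂ)
    push_cast at hsum ⊢
    linear_combination hsum
  have hMc : M.card + 1 = p := Nat.eq_of_mul_eq_mul_right (pow_pos hp.out.pos (2 * n))
    (show (M.card + 1) * p ^ (2 * n) = p * p ^ (2 * n) by rw [← pow_succ', ← hsum']; ring)
  rw [show Finset.univ.filter (fun χ : Cfsg.IrrCharacter P => (χ : P → ℂ) 1 = (p : ℂ) ^ n) = M from
    Finset.filter_congr fun χ _ => ⟨fun h h1 => hne (h ▸ h1), fun h => (hdeg χ).resolve_left h⟩]
  omega

/-- Induction from an abelian subgroup of order `p ^ (n + 1)`. -/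
theorem induced [Fintype P] [hp : Fact p.Prime] (hP : Cfsg.IsExtraspecial p P)
    (hcard : Nat.card P = p ^ (2 * n + 1)) (A : Subgroup P) (hA : Nat.card A = p ^ (n + 1))
    {lam : A → ℂ} (hlam : Cfsg.IsCharacter A lam ∧ lam 1 = 1)
    (hZ : ∃ a : A, (a : P) ∈ Subgroup.center P ∧ lam a ≠ 1) :
    Cfsg.IsIrrCharacter P (Cfsg.indFun A lam) ∧
      ∀ x : P, x ∉ Subgroup.center P → Cfsg.indFun A lam x = 0 := by
  classical
  obtain ⟨f, hf⟩ := exists_hom_of_degree_one hlam.1 hlam.2
  obtain ⟨a, ha, ha1⟩ := hZ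
  have hgen : ∀ z : Subgroup.center P, z ∈ Subgroup.zpowers (⟨(a : P), ha⟩ : Subgroup.center P) :=
    fun z => mem_zpowers_of_prime_card hP.2 fun h => ha1 (by
      have h' : a = 1 := Subtype.ext (congrArg Subtype.val h :)
      rw [h', hlam.2])
  have hZA : Subgroup.center P ≤ A := fun z hz => by
    obtain ⟨i, hi⟩ := Subgroup.mem_zpowers_iff.1 (hgen ⟨z, hz⟩)
    rw [show z = (a : P) ^ i by simpa using (congrArg Subtype.val hi).symm]
    exact A.zpow_mem a.2 i
  have hcl := isClassFunction_indFun A lam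
  have hmulz : ∀ (z : A), (z : P) ∈ Subgroup.center P → ∀ g,
      Cfsg.indFun A lam ((z : P) * g) = lam z * Cfsg.indFun A lam g := by
    intro z hz g
    simp only [Cfsg.indFun]
    rw [mul_left_comm]
    congr 1
    rw [Finset.mul_sum]
    refine Finset.sum_congr rfl fun x _ => ?_
    rw [show x⁻¹ * ((z : P) * g) * x = (z : P) * (x⁻¹ * g * x) by
      rw [← mul_assoc x⁻¹, Subgroup.mem_center_iff.1 hz x⁻¹]; group]
    by_cases hx : x⁻¹ * g * x ∈ A
    · rw [extendByZero_of_mem _ _ (A.mul_mem z.2 hx), extendByZero_of_mem _ _ hx, hf,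
        ← Units.val_mul, ← map_mul]
      rfl
    · rw [extendByZero_of_not_mem _ _ fun h => hx ((A.mul_mem_cancel_left z.2).1 h),
        extendByZero_of_not_mem _ _ hx, mul_zero]
  have hout : ∀ x : P, x ∉ Subgroup.center P → Cfsg.indFun A lam x = 0 := by
    intro x hx
    obtain ⟨y, hy⟩ := exists_commutator hP hx
    have hcA := hZA (ExtraspecialBasic.commutator_mem_center hP y x)
    refine eq_zero_of_translate (y := y) (μ := lam ⟨_, hcA⟩) hcl (fun h => ha1 ?_)
      (hmulz ⟨_, hcA⟩ (ExtraspecialBasic.commutator_mem_center hP y x) x)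
    obtain ⟨i, hi⟩ := hy a ha
    have hfc : f ⟨_, hcA⟩ = 1 := Units.ext (by rw [Units.val_one, ← h, hf])
    have hai : a = (⟨_, hcA⟩ : A) ^ i := Subtype.ext (by rw [SubgroupClass.coe_zpow, hi])
    simp only [hf, hai, map_zpow, hfc, one_zpow, Units.val_one]
  have hidx : A.index = p ^ n := by
    have h := A.card_mul_index
    rw [hA, hcard, show p ^ (2 * n + 1) = p ^ (n + 1) * p ^ n by ring] at h
    exact Nat.eq_of_mul_eq_mul_left (pow_pos hp.out.pos _) h
  have hin : ∀ z ∈ Subgroup.center P, ‖Cfsg.indFun A lam z‖ = ((p ^ n : ℕ) : ℝ) := by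
    intro z hz
    have h := hmulz ⟨z, hZA hz⟩ hz 1
    rw [mul_one, indFun_one, hlam.2, mul_one, hidx] at h
    have hord : ‖lam ⟨z, hZA hz⟩‖ = 1 := by
      rw [hf]
      refine Complex.norm_eq_one_of_pow_eq_one (n := Nat.card A) ?_ Nat.card_pos.ne'
      rw [← Units.val_pow_eq_pow_val, ← map_pow, pow_card_eq_one', map_one, Units.val_one]
    simp [h, hord]
  refine ⟨isIrr_of_classInner_self (isCharacter_indFun A hlam.1) ?_, hout⟩
  rw [classInner_of_support hP hout hin, hcard]
  push_cast
  rw [show (p : ℂ) * ((p : ℂ) ^ n) ^ 2 = (p : ℂ) ^ (2 * n + 1) by ring]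
  exact inv_mul_cancel₀ (pow_ne_zero _ (Nat.cast_ne_zero.2 hp.out.ne_zero))

end CfsgLib.CharactersDeep.Extraspecial
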