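import Mathlib.GroupTheory.Sylow
import Cfsg.Prelude.Def_Characters

/-!
# T.I. subgroups with Frobenius normaliser

Standing hypotheses: `K` meets its conjugates outside its normaliser trivially and contains the
centraliser of each of its non-identity elements.
-/

set_option autoImplicit false

namespace CfsgLib.CharactersDeep.FrobeniusTI

variable {G : Type*} [Group G] [Finite G]

theorem coprime_card_index (K : Subgroup G)
    (hC : ∀ k ∈ K, k ≠ 1 → Subgroup.centralizer ({k} : Set G) ≤ K) :
    Nat.Coprime (Nat.card K) (K.subgroupOf (Subgroup.normalizer (K : Set G))).index := by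
  set N := Subgroup.normalizer (K : Set G) with hN
  set K' := K.subgroupOf N with hK'
  haveI : K'.Normal := Subgroup.normal_subgroupOf_iff_le_normalizer Subgroup.le_normalizer |>.mpr le_rfl
  rw [← Nat.card_congr (Subgroup.subgroupOfEquivOfLe (Subgroup.le_normalizer (H := K))).toEquiv]
  refine Nat.coprime_of_dvd fun p hp hpK hpI => ?_
  haveI := Fact.mk hp
  obtain ⟨P⟩ : Nonempty (Sylow p N) := inferInstance
  letI : MulAction (P : Subgroup N) K' :=
    MulAction.compHom K' ((MulAut.conjNormal (H := K')).comp (P : Subgroup N).subtype)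
  obtain ⟨z, hz, hz1⟩ :=
    P.isPGroup'.exists_fixed_point_of_prime_dvd_card_of_fixed_point K' hpK (a := 1)
      (fun g => map_one (MulAut.conjNormal (H := K') (g : N)))
  have hzK : ((z : N) : G) ∈ K := Subgroup.mem_subgroupOf.mp z.2
  have hle : (P : Subgroup N) ≤ K' := by
    intro x hx
    refine hC _ hzK (fun h => hz1 (Subtype.ext (Subtype.ext h.symm))) ?_
    rw [Subgroup.mem_centralizer_singleton_iff]
    have h : MulAut.conjNormal (H := K') (x : N) z = z := hz ⟨x, hx⟩
    have h' : (x : N) * z * x⁻¹ = z := by
      rw [← MulAut.conjNormal_apply, h]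
    exact congrArg (fun y : N => (y : G)) (mul_inv_eq_iff_eq_mul.mp h')
  exact P.not_dvd_index (hpI.trans (Subgroup.index_dvd_of_le hle))

/-- No element of the normaliser outside `K` is conjugate to an element of `K`. -/
theorem conj_notMem (K : Subgroup G)
    (hC : ∀ k ∈ K, k ≠ 1 → Subgroup.centralizer ({k} : Set G) ≤ K)
    {x : G} (hxN : x ∈ Subgroup.normalizer (K : Set G)) (hxK : x ∉ K) (g : G) :
    g * x * g⁻¹ ∉ K := by
  intro hgx
  set N := Subgroup.normalizer (K : Set G) with hN
  set K' := K.subgroupOf N with hK'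
  haveI : K'.Normal := Subgroup.normal_subgroupOf_iff_le_normalizer Subgroup.le_normalizer |>.mpr le_rfl
  have h1 : orderOf x ∣ Nat.card K := by
    have : orderOf (g * x * g⁻¹) = orderOf x := by
      simpa using MulEquiv.orderOf_eq (MulAut.conj g) x
    rw [← this, ← Subgroup.orderOf_mk (g * x * g⁻¹) hgx]
    exact orderOf_dvd_natCard _
  have h2 : orderOf x ∣ K'.index := by
    apply orderOf_dvd_of_pow_eq_one
    have hm : x ^ K'.index ∈ K := by
      have := Subgroup.pow_index_mem K' ⟨x, hxN⟩
      simpa [hK', Subgroup.mem_subgroupOf] using this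
    by_contra hne
    exact hxK (hC _ hm hne (Subgroup.mem_centralizer_singleton_iff.mpr (Commute.self_pow x _)))
  have := Nat.dvd_gcd h1 h2
  rw [coprime_card_index K hC, Nat.dvd_one, orderOf_eq_one_iff] at this
  exact hxK (this ▸ K.one_mem)

end CfsgLib.CharactersDeep.FrobeniusTI
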