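import Cfsg.Agent.Characters.Induction
import Mathlib.Algebra.BigOperators.Finprod

/-!
# Products of two involutions under a trivial intersection set
-/

set_option autoImplicit false

namespace CfsgLib.CharactersDeep.InvolutionProducts

open CfsgLib.Characters

variable {G : Type*} [Group G] [Fintype G]

theorem sum_indFun_products (H : Subgroup G) (S : Set G) (hSH : S ⊆ H)
    (hTI : ∀ g : G, g ∉ H → ∀ s ∈ S, g * s * g⁻¹ ∉ S) (hinv : ∀ s ∈ S, s⁻¹ ∈ S)
    (φ : H → ℂ) (hφS : ∀ x : H, (x : G) ∉ S → φ x = 0) (u v : G)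
    (hu : orderOf u = 2) (hv : orderOf v = 2) :
    ∑ᶠ p ∈ {p : G × G | IsConj u p.1 ∧ IsConj v p.2}, Cfsg.indFun H φ (p.1 * p.2) =
      (H.index : ℂ) *
        ∑ᶠ p ∈ {p : H × H | IsConj u (p.1 : G) ∧ IsConj v (p.2 : G)}, φ (p.1 * p.2) := by
  classical
  have := Fintype.ofFinite H
  rw [finsum_mem_eq_toFinset_sum, finsum_mem_eq_toFinset_sum]
  set T := {p : G × G | IsConj u p.1 ∧ IsConj v p.2}.toFinset with hT
  have hmemT : ∀ p : G × G, p ∈ T ↔ IsConj u p.1 ∧ IsConj v p.2 := fun p => by simp [hT]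
  have hinner : ∀ x : G, ∑ p ∈ T, Cfsg.extendByZero H φ (x⁻¹ * (p.1 * p.2) * x) =
      ∑ p ∈ T, Cfsg.extendByZero H φ (p.1 * p.2) := by
    intro x
    have hc : ∀ a : G, IsConj a (x⁻¹ * a * x) := fun a => isConj_iff.2 ⟨x⁻¹, by rw [inv_inv]⟩
    refine Finset.sum_bij (fun p _ => (x⁻¹ * p.1 * x, x⁻¹ * p.2 * x)) ?_ ?_ ?_ ?_
    · intro p hp
      rw [hmemT] at hp ⊢
      exact ⟨hp.1.trans (hc _), hp.2.trans (hc _)⟩
    · intro p _ q _ h
      obtain ⟨h1, h2⟩ := Prod.ext_iff.1 h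
      exact Prod.ext (mul_left_cancel (mul_right_cancel h1)) (mul_left_cancel (mul_right_cancel h2))
    · intro q hq
      have e : ∀ a : G, x⁻¹ * (x * a * x⁻¹) * x = a := fun a => by group
      refine ⟨(x * q.1 * x⁻¹, x * q.2 * x⁻¹), ?_, Prod.ext (e _) (e _)⟩
      rw [hmemT] at hq ⊢
      exact ⟨hq.1.trans (isConj_iff.2 ⟨x, rfl⟩), hq.2.trans (isConj_iff.2 ⟨x, rfl⟩)⟩
    · intro p _
      congr 1
      group
  have hinvol : ∀ {w a : G}, orderOf w = 2 → IsConj w a → a⁻¹ = a := by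
    intro w a hw hwa
    obtain ⟨c, rfl⟩ := isConj_iff.1 hwa
    have h1 : w * w = 1 := by rw [← sq, ← hw, pow_orderOf_eq_one]
    refine inv_eq_of_mul_eq_one_right ?_
    rw [show c * w * c⁻¹ * (c * w * c⁻¹) = c * (w * w) * c⁻¹ by group, h1, mul_one, mul_inv_cancel]
  have hkey : ∀ p ∈ T, Cfsg.extendByZero H φ (p.1 * p.2) ≠ 0 → p.1 ∈ H ∧ p.2 ∈ H := by
    intro p hp h
    obtain ⟨ha, hb⟩ := (hmemT p).1 hp
    have hmem : p.1 * p.2 ∈ H := by
      by_contra hn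
      exact h (extendByZero_of_not_mem H φ hn)
    have hS : p.1 * p.2 ∈ S := by
      by_contra hn
      exact h ((extendByZero_of_mem H φ hmem).trans (hφS _ hn))
    have h1 : p.1 ∈ H := by
      by_contra hn
      refine hTI _ hn _ hS ?_
      have e : p.1 * (p.1 * p.2) * p.1⁻¹ = (p.1 * p.2)⁻¹ := by
        rw [mul_inv_rev, hinvol hu ha, hinvol hv hb, ← mul_assoc]
        conv_lhs => arg 1; arg 1; arg 1; rw [← hinvol hu ha]
        rw [inv_mul_cancel, one_mul]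
      rw [e]
      exact hinv _ hS
    exact ⟨h1, by simpa using H.mul_mem (H.inv_mem h1) (hSH hS)⟩
  have hrhs : ∑ p ∈ T, Cfsg.extendByZero H φ (p.1 * p.2) =
      ∑ p ∈ {p : H × H | IsConj u (p.1 : G) ∧ IsConj v (p.2 : G)}.toFinset, φ (p.1 * p.2) := by
    rw [← Finset.sum_filter_add_sum_filter_not T (fun p => p.1 ∈ H ∧ p.2 ∈ H),
      Finset.sum_eq_zero (s := T.filter fun p => ¬ (p.1 ∈ H ∧ p.2 ∈ H)) fun p hp => by
        by_contra h
        exact (Finset.mem_filter.1 hp).2 (hkey p (Finset.mem_filter.1 hp).1 h), add_zero]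
    refine Finset.sum_bij (fun p hp =>
      ((⟨p.1, (Finset.mem_filter.1 hp).2.1⟩ : H), (⟨p.2, (Finset.mem_filter.1 hp).2.2⟩ : H)))
      ?_ ?_ ?_ ?_
    · intro p hp
      simpa using (hmemT p).1 (Finset.mem_filter.1 hp).1
    · intro p _ q _ h
      obtain ⟨h1, h2⟩ := Prod.ext_iff.1 h
      exact Prod.ext (congrArg Subtype.val h1) (congrArg Subtype.val h2)
    · intro q hq
      refine ⟨((q.1 : G), (q.2 : G)), Finset.mem_filter.2 ⟨(hmemT _).2 ?_, q.1.2, q.2.2⟩, rfl⟩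
      simpa using hq
    · intro p hp
      exact extendByZero_coe H φ (⟨p.1, (Finset.mem_filter.1 hp).2.1⟩ *
        ⟨p.2, (Finset.mem_filter.1 hp).2.2⟩)
  rw [← hrhs]
  simp only [Cfsg.indFun]
  rw [← Finset.mul_sum, Finset.sum_comm, Finset.sum_congr rfl fun x _ => hinner x,
    Finset.sum_const, Finset.card_univ, ← Nat.card_eq_fintype_card, nsmul_eq_mul,
    ← Subgroup.index_mul_card H]
  push_cast
  field_simp [subgroup_card_ne_zero H]

end CfsgLib.CharactersDeep.InvolutionProducts
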