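import Cfsg.Agent.CharactersDeep.RelativeMGroup
import Cfsg.Agent.Characters.Monomial
import Mathlib.GroupTheory.Nilpotent

/-!
# Relative M-groups over a normal subgroup with abelian Sylow subgroups

In a solvable group a character restricting irreducibly to such a subgroup is monomial.
-/

set_option autoImplicit false
set_option linter.style.haveILetI false
set_option linter.unusedSectionVars false

namespace CfsgLib.CharactersDeep.MonomialAGroup

open CfsgLib.Characters CfsgLib.CharactersDeep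
open scoped commutatorElement ComplexConjugate

universe u

/-- All subgroups of prime power order are abelian. -/
def AbP {G : Type u} [Group G] (N : Subgroup G) : Prop :=
  ∀ p : ℕ, p.Prime → ∀ Q : Subgroup G, Q ≤ N → IsPGroup p Q → ∀ a ∈ Q, ∀ b ∈ Q, a * b = b * a

variable {G : Type u} [Group G]

theorem AbP.of_sylow [Finite G] (N : Subgroup G)
    (h : ∀ (p : ℕ) [Fact p.Prime] (P : Sylow p N), ∀ a ∈ P, ∀ b ∈ P, a * b = b * a) : AbP N := by
  intro p hp Q hQN hQ a ha b hb
  haveI := Fact.mk hp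
  have hQ' : IsPGroup p (Q.subgroupOf N) :=
    IsPGroup.of_equiv hQ (Subgroup.subgroupOfEquivOfLe hQN).symm
  obtain ⟨P, hP⟩ := hQ'.exists_le_sylow
  exact congrArg Subtype.val (h p P ⟨a, hQN ha⟩ (hP ha) ⟨b, hQN hb⟩ (hP hb))

theorem AbP.mono {N M : Subgroup G} (h : AbP N) (hM : M ≤ N) : AbP M :=
  fun p hp Q hQ => h p hp Q (hQ.trans hM)

theorem AbP.subgroupOf {N : Subgroup G} (h : AbP N) (T : Subgroup G) : AbP (N.subgroupOf T) := by
  intro p hp Q hQ hQp a ha b hb
  refine Subtype.ext (h p hp (Q.map T.subtype) ?_ (hQp.map _) a ⟨a, ha, rfl⟩ b ⟨b, hb, rfl⟩)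
  rintro _ ⟨x, hx, rfl⟩
  exact hQ hx

theorem AbP.map [Finite G] {N : Subgroup G} (h : AbP N) {H : Type u} [Group H] (f : G →* H) :
    AbP (N.map f) := by
  intro p hp Q hQN hQ a ha b hb
  haveI := Fact.mk hp
  obtain ⟨P⟩ : Nonempty (Sylow p N) := inferInstance
  have hsurj : Function.Surjective (f.subgroupMap N) := f.subgroupMap_surjective N
  haveI : Finite (N.map f) := Finite.of_surjective _ hsurj
  obtain ⟨P', hP'⟩ := (IsPGroup.of_equiv hQ (Subgroup.subgroupOfEquivOfLe hQN).symm :
    IsPGroup p (Q.subgroupOf (N.map f))).exists_le_sylow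
  obtain ⟨g, hg⟩ := MulAction.exists_smul_eq (N.map f) (P.mapSurjective hsurj) P'
  obtain ⟨g₀, rfl⟩ := hsurj g
  have hlift : ∀ z (hz : z ∈ Q), ∃ x ∈ (g₀ • P : Sylow p N).toSubgroup, f (x : G) = z := by
    intro z hz
    have hz' : (⟨z, hQN hz⟩ : N.map f) ∈ (P' : Subgroup (N.map f)) := hP' hz
    rw [← hg, Sylow.coe_subgroup_smul, Sylow.coe_mapSurjective] at hz'
    obtain ⟨w, ⟨x, hx, rfl⟩, hw⟩ := hz'
    refine ⟨g₀ * x * g₀⁻¹, ?_, ?_⟩
    · rw [Sylow.coe_subgroup_smul]
      exact ⟨x, hx, rfl⟩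
    · have hw' := congrArg Subtype.val hw
      simpa using hw'
  obtain ⟨x, hx, rfl⟩ := hlift a ha
  obtain ⟨y, hy, rfl⟩ := hlift b hb
  have := h p hp ((g₀ • P : Sylow p N).toSubgroup.map N.subtype) (Subgroup.map_subtype_le _)
    ((g₀ • P : Sylow p N).isPGroup'.map _) x ⟨x, hx, rfl⟩ y ⟨y, hy, rfl⟩
  rw [← map_mul, ← map_mul, this]

theorem comm_of_nilpotent [Finite G] [Group.IsNilpotent G]
    (h : AbP (⊤ : Subgroup G)) (a b : G) : a * b = b * a := by
  obtain ⟨e⟩ := (Group.isNilpotent_of_finite_tfae.out 0 4 rfl rfl).mp ‹Group.IsNilpotent G›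
  obtain ⟨a, rfl⟩ := e.surjective a
  obtain ⟨b, rfl⟩ := e.surjective b
  rw [← map_mul, ← map_mul]
  refine congrArg e (funext fun p => funext fun P => Subtype.ext ?_)
  haveI := Fact.mk (Nat.prime_of_mem_primeFactors p.2)
  exact h p (Fact.out) P le_top P.isPGroup' _ (a p P).2 _ (b p P).2

/-- A nonabelian normal subgroup with abelian Sylow subgroups contains a noncentral abelian normal
subgroup. -/
theorem exists_abelian_normal [Finite G] [Group.IsSolvable G] (N : Subgroup G) [N.Normal]
    (hA : AbP N) (hne : ∃ a ∈ N, ∃ b ∈ N, a * b ≠ b * a) :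
    ∃ A : Subgroup G, A.Normal ∧ A ≤ N ∧ (∀ a ∈ A, ∀ b ∈ A, a * b = b * a) ∧
      ∃ a ∈ A, ∃ b ∈ N, a * b ≠ b * a := by
  classical
  set Z : Subgroup G := N ⊓ Subgroup.centralizer (N : Set G) with hZ
  haveI : (Subgroup.centralizer (N : Set G)).Normal := Subgroup.normal_centralizer
  haveI : Z.Normal := Subgroup.normal_inf_normal _ _
  have hZN : Z < N := lt_of_le_of_ne inf_le_left fun h => by
    obtain ⟨a, ha, b, hb, hab⟩ := hne
    rw [← h] at ha
    exact hab (Subgroup.mem_centralizer_iff.1 ha.2 b hb).symm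
  obtain ⟨M, hMN, hM⟩ := Set.Finite.exists_le_minimal
    (Set.toFinite {M : Subgroup G | M.Normal ∧ Z < M ∧ M ≤ N})
    (show N ∈ {M : Subgroup G | M.Normal ∧ Z < M ∧ M ≤ N} from ⟨inferInstance, hZN, le_rfl⟩)
  obtain ⟨hMn, hZM, -⟩ := hM.prop
  haveI := hMn
  haveI : Group.IsSolvable (G ⧸ Z) :=
    Group.isSolvable_of_surjective (QuotientGroup.mk'_surjective Z)
  have hcomm := RelativeMGroup.commutator_le_of_chief M Z hZM fun L hL hZL hLM => by
    rcases hZL.eq_or_lt with h | h
    · exact Or.inl h.symm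
    · exact Or.inr (le_antisymm hLM (hM.2 ⟨hL, h, hLM.trans hMN⟩ hLM))
  -- `M` is nilpotent
  haveI : Group.IsNilpotent M := by
    refine Group.of_quotient_center_nilpotent ?_
    refine @CommGroup.isNilpotent _ { (inferInstance : Group (M ⧸ Subgroup.center M)) with mul_comm := ?_ }
    intro x y
    obtain ⟨x, rfl⟩ := QuotientGroup.mk'_surjective _ x
    obtain ⟨y, rfl⟩ := QuotientGroup.mk'_surjective _ y
    rw [← map_mul, ← map_mul, QuotientGroup.mk'_apply, QuotientGroup.mk'_apply, QuotientGroup.eq,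
      Subgroup.mem_center_iff]
    intro z
    refine Subtype.ext ?_
    have h1 : ((x * y)⁻¹ * (y * x) : M) = ⁅y⁻¹, x⁻¹⁆ := by rw [commutatorElement_def]; group
    rw [h1]
    have hc : ((⁅y⁻¹, x⁻¹⁆ : M) : G) ∈ Z := hcomm (Subgroup.commutator_mem_commutator
      (inv_mem y.2) (inv_mem x.2))
    exact Subgroup.mem_centralizer_iff.1 hc.2 z (hMN z.2)
  refine ⟨M, hMn, hMN, fun a ha b hb => ?_, ?_⟩
  · have h := comm_of_nilpotent (fun p hp Q _ hQ => ((hA.mono hMN).subgroupOf M) p hp Q
      (fun x _ => x.2) hQ) (⟨a, ha⟩ : M) ⟨b, hb⟩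
    exact congrArg Subtype.val h
  · by_contra h
    push Not at h
    exact hZM.not_ge fun a ha => ⟨hMN ha, Subgroup.mem_centralizer_iff.2 fun b hb => (h a ha b hb).symm⟩

variable [Fintype G]

/-- An inducing character inherits irreducibility on a normal subgroup. -/
theorem restrict_inducing (N : Subgroup G) [N.Normal] [Fintype N] (T : Subgroup G) [Fintype T]
    [Fintype (N.subgroupOf T)] {ψ : T → ℂ} (hψ : Cfsg.IsIrrCharacter T ψ) {χ : G → ℂ}
    (hχ : Cfsg.IsIrrCharacter G χ) (hind : Cfsg.indFun T ψ = χ)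
    (hN : Cfsg.IsIrrCharacter N fun n : N => χ n) :
    Cfsg.IsIrrCharacter (N.subgroupOf T) fun x : N.subgroupOf T => ψ x := by
  classical
  set S := N.subgroupOf T
  have hψS : Cfsg.IsCharacter S fun x : S => ψ x := isCharacter_restrict S (isCharacter_of_isIrr hψ)
  obtain ⟨φ, hφ⟩ : ∃ φ : Cfsg.IrrCharacter S,
      Cfsg.classInner (fun x : S => ψ x) (φ : S → ℂ) ≠ 0 := by
    by_contra h
    push Not at h
    refine irr_one_ne_zero hψ ?_
    have := congrFun (classFunction_eq_zero (isClassFunction_of_isCharacter hψS) fun χ => h χ) 1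
    simpa using this
  obtain ⟨b, hb⟩ := exists_degree (isCharacter_of_isIrr hψ)
  obtain ⟨c, hc⟩ := exists_degree (isCharacter_of_isIrr φ.2)
  have hcb : c ≤ b := degree_constituent_le hψS φ.2 hφ (by simpa using hb) hc
  suffices hbc : b ≤ c by
    rw [Clifford.eq_of_constituent_of_degree_le hψS φ.2 hφ (by simpa using hb) hc hbc]
    exact φ.2
  -- `φ` viewed below `N`
  let S' : Subgroup N := T.subgroupOf N
  haveI := Fintype.ofFinite S'
  let E : S' ≃* S :=
    { toFun := fun x => ⟨⟨(x : N), x.2⟩, (x : N).2⟩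
      invFun := fun x => ⟨⟨(x : T), x.2⟩, (x : T).2⟩
      left_inv := fun x => rfl
      right_inv := fun x => rfl
      map_mul' := fun x y => rfl }
  have hφ' : Cfsg.IsIrrCharacter S' fun x => (φ : S → ℂ) (E x) :=
    isIrr_comp E.toMonoidHom E.surjective φ.2
  obtain ⟨m, hm⟩ := exists_nat_coeff (isCharacter_restrict T (isCharacter_of_isIrr hχ))
  have hmψ : (m ⟨ψ, hψ⟩ : ℂ) = 1 := by
    have h1 := classInner_isIrr_self hχ
    nth_rewrite 1 [← hind] at h1
    rw [classInner_indFun T ψ (isClassFunction_of_isIrr hχ), classInner_conj_symm, hm,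
      classInner_irr_coeff (fun θ => (m θ : ℂ)) ⟨ψ, hψ⟩, Complex.conj_natCast] at h1
    exact h1
  have hχφ : Cfsg.classInner (fun x : S => χ (x : T)) (φ : S → ℂ) ≠ 0 := by
    have hexp : (fun x : S => χ (x : T)) =
        ∑ θ : Cfsg.IrrCharacter T, (m θ : ℂ) • fun x : S => (θ : T → ℂ) x := by
      funext x
      rw [show χ ((x : T) : G) = (fun t : T => χ t) x from rfl, hm]
      simp [Finset.sum_apply]
    choose k hk using fun θ : Cfsg.IrrCharacter T =>
      classInner_character_irr (isCharacter_restrict S (isCharacter_of_isIrr θ.2)) φ.2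
    have h2 : Cfsg.classInner (fun x : S => χ (x : T)) (φ : S → ℂ) =
        ((∑ θ, m θ * k θ : ℕ) : ℂ) := by
      rw [hexp, classInner_sum_left]
      push_cast
      exact Finset.sum_congr rfl fun θ _ => by rw [classInner_smul_left, hk]
    rw [h2, Nat.cast_ne_zero]
    intro h0
    have h3 := Finset.sum_eq_zero_iff.1 h0 ⟨ψ, hψ⟩ (Finset.mem_univ _)
    rw [show m ⟨ψ, hψ⟩ = 1 by exact_mod_cast hmψ, one_mul] at h3
    exact hφ (by rw [hk ⟨ψ, hψ⟩, h3, Nat.cast_zero])
  obtain ⟨a, ha⟩ := exists_degree (isCharacter_of_isIrr hχ)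
  have hle : a ≤ S'.index * c := by
    refine degree_constituent_le (isCharacter_indFun S' (isCharacter_of_isIrr hφ')) hN ?_ ?_
      (by simpa using ha)
    · rw [classInner_indFun S' _ (isClassFunction_of_isIrr hN), classInner_conj_symm,
        ne_eq, map_eq_zero]
      have := Clifford.classInner_comp_equiv E (fun x : S => χ (x : T)) (φ : S → ℂ)
      rw [← this] at hχφ
      exact hχφ
    · rw [indFun_one]
      push_cast
      rw [show ((φ : S → ℂ) (E 1)) = (c : ℂ) by rw [map_one]; exact hc]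
  have hab : a = T.index * b := Nat.cast_injective (R := ℂ) (by
    rw [← ha, ← hind, indFun_one, hb]; push_cast; rfl)
  have hidx : S'.index ≤ T.index := by
    show T.relIndex N ≤ T.index
    rw [← Subgroup.relIndex_top_right]
    exact Subgroup.relIndex_le_of_le_right le_top (by
      rw [Subgroup.relIndex_top_right]; exact Subgroup.index_ne_zero_of_finite)
  rw [hab] at hle
  exact Nat.le_of_mul_le_mul_left (hle.trans (Nat.mul_le_mul_right c hidx))
    (Nat.pos_of_ne_zero Subgroup.index_ne_zero_of_finite)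

/-- Monomiality of characters restricting irreducibly. -/
theorem monomial_aux (n : ℕ) : ∀ (G : Type u) [Group G] [Fintype G] [Group.IsSolvable G]
    (N : Subgroup G) [N.Normal], AbP N → Nat.card G = n → ∀ χ : G → ℂ, Cfsg.IsIrrCharacter G χ →
    Cfsg.IsIrrCharacter N (fun n : N => χ n) →
      ∃ (H : Subgroup G) (lam : H →* ℂˣ), χ = Cfsg.indFun H (fun h => (lam h : ℂ)) := by
  induction n using Nat.strong_induction_on with
  | _ n ih =>
  intro G _ _ _ N _ hA hcard χ hχ hN
  classical
  by_cases h1 : χ 1 = 1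
  · obtain ⟨f, hf⟩ := exists_hom_of_degree_one (isCharacter_of_isIrr hχ) h1
    refine ⟨⊤, f.comp (⊤ : Subgroup G).subtype, ?_⟩
    conv_lhs => rw [← indFun_top_classFunction (isClassFunction_of_isIrr hχ)]
    simp [hf]
  obtain ⟨d, ρ, hρ, rfl⟩ := hχ
  haveI := hρ
  haveI : Fintype (G ⧸ MonoidHom.ker ρ) := Fintype.ofFinite _
  let σ : Representation ℂ (G ⧸ MonoidHom.ker ρ) (Fin d → ℂ) :=
    QuotientGroup.lift (MonoidHom.ker ρ) ρ le_rfl
  haveI hσ : σ.IsIrreducible :=
    (isIrreducible_comp_iff (QuotientGroup.mk' (MonoidHom.ker ρ))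
      (QuotientGroup.mk'_surjective _) σ).1 hρ
  have hσinj : Function.Injective σ := by
    intro a b h
    induction a using QuotientGroup.induction_on
    induction b using QuotientGroup.induction_on
    rename_i a b
    refine QuotientGroup.eq.2 (MonoidHom.mem_ker.2 ?_)
    have h' : ρ a = ρ b := h
    rw [map_mul, ← h', ← map_mul, inv_mul_cancel, map_one]
  haveI : Group.IsSolvable (G ⧸ MonoidHom.ker ρ) :=
    Group.isSolvable_of_surjective (QuotientGroup.mk'_surjective _)
  let π := QuotientGroup.mk' (MonoidHom.ker ρ)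
  haveI : (N.map π).Normal := (inferInstance : N.Normal).map _ (QuotientGroup.mk'_surjective _)
  have hne : ∃ a ∈ N.map π, ∃ b ∈ N.map π, a * b ≠ b * a := by
    by_contra h
    push Not at h
    refine h1 ?_
    let R : Representation ℂ N (Fin d → ℂ) := ρ.comp N.subtype
    haveI := Fintype.ofFinite N
    haveI : R.IsIrreducible := (isIrreducible_iff_classInner R).2 (classInner_isIrr_self hN)
    have hscal : ∀ g : N, ∃ c : ℂ, R g = c • LinearMap.id := fun g =>
      schur_scalar R (R g) fun k x => by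
        have hc := h _ (Subgroup.mem_map_of_mem π g.2) _ (Subgroup.mem_map_of_mem π k.2)
        exact LinearMap.congr_fun (show ρ ((g : G)) * ρ k = ρ k * ρ g from by
          have := congrArg σ hc
          rwa [map_mul, map_mul] at this) x
    have hnorm : ∀ g : N, ‖R.character g‖ = (d : ℝ) := fun g => by
      have := (norm_char_eq_iff_scalar R g).2 (hscal g)
      rwa [Module.finrank_fin_fun] at this
    have hself := classInner_isIrr_self (isIrrCharacter_character R)
    rw [Cfsg.classInner, Finset.sum_congr rfl (g := fun _ => (d : ℂ) ^ 2)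
      fun g _ => by rw [Complex.mul_conj', hnorm g, Complex.ofReal_natCast],
      Finset.sum_const, Finset.card_univ, nsmul_eq_mul, ← Nat.card_eq_fintype_card, ← mul_assoc,
      inv_mul_cancel₀ natCard_ne_zero, one_mul] at hself
    rw [Representation.char_one, Module.finrank_fin_fun,
      show d = 1 from Nat.pow_left_injective two_ne_zero (by simpa using (by exact_mod_cast hself : d ^ 2 = 1)),
      Nat.cast_one]
  obtain ⟨A, hAn, hAN, hAc, a, ha, b, hb, hab⟩ := exists_abelian_normal (N.map π) (hA.map π) hne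
  haveI := hAn
  obtain ⟨T, ψ, hT, -, hψ, hind⟩ := exists_induced_of_abelian_normal σ A hAc ⟨a, ha, fun c hc => hab (hσinj (by
    rw [map_mul, map_mul, hc]
    ext v; simp))⟩
  set K := T.comap π
  haveI := Fintype.ofFinite K
  have hη : Cfsg.IsCharacter K (fun x => ψ ⟨π (x : G), x.2⟩) :=
    isCharacter_comp ((π.comp K.subtype).codRestrict T fun x => x.2) hψ
  have hK : ρ.character = Cfsg.indFun K (fun x => ψ ⟨π (x : G), x.2⟩) :=
    funext fun g => by
      rw [indFun_comap _ (QuotientGroup.mk'_surjective _) T ψ, ← hind]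
      rfl
  have hKtop : K ≠ ⊤ := fun h => hT (by
    rw [← Subgroup.map_comap_eq_self_of_surjective (QuotientGroup.mk'_surjective _) T,
      show T.comap (QuotientGroup.mk' (MonoidHom.ker ρ)) = ⊤ from h,
      Subgroup.map_top_of_surjective _ (QuotientGroup.mk'_surjective _)])
  have hirrη := isIrr_of_indFun_irr K hη (hK ▸ isIrrCharacter_character ρ)
  haveI := Fintype.ofFinite N
  haveI := Fintype.ofFinite (N.subgroupOf K)
  haveI : (N.subgroupOf K).Normal := Subgroup.normal_subgroupOf
  obtain ⟨H, lam, hlam⟩ := ih (Nat.card K) (by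
    rw [← hcard]
    exact lt_of_le_of_ne (Subgroup.card_le_card_group K)
      fun h => hKtop (Subgroup.eq_top_of_card_eq K h)) K (N.subgroupOf K) (hA.subgroupOf K) rfl _
    hirrη (restrict_inducing N K hirrη (isIrrCharacter_character ρ) hK.symm hN)
  refine ⟨H.map K.subtype, lam.comp
    (Subgroup.equivMapOfInjective H K.subtype K.subtype_injective).symm.toMonoidHom, ?_⟩
  rw [hK, hlam, indFun_indFun]
  rfl

end CfsgLib.CharactersDeep.MonomialAGroup
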