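import Cfsg.Agent.CharactersDeep.Dade
import Cfsg.Agent.CharactersDeep.ExtensionCriteria
import Mathlib.GroupTheory.FiniteAbelian.Duality
import Mathlib.Analysis.Complex.Polynomial.Basic
import Mathlib.RingTheory.RootsOfUnity.AlgebraicallyClosed

/-!
# Extension of an invariant character over a `p`-quotient

If `P ⊓ N` is central in the Sylow subgroup `P` and its linear characters extend to `P`, every
invariant irreducible character of `N` extends, `G ⧸ N` being a `p`-group.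
-/

set_option autoImplicit false
set_option linter.style.haveILetI false
set_option linter.unusedSectionVars false
set_option linter.unusedSimpArgs false

namespace CfsgLib.CharactersDeep.PQuotientExtend

open CfsgLib.Characters CfsgLib.CharactersDeep

universe u

section Hom

variable {Γ : Type*} [Group Γ] {A : Type*} [CommGroup A]

/-- Homomorphisms of `B` and `H` agreeing on the intersection glue, `B` normal and invariant. -/
theorem exists_glue (B H : Subgroup Γ) [hB : B.Normal] (lam : B →* A)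
    (hinv : ∀ (g : Γ) (b : B), lam ⟨g * b * g⁻¹, hB.conj_mem b b.2 g⟩ = lam b)
    (μ₀ : H →* A) (hag : ∀ (x : Γ) (h₁ : x ∈ B) (h₂ : x ∈ H), μ₀ ⟨x, h₂⟩ = lam ⟨x, h₁⟩)
    (htop : ∀ g : Γ, ∃ h ∈ H, ∃ b ∈ B, g = h * b) :
    ∃ μ : Γ →* A, (∀ b : B, μ b = lam b) ∧ ∀ h : H, μ h = μ₀ h := by
  classical
  choose h hh b hb e using htop
  have key : ∀ (g : Γ) (h' : H) (b' : B), g = h' * b' →
      μ₀ ⟨h g, hh g⟩ * lam ⟨b g, hb g⟩ = μ₀ h' * lam b' := by
    intro g h' b' he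
    have h1 : (h'⁻¹ * ⟨h g, hh g⟩ : H).1 = (b' * ⟨b g, hb g⟩⁻¹ : B).1 := by
      push_cast
      rw [eq_mul_inv_iff_mul_eq, mul_assoc, ← e g, he, inv_mul_cancel_left]
    have h3 : (h'⁻¹ * ⟨h g, hh g⟩ : H).1 ∈ B := by rw [h1]; exact SetLike.coe_mem _
    have h2 := hag _ h3 (h'⁻¹ * ⟨h g, hh g⟩ : H).2
    rw [show (⟨_, h3⟩ : B) = b' * ⟨b g, hb g⟩⁻¹ from Subtype.ext h1] at h2
    change μ₀ (h'⁻¹ * ⟨h g, hh g⟩) = _ at h2
    simp only [map_mul, map_inv] at h2
    rw [inv_mul_eq_iff_eq_mul] at h2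
    rw [h2, mul_assoc, inv_mul_cancel_right]
  let F : Γ → A := fun g => μ₀ ⟨h g, hh g⟩ * lam ⟨b g, hb g⟩
  have hmul : ∀ g g', F (g * g') = F g * F g' := by
    intro g g'
    have hc := hB.conj_mem _ (hb g) (h g')⁻¹
    refine (key (g * g') (⟨h g, hh g⟩ * ⟨h g', hh g'⟩) (⟨_, hc⟩ * ⟨b g', hb g'⟩) ?_).trans ?_
    · conv_lhs => rw [e g, e g']
      push_cast
      group
    · rw [map_mul, map_mul, show lam ⟨_, hc⟩ = lam ⟨b g, hb g⟩ from hinv (h g')⁻¹ ⟨b g, hb g⟩]
      exact mul_mul_mul_comm _ _ _ _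
  refine ⟨MonoidHom.mk' F hmul, fun x => ?_, fun x => ?_⟩
  · simpa using key (x : Γ) 1 x (by simp)
  · simpa using key (x : Γ) x 1 (by simp)

end Hom

variable {G : Type u} [Group G] [Fintype G]

/-- Central trace and extendible linear characters, in every Sylow subgroup. -/
theorem transport {p : ℕ} [hp : Fact p.Prime] (N : Subgroup G) [hN : N.Normal] (P : Sylow p G)
    (hcent : ∀ x ∈ (P : Subgroup G) ⊓ N, ∀ y ∈ (P : Subgroup G), x * y = y * x)
    (hlin : ∀ lam : ↥((P : Subgroup G) ⊓ N) →* ℂˣ, ∃ μ : ↥(P : Subgroup G) →* ℂˣ,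
      ∀ x : ↥((P : Subgroup G) ⊓ N), μ ⟨(x : G), x.2.1⟩ = lam x)
    (R : Sylow p G) :
    (∀ x ∈ (R : Subgroup G) ⊓ N, ∀ y ∈ (R : Subgroup G), x * y = y * x) ∧
      ∀ lam : ↥((R : Subgroup G) ⊓ N) →* ℂˣ, ∃ μ : ↥(R : Subgroup G) →* ℂˣ,
        ∀ x : ↥((R : Subgroup G) ⊓ N), μ ⟨(x : G), x.2.1⟩ = lam x := by
  obtain ⟨g, rfl⟩ := MulAction.exists_smul_eq G P R
  have hmem : ∀ x, x ∈ ((g • P : Sylow p G) : Subgroup G) ↔ g⁻¹ * x * g ∈ (P : Subgroup G) := by
    intro x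
    rw [Sylow.coe_subgroup_smul, Subgroup.mem_pointwise_smul_iff_inv_smul_mem]
    simp [MulAut.smul_def]
  refine ⟨fun x hx y hy => ?_, fun lam => ?_⟩
  · have hxN : g⁻¹ * x * g ∈ N := by simpa using hN.conj_mem x hx.2 g⁻¹
    have h := hcent _ ⟨(hmem x).1 hx.1, hxN⟩ _ ((hmem y).1 hy)
    simpa [mul_assoc] using congrArg (fun t => g * t * g⁻¹) h
  · have hback : ∀ z : ↥((P : Subgroup G) ⊓ N),
        g * z * g⁻¹ ∈ ((g • P : Sylow p G) : Subgroup G) ⊓ N := fun z =>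
      ⟨(hmem _).2 (by rw [show g⁻¹ * (g * z * g⁻¹) * g = (z : G) by group]; exact z.2.1),
        hN.conj_mem _ z.2.2 g⟩
    let f : ↥((P : Subgroup G) ⊓ N) →* ↥(((g • P : Sylow p G) : Subgroup G) ⊓ N) :=
      MonoidHom.mk' (fun z => ⟨_, hback z⟩) fun a b => Subtype.ext (by simp [mul_assoc])
    obtain ⟨μ, hμ⟩ := hlin (lam.comp f)
    let f' : ↥((g • P : Sylow p G) : Subgroup G) →* ↥(P : Subgroup G) :=
      MonoidHom.mk' (fun z => ⟨_, (hmem z).1 z.2⟩) fun a b => Subtype.ext (by simp [mul_assoc])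
    refine ⟨μ.comp f', fun x => ?_⟩
    have hxN : g⁻¹ * (x : G) * g ∈ N := by simpa using hN.conj_mem _ x.2.2 g⁻¹
    refine (hμ ⟨g⁻¹ * (x : G) * g, (hmem _).1 x.2.1, hxN⟩).trans ?_
    exact congrArg lam (Subtype.ext (by simp [f, mul_assoc]))

/-- On a `p`-elementary subgroup the trace of `N` is central and its characters extend. -/
theorem elementary_extend {p : ℕ} [hp : Fact p.Prime] (N : Subgroup G) [hN : N.Normal]
    (hind : ∃ k : ℕ, N.index = p ^ k)
    (hcent : ∀ (R : Sylow p G), ∀ x ∈ (R : Subgroup G) ⊓ N, ∀ y ∈ (R : Subgroup G),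
      x * y = y * x)
    (hlin : ∀ (R : Sylow p G) (lam : ↥((R : Subgroup G) ⊓ N) →* ℂˣ),
      ∃ μ : ↥(R : Subgroup G) →* ℂˣ,
        ∀ x : ↥((R : Subgroup G) ⊓ N), μ ⟨(x : G), x.2.1⟩ = lam x)
    (E : Subgroup G) (hE : Cfsg.IsElementary p E) :
    N.subgroupOf E ≤ Subgroup.center E ∧
      ∀ φ : N.subgroupOf E →* ℂˣ, ∃ ψ : E →* ℂˣ, ∀ d : N.subgroupOf E, ψ d = φ d := by
  classical
  obtain ⟨x, hxc, hcop, k, hk⟩ := hE
  obtain ⟨j, hj⟩ := hind
  have hxN : x ∈ N.subgroupOf E := by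
    have h1 : orderOf (QuotientGroup.mk' N (x : G)) ∣ orderOf x :=
      (orderOf_map_dvd _ _).trans (Subgroup.orderOf_coe x).dvd
    have h2 : orderOf (QuotientGroup.mk' N (x : G)) ∣ p ^ j := by
      rw [← hj]
      exact orderOf_dvd_natCard _
    exact (QuotientGroup.eq_one_iff (N := N) (x : G)).1 (orderOf_eq_one_iff.1
      (Nat.eq_one_of_dvd_coprimes (hcop.pow_right j) h1 h2))
  obtain ⟨Q⟩ : Nonempty (Sylow p E) := inferInstance
  have hCc : Subgroup.zpowers x ≤ Subgroup.center E := Subgroup.zpowers_le.2 hxc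
  haveI : (Subgroup.zpowers x).Normal := ⟨fun a ha g => by
    rwa [Subgroup.mem_center_iff.1 (hCc ha) g, mul_inv_cancel_right]⟩
  have htop : ∀ e : E, ∃ q ∈ (Q : Subgroup E), ∃ a ∈ Subgroup.zpowers x, e = q * a := by
    have h : (Q : Subgroup E) ⊔ Subgroup.zpowers x = ⊤ :=
      Subgroup.index_eq_one.1 (Nat.eq_one_of_dvd_coprimes (a := p ^ k) (b := (Q : Subgroup E).index)
        (Nat.Coprime.pow_left k (hp.out.coprime_iff_not_dvd.2 Q.not_dvd_index))
        (hk ▸ Subgroup.index_dvd_of_le le_sup_right) (Subgroup.index_dvd_of_le le_sup_left))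
    intro e
    have he : e ∈ (Q : Subgroup E) ⊔ Subgroup.zpowers x := h ▸ Subgroup.mem_top e
    obtain ⟨q, hq, a, ha, h'⟩ := Subgroup.mem_sup_of_normal_right.1 he
    exact ⟨q, hq, a, ha, h'.symm⟩
  obtain ⟨R, hR⟩ := (Q.isPGroup'.map E.subtype).exists_le_sylow
  have hQR : ∀ q ∈ (Q : Subgroup E), (q : G) ∈ (R : Subgroup G) := fun q hq => hR ⟨q, hq, rfl⟩
  have hxN' : Subgroup.zpowers x ≤ N.subgroupOf E := Subgroup.zpowers_le.2 hxN
  refine ⟨fun d hd => ?_, fun φ => ?_⟩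
  · obtain ⟨q, hq, a, ha, rfl⟩ := htop d
    have hqN : q ∈ N.subgroupOf E := by
      simpa using (N.subgroupOf E).mul_mem hd ((N.subgroupOf E).inv_mem (hxN' ha))
    refine Subgroup.mem_center_iff.2 fun e => ?_
    obtain ⟨q', hq', a', ha', rfl⟩ := htop e
    have hqq : q' * q = q * q' := Subtype.ext
      (hcent R (q : G) ⟨hQR q hq, Subgroup.mem_subgroupOf.1 hqN⟩ (q' : G) (hQR q' hq')).symm
    have hqa : ∀ {c : E}, c ∈ Subgroup.zpowers x → ∀ t : E, t * c = c * t := fun hc t =>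
      Subgroup.mem_center_iff.1 (hCc hc) t
    calc q' * a' * (q * a) = q' * (a' * q) * a := by group
      _ = q' * (q * a') * a := by rw [hqa ha' q]
      _ = (q' * q) * (a' * a) := by group
      _ = (q * q') * (a * a') := by rw [hqq, hqa ha a']
      _ = q * (q' * a) * a' := by group
      _ = q * (a * q') * a' := by rw [hqa ha q']
      _ = q * a * (q' * a') := by group
  · let S : Subgroup G := (R : Subgroup G) ⊓ N
    letI : CommGroup S :=
      { __ := (inferInstance : Group S)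
        mul_comm := fun a b => Subtype.ext (hcent R a a.2 b b.2.1) }
    let K : Subgroup S := (((Q : Subgroup E) ⊓ N.subgroupOf E).map E.subtype).subgroupOf S
    have hK : ∀ y : K, ∃ d : N.subgroupOf E, (d : E) ∈ (Q : Subgroup E) ∧
        ((d : E) : G) = ((y : S) : G) := fun y => by
      obtain ⟨d, hd, he⟩ := Subgroup.mem_subgroupOf.1 y.2
      exact ⟨⟨d, hd.2⟩, hd.1, he⟩
    choose d hdQ hd using hK
    let φK : K →* ℂˣ := MonoidHom.mk' (fun y => φ (d y)) fun y z => by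
      rw [← map_mul]
      exact congrArg φ (Subtype.ext (Subtype.ext (by push_cast; rw [hd, hd, hd]; rfl)))
    obtain ⟨lam, hlam⟩ := MonoidHom.domRestrict_surjective (M := ℂ) K φK
    obtain ⟨μ, hμ⟩ := hlin R lam
    let μQ : (Q : Subgroup E) →* ℂˣ := μ.comp
      (MonoidHom.mk' (fun q => (⟨((q : E) : G), hQR q q.2⟩ : (R : Subgroup G))) fun a b => rfl)
    have hQN : ∀ (q : E) (h₁ : q ∈ N.subgroupOf E) (h₂ : q ∈ (Q : Subgroup E)),
        μQ ⟨q, h₂⟩ = φ ⟨q, h₁⟩ := fun q h₁ h₂ => by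
      have hS : (q : G) ∈ S := ⟨hQR q h₂, Subgroup.mem_subgroupOf.1 h₁⟩
      have hK' : (⟨(q : G), hS⟩ : S) ∈ K :=
        Subgroup.mem_subgroupOf.2 ⟨q, ⟨h₂, h₁⟩, rfl⟩
      refine (hμ ⟨(q : G), hS⟩).trans ?_
      refine (DFunLike.congr_fun hlam ⟨_, hK'⟩).trans ?_
      exact congrArg φ (Subtype.ext (Subtype.ext (hd ⟨_, hK'⟩)))
    obtain ⟨ψ, hψC, hψQ⟩ := exists_glue (Subgroup.zpowers x) (Q : Subgroup E)
      (φ.comp (Subgroup.inclusion hxN')) (fun g b => congrArg φ (Subtype.ext (by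
        show g * (b : E) * g⁻¹ = (b : E)
        rw [Subgroup.mem_center_iff.1 (hCc b.2) g, mul_inv_cancel_right])))
      μQ (fun y h₁ h₂ => hQN y (hxN' h₁) h₂) htop
    refine ⟨ψ, fun y => ?_⟩
    obtain ⟨q, hq, a, ha, he⟩ := htop y
    have hqN : q ∈ N.subgroupOf E := by
      have := (N.subgroupOf E).mul_mem y.2 ((N.subgroupOf E).inv_mem (hxN' ha))
      rwa [he, mul_inv_cancel_right] at this
    rw [he, map_mul, show ψ q = μQ ⟨q, hq⟩ from hψQ ⟨q, hq⟩,
      show ψ a = φ ⟨a, hxN' ha⟩ from hψC ⟨a, ha⟩, hQN q hqN hq, ← map_mul]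
    exact congrArg φ (Subtype.ext he.symm)

/-- The determinant of a scalar on the image of an idempotent, identity on the kernel. -/
theorem det_idem {V : Type*} [AddCommGroup V] [Module ℂ V] [FiniteDimensional ℂ V]
    (T : Module.End ℂ V) (hT : T * T = T) {m : ℕ} (hm : LinearMap.trace ℂ V T = (m : ℂ))
    (c : ℂ) : LinearMap.det (c • T + (1 - T)) = c ^ m := by
  have hP : LinearMap.IsProj T.range T := LinearMap.isProj_range_iff_isIdempotentElem T |>.2 hT
  have hd : Module.finrank ℂ T.range = m := by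
    rw [hP.trace] at hm
    exact_mod_cast hm
  have hTr : ∀ a ∈ T.range, T a = a := hP.map_id
  set e := T.range.prodEquivOfIsCompl T.ker hP.isCompl with he
  have hF : c • T + (1 - T) = e.toLinearMap ∘ₗ
      (LinearMap.prodMap (c • (LinearMap.id : T.range →ₗ[ℂ] T.range)) LinearMap.id) ∘ₗ
        e.symm.toLinearMap := by
    ext v
    obtain ⟨⟨a, b⟩, rfl⟩ := e.surjective v
    simp only [LinearMap.comp_apply, LinearEquiv.coe_coe, LinearEquiv.symm_apply_apply,
      LinearMap.prodMap_apply, LinearMap.smul_apply, LinearMap.id_apply, LinearMap.add_apply,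
      LinearMap.sub_apply, Module.End.one_apply]
    simp only [he, Submodule.coe_prodEquivOfIsCompl',
      map_add, hTr a a.2, LinearMap.mem_ker.1 b.2, Submodule.coe_smul, add_zero]
    abel
  rw [hF, LinearMap.det_conj, LinearMap.det_prodMap, LinearMap.det_id, mul_one,
    LinearMap.det_smul, LinearMap.det_id, mul_one, hd]

/-- The exponent given by an elementary subgroup. -/
theorem exponent_of_elementary (N : Subgroup G) [hN : N.Normal]
    [Fintype N] {d : ℕ} (ρ : Representation ℂ N (Fin d → ℂ)) [ρ.IsIrreducible]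
    (E : Subgroup G) (htop : E ⊔ N = ⊤) (hDc : N.subgroupOf E ≤ Subgroup.center E)
    [Fintype (N.subgroupOf E)] (φ : N.subgroupOf E →* ℂˣ) (ψ : E →* ℂˣ)
    (hψ : ∀ y : N.subgroupOf E, ψ y = φ y) {m : ℕ}
    (hm : Cfsg.classInner (Dade.res N ρ.character E) (fun y => (φ y : ℂ)) = m) :
    (m : ℤ) ∈ TransferExtend.extExponents (Extension.base N ρ) (Extension.lam N ρ) := by
  classical
  let r : N.subgroupOf E →* Module.End ℂ (Fin d → ℂ) := ρ.comp (Dade.incl N E)
  set D := Nat.card (N.subgroupOf E) with hD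
  have hD0 : (D : ℂ) ≠ 0 := Nat.cast_ne_zero.2 Nat.card_pos.ne'
  set T : Module.End ℂ (Fin d → ℂ) :=
    (D : ℂ)⁻¹ • ∑ y : N.subgroupOf E, (((φ y)⁻¹ : ℂˣ) : ℂ) • r y with hT
  have hmulT : ∀ y, r y * T = (φ y : ℂ) • T := by
    intro y
    simp only [hT, mul_smul_comm, Finset.mul_sum, Finset.smul_sum, smul_smul]
    refine Fintype.sum_equiv (Equiv.mulLeft y) _ _ fun z => ?_
    rw [Equiv.coe_mulLeft, ← map_mul, map_mul φ, mul_inv, Units.val_mul]
    congr 1
    have h : (φ y : ℂ) * (((φ y)⁻¹ : ℂˣ) : ℂ) = 1 := Units.mul_inv _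
    linear_combination -((D : ℂ)⁻¹ * (((φ z)⁻¹ : ℂˣ) : ℂ)) * h
  have hTT : T * T = T := by
    conv_lhs => arg 1; rw [hT]
    simp only [smul_mul_assoc, Finset.sum_mul, hmulT, smul_smul, Units.inv_mul, one_smul,
      Finset.sum_const, Finset.card_univ, Fintype.card_eq_nat_card, ← hD]
    rw [← Nat.cast_smul_eq_nsmul ℂ, smul_smul, inv_mul_cancel₀ hD0, one_smul]
  have htr : LinearMap.trace ℂ _ T = (m : ℂ) := by
    rw [← hm, hT, map_smul, map_sum, Cfsg.classInner, smul_eq_mul]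
    congr 1
    refine Finset.sum_congr rfl fun y _ => ?_
    rw [map_smul, smul_eq_mul, mul_comm]
    congr 1
    rw [← character_inv (isCharacter_of_isIrr (isIrr_linChar φ)), map_inv]
  -- the operators commuting with the projection
  let H : Subgroup (Extension.Gam N ρ) := E.comap (Extension.proj N ρ)
  have hcomm : ∀ γ : H, Extension.op N ρ γ * T = T * Extension.op N ρ γ := by
    intro γ
    simp only [hT, mul_smul_comm, smul_mul_assoc, Finset.mul_sum, Finset.sum_mul]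
    congr 1
    refine Finset.sum_congr rfl fun y _ => ?_
    congr 1
    show Extension.op N ρ γ * ρ (Dade.incl N E y) = _
    rw [Extension.op_intertwines]
    refine congrArg (· * _) (congrArg ρ (Subtype.ext ?_))
    have hc := Subgroup.mem_center_iff.1 (hDc y.2)
      (⟨Extension.proj N ρ γ, Subgroup.mem_comap.1 γ.2⟩ : E)
    have hc' := congrArg (fun t : E => (t : G)) hc
    simp only [Subgroup.coe_mul] at hc'
    simp only [MulAut.conjNormal_apply, Dade.incl, MonoidHom.coe_mk, OneHom.coe_mk]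
    rw [hc', mul_inv_cancel_right]
  have hidem : (1 - T) * (1 - T) = 1 - T := by
    rw [sub_mul, one_mul, mul_sub, mul_one, hTT, sub_self, sub_zero]
  have hT1 : T * (1 - T) = 0 := by rw [mul_sub, mul_one, hTT, sub_self]
  have h1T : (1 - T) * T = 0 := by rw [sub_mul, one_mul, hTT, sub_self]
  let F : H →* Module.End ℂ (Fin d → ℂ) :=
    { toFun := fun γ => Extension.op N ρ γ * T + (1 - T)
      map_one' := by simp
      map_mul' := fun a b => by
        have e1 : Extension.op N ρ a * T * (Extension.op N ρ b * T) =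
            Extension.op N ρ ((a * b : H) : Extension.Gam N ρ) * T := by
          rw [mul_assoc (Extension.op N ρ (a : Extension.Gam N ρ)), ← mul_assoc T, ← hcomm b,
            mul_assoc (Extension.op N ρ (b : Extension.Gam N ρ)), hTT, Subgroup.coe_mul, map_mul,
            mul_assoc]
        have e2 : Extension.op N ρ a * T * (1 - T) = 0 := by rw [mul_assoc, hT1, mul_zero]
        have e3 : (1 - T) * (Extension.op N ρ b * T) = 0 := by
          rw [hcomm b, ← mul_assoc, h1T, zero_mul]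
        rw [add_mul, mul_add, mul_add, e1, e2, e3, hidem, add_zero, zero_add] }
  let δ : H →* ℂˣ := ((LinearMap.det (A := ℂ) (M := Fin d → ℂ)).comp F).toHomUnits
  let π : H →* E := MonoidHom.mk' (fun γ => ⟨Extension.proj N ρ γ, Subgroup.mem_comap.1 γ.2⟩)
    fun a b => Subtype.ext (map_mul (Extension.proj N ρ) (a : Extension.Gam N ρ) b)
  let μ₀ : H →* ℂˣ := δ * ((ψ.comp π) ^ m)⁻¹
  have hag : ∀ (γ : Extension.Gam N ρ) (h₁ : γ ∈ Extension.base N ρ) (h₂ : γ ∈ H),
      μ₀ ⟨γ, h₂⟩ = ((Extension.lam N ρ) ^ m) ⟨γ, h₁⟩ := by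
    intro γ h₁ h₂
    let y : N.subgroupOf E :=
      ⟨π ⟨γ, h₂⟩, Subgroup.mem_subgroupOf.2 (Subgroup.mem_comap.1 h₁)⟩
    have hF : F ⟨γ, h₂⟩ =
        ((Extension.lam N ρ ⟨γ, h₁⟩ * φ y : ℂˣ) : ℂ) • T + (1 - T) := by
      show Extension.op N ρ γ * T + (1 - T) = _
      rw [Extension.lam_spec N ρ ⟨γ, h₁⟩, smul_mul_assoc, Units.val_mul, mul_smul,
        ← hmulT y]
      rfl
    have hδ : δ ⟨γ, h₂⟩ = (Extension.lam N ρ ⟨γ, h₁⟩ * φ y) ^ m := by
      refine Units.ext ?_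
      rw [Units.val_pow_eq_pow_val, MonoidHom.coe_toHomUnits, MonoidHom.comp_apply, hF]
      exact det_idem T hTT htr _
    show δ ⟨γ, h₂⟩ * ((ψ.comp π) ^ m)⁻¹ ⟨γ, h₂⟩ = _
    rw [hδ, MonoidHom.inv_apply, MonoidHom.pow_apply, MonoidHom.pow_apply, MonoidHom.comp_apply,
      show ψ (π ⟨γ, h₂⟩) = φ y from hψ y, mul_pow, mul_inv_cancel_right]
  have hdec : ∀ γ : Extension.Gam N ρ, ∃ h ∈ H, ∃ b ∈ Extension.base N ρ, γ = h * b := by
    intro γ
    have hg : Extension.proj N ρ γ ∈ E ⊔ N := htop ▸ Subgroup.mem_top _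
    obtain ⟨e, he, n, hn, hen⟩ := Subgroup.mem_sup_of_normal_right.1 hg
    refine ⟨γ * (Extension.emb N ρ ⟨n, hn⟩)⁻¹, ?_, Extension.emb N ρ ⟨n, hn⟩, ?_,
      (inv_mul_cancel_right _ _).symm⟩
    · show Extension.proj N ρ _ ∈ E
      rw [map_mul, map_inv, Extension.proj_emb, ← hen]
      simpa using he
    · exact hn
  obtain ⟨μ, hμB, -⟩ := exists_glue (Extension.base N ρ) H ((Extension.lam N ρ) ^ m)
    (fun γ b => by rw [MonoidHom.pow_apply, MonoidHom.pow_apply, Extension.lam_invariant])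
    μ₀ hag hdec
  exact ⟨μ, fun b => by rw [hμB, MonoidHom.pow_apply, zpow_natCast]⟩

/-- The extension theorem. -/
theorem extends_of_sylow_central {p : ℕ} [hp : Fact p.Prime] (N : Subgroup G) [hN : N.Normal]
    [Fintype N] (hind : ∃ k : ℕ, N.index = p ^ k) (P : Sylow p G)
    (hcent : ∀ x ∈ (P : Subgroup G) ⊓ N, ∀ y ∈ (P : Subgroup G), x * y = y * x)
    (hlin : ∀ lam : ↥((P : Subgroup G) ⊓ N) →* ℂˣ, ∃ μ : ↥(P : Subgroup G) →* ℂˣ,
      ∀ x : ↥((P : Subgroup G) ⊓ N), μ ⟨(x : G), x.2.1⟩ = lam x)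
    {ϑ : N → ℂ} (hϑ : Cfsg.IsIrrCharacter N ϑ)
    (hinv : ∀ (g : G) (n : N), ϑ ⟨g * n * g⁻¹, hN.conj_mem (n : G) n.2 g⟩ = ϑ n) :
    ∃ χ : G → ℂ, Cfsg.IsIrrCharacter G χ ∧ ∀ n : N, χ n = ϑ n := by
  classical
  obtain ⟨E, l, hE, htop, h⟩ := Dade.detection N hind hϑ hinv
  haveI : Fintype (N.subgroupOf E) := Fintype.ofFinite _
  obtain ⟨s, hps, hs⟩ := h
  obtain ⟨χ, -, m, hm, hmv⟩ :=
    Dade.exists_constituent N (isCharacter_of_isIrr hϑ) hinv E hind l hs hps
  obtain ⟨hDc, hext⟩ := elementary_extend N hind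
    (fun R => (transport N P hcent hlin R).1) (fun R => (transport N P hcent hlin R).2) E hE
  have h1 : (χ : N.subgroupOf E → ℂ) 1 = 1 := by
    obtain ⟨e, σ, hσ, hσe⟩ := χ.2
    haveI := hσ
    have hc : Subgroup.center (N.subgroupOf E) = ⊤ := eq_top_iff.2 fun a _ =>
      Subgroup.mem_center_iff.2 fun b => Subtype.ext
        (Subgroup.mem_center_iff.1 (hDc a.2) (b : E))
    have hd := finrank_dvd_center_index σ
    rw [hc, Subgroup.index_top, Nat.dvd_one] at hd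
    rw [← hσe, Representation.char_one, hd, Nat.cast_one]
  obtain ⟨φ, hφ⟩ := exists_hom_of_degree_one (isCharacter_of_isIrr χ.2) h1
  obtain ⟨ψ, hψ⟩ := hext φ
  obtain ⟨d, ρ, hρ, rfl⟩ := hϑ
  haveI := hρ
  have hsurj := Extension.proj_surjective N ρ (ExtensionCriteria.hinv_rep N hinv)
  have hexp := exponent_of_elementary N ρ E htop hDc φ ψ hψ (m := m) (by
    rw [← hmv, hφ])
  obtain ⟨k, hk⟩ := hind
  have hcop : Nat.Coprime N.index m := by
    rw [hk]
    exact Nat.Coprime.pow_left k (hp.out.coprime_iff_not_dvd.2 hm)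
  obtain ⟨ν, hν⟩ := TransferExtend.exists_extend_of_coprime (Extension.base N ρ)
    (Extension.lam N ρ) hcop (Extension.exponent_index_self N ρ hsurj) hexp
  obtain ⟨R, hR⟩ := Extension.extends_of_hom N ρ hsurj ν hν
  exact ⟨_, ExtensionCriteria.isIrr_of_rep N R hR⟩

end CfsgLib.CharactersDeep.PQuotientExtend
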