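import Cfsg.Agent.Characters.Induction
import Cfsg.Agent.Characters.Solomon

/-!
# Permutation characters: conjugation invariance and quasi-elementary subgroups in ambient terms
-/

set_option autoImplicit false
set_option linter.style.haveILetI false
set_option linter.unusedSectionVars false

namespace CfsgLib.CharactersDeep.PermCharSpan

open CfsgLib.Characters

variable {G : Type*} [Group G] [Fintype G]

/-- Conjugate subgroups give the same permutation character. -/
theorem indFun_one_map_conj (A : Subgroup G) (a : G) :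
    Cfsg.indFun (A.map (MulAut.conj a).toMonoidHom) (fun _ => 1) =
      Cfsg.indFun A (fun _ => 1) := by
  funext g
  simp only [Cfsg.indFun]
  rw [Nat.card_congr (Subgroup.equivMapOfInjective A (MulAut.conj a).toMonoidHom (MulAut.conj a).injective).symm.toEquiv]
  congr 1
  refine Fintype.sum_equiv (Equiv.mulRight a) _ _ fun x => ?_
  have key : x⁻¹ * g * x ∈ A.map (MulAut.conj a).toMonoidHom ↔ (x * a)⁻¹ * g * (x * a) ∈ A := by
    rw [Subgroup.mem_map_equiv, MulAut.conj_symm_apply]
    simp [mul_assoc]
  simp only [Equiv.coe_mulRight]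
  by_cases h : (x * a)⁻¹ * g * (x * a) ∈ A
  · rw [extendByZero_of_mem _ _ (key.2 h), extendByZero_of_mem _ _ h]
  · rw [extendByZero_of_not_mem _ _ (fun hh => h (key.1 hh)), extendByZero_of_not_mem _ _ h]

/-- A quasi-elementary subgroup has a cyclic normal `p'`-subgroup of `p`-power index. -/
theorem exists_cyclic_of_isQuasiElementary (p : ℕ) (H : Subgroup G)
    (h : IsQuasiElementary p H) :
    ∃ C : Subgroup G, C ≤ H ∧ H ≤ Subgroup.normalizer (C : Set G) ∧ IsCyclic C ∧
      Nat.Coprime (Nat.card C) p ∧ ∃ k : ℕ, C.relIndex H = p ^ k := by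
  obtain ⟨x, hn, hcop, k, hk⟩ := h
  have hle : (Subgroup.zpowers x).map H.subtype ≤ H := Subgroup.map_subtype_le _
  have heq : ((Subgroup.zpowers x).map H.subtype).subgroupOf H = Subgroup.zpowers x :=
    Subgroup.comap_map_eq_self_of_injective H.subtype_injective _
  refine ⟨_, hle, (Subgroup.normal_subgroupOf_iff_le_normalizer hle).1 (heq.symm ▸ hn),
    ?_, ?_, k, ?_⟩
  · exact (Subgroup.equivMapOfInjective _ _ H.subtype_injective).isCyclic.1 inferInstance
  · rwa [Nat.card_congr (Subgroup.equivMapOfInjective _ _ H.subtype_injective).symm.toEquiv,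
      Nat.card_zpowers]
  · rw [Subgroup.relIndex, heq, hk]

end CfsgLib.CharactersDeep.PermCharSpan
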