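import Cfsg.Agent.GaloisAverage.CoprimeModule
import Cfsg.Agent.Characters.Classes
import Mathlib.GroupTheory.SchurZassenhaus

/-!
# An element of an abelian normal Sylow subgroup with that subgroup as centraliser

The number of irreducible characters is at most the order of the subgroup.
-/

set_option autoImplicit false
set_option linter.style.haveILetI false

namespace CfsgLib.CharactersDeep.RegularCentralizer

open CfsgLib.Characters CfsgLib.GaloisAverage
open scoped commutatorElement
open scoped ComplexConjugate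

universe u

variable {G : Type u} [Group G] [Fintype G] {p : ℕ} [Fact p.Prime]

/-- At most `|P|` irreducible characters, with equality only if `G ⧸ P` is abelian. -/
theorem card_irr_le (P : Sylow p G) [(P : Subgroup G).Normal]
    (hab : ∀ a ∈ P, ∀ b ∈ P, a * b = b * a) (g : G) (hg : g ∈ P)
    (hC : Subgroup.centralizer ({g} : Set G) = P) :
    Nat.card (Cfsg.IrrCharacter G) ≤ Nat.card P ∧
      (Nat.card (Cfsg.IrrCharacter G) = Nat.card P → commutator G ≤ P) := by
  classical
  obtain ⟨K, hK⟩ := Subgroup.exists_right_complement'_of_coprime (N := (P : Subgroup G))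
    P.card_coprime_index
  have hKp : ¬ p ∣ Nat.card K := by
    rw [← hK.symm.index_eq_card]
    exact P.not_dvd_index
  have hne : ∀ χ : Cfsg.IrrCharacter G, (χ : G → ℂ) g ≠ 0 := fun χ =>
    char_ne_zero_of_mem (P : Subgroup G) P.2 hab K hK hKp χ.2 hg
  set n := Nat.card G with hn
  have hn0 : 0 < n := Nat.card_pos
  have hlow : ∀ χ : Cfsg.IrrCharacter G,
      (n.totient : ℝ) ≤ ∑ k ∈ totatives n, ‖(χ : G → ℂ) (g ^ k)‖ ^ 2 := fun χ =>
    totient_le_sum_char (isCharacter_of_isIrr χ.2) hn0 pow_card_eq_one' (hne χ) 2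
  have hcol : ∀ k ∈ totatives n,
      ∑ χ : Cfsg.IrrCharacter G, ‖(χ : G → ℂ) (g ^ k)‖ ^ 2 = (Nat.card P : ℝ) := by
    intro k hk
    have h1 := sum_irr_mul_conj_of_isConj (IsConj.refl (g ^ k))
    have hcent : Subgroup.centralizer ({g ^ k} : Set G) =
        Subgroup.centralizer ({g} : Set G) := by
      have hcop : Nat.Coprime (Nat.card G) k := (mem_totatives.1 hk).2.symm
      refine le_antisymm (fun x hx => ?_) fun x hx => ?_
      · have hc : Commute x (g ^ k) := Subgroup.mem_centralizer_singleton_iff.1 hx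
        obtain ⟨j, hj⟩ := exists_pow_eq_self_of_coprime
          ((hcop.coprime_dvd_left (orderOf_dvd_natCard g)).symm)
        rw [Subgroup.mem_centralizer_singleton_iff, ← hj]
        exact (hc.pow_right j).eq
      · exact Subgroup.mem_centralizer_singleton_iff.2
          ((show Commute x g from Subgroup.mem_centralizer_singleton_iff.1 hx).pow_right k).eq
    rw [hcent, hC] at h1
    simp only [Complex.mul_conj'] at h1
    exact_mod_cast h1
  have hphi : (0 : ℝ) < n.totient := Nat.cast_pos.2 (Nat.totient_pos.2 hn0)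
  have htot : ∑ χ : Cfsg.IrrCharacter G, ∑ k ∈ totatives n, ‖(χ : G → ℂ) (g ^ k)‖ ^ 2 =
      (n.totient : ℝ) * Nat.card P := by
    rw [Finset.sum_comm, Finset.sum_congr rfl hcol, Finset.sum_const, card_totatives, nsmul_eq_mul]
  constructor
  · have h1 := Finset.sum_le_sum fun χ (_ : χ ∈ Finset.univ) => hlow χ
    rw [htot, Finset.sum_const, nsmul_eq_mul, mul_comm, Finset.card_univ,
      ← Nat.card_eq_fintype_card] at h1
    exact_mod_cast le_of_mul_le_mul_left h1 hphi
  · intro heq
    have h2 : ∀ χ : Cfsg.IrrCharacter G,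
        ∑ k ∈ totatives n, ‖(χ : G → ℂ) (g ^ k)‖ ^ 2 = (n.totient : ℝ) := fun χ =>
      ((Finset.sum_eq_sum_iff_of_le fun ψ _ => hlow ψ).1 (by
        rw [htot, Finset.sum_const, Finset.card_univ, ← Nat.card_eq_fintype_card, heq, nsmul_eq_mul,
          mul_comm]) χ (Finset.mem_univ χ)).symm
    rw [commutator_eq_closure, Subgroup.closure_le]
    rintro _ ⟨x, y, rfl⟩
    rw [SetLike.mem_coe, ← QuotientGroup.eq_one_iff]
    haveI := Fintype.ofFinite (G ⧸ (P : Subgroup G))
    refine isConj_one_left.1 (isConj_of_irr_eq fun ψ => ?_)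
    let χ : Cfsg.IrrCharacter G := ⟨fun z => (ψ : G ⧸ (P : Subgroup G) → ℂ) z,
      isIrr_comp (QuotientGroup.mk' (P : Subgroup G)) (QuotientGroup.mk'_surjective _) ψ.2⟩
    obtain ⟨d, hd⟩ := exists_degree (isCharacter_of_isIrr ψ.2)
    have h3 : ∀ k : ℕ, (χ : G → ℂ) (g ^ k) = d := fun k => by
      show (ψ : G ⧸ (P : Subgroup G) → ℂ) ((g ^ k : G) : G ⧸ (P : Subgroup G)) = d
      rw [(QuotientGroup.eq_one_iff _).2 (pow_mem hg k), hd]
    have h4 := h2 χ
    simp only [h3, Complex.norm_natCast, Finset.sum_const, card_totatives, nsmul_eq_mul] at h4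
    have h5 : (d : ℝ) ^ 2 = 1 := mul_left_cancel₀ hphi.ne' (h4.trans (mul_one _).symm)
    have h6 : d = 1 := by
      have : d ^ 2 = 1 := by exact_mod_cast h5
      simpa using this
    obtain ⟨f, hf⟩ := exists_hom_of_degree_one (isCharacter_of_isIrr ψ.2)
      (by rw [hd, h6, Nat.cast_one])
    rw [hf]
    show ((f.comp (QuotientGroup.mk' (P : Subgroup G))) ⁅x, y⁆ : ℂ) = (f 1 : ℂ)
    rw [map_commutatorElement, map_one,
      commutatorElement_eq_one_iff_mul_comm.2 (mul_comm _ _)]

end CfsgLib.CharactersDeep.RegularCentralizer
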