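import Cfsg.Agent.Blocks.RegularSupport
import Cfsg.Agent.Blocks.PPart

/-!
# Character values at regular parts

Modulo a maximal ideal over `p` a character has the same value at an element and at its
`p`-regular part, and the reductions separate the `p`-regular classes.
-/

set_option autoImplicit false
set_option linter.style.haveILetI false

namespace CfsgLib.CharactersDeep.RegularPart

open CfsgLib.Blocks CfsgLib.Characters

universe u

variable {G : Type u} [Group G] [Fintype G] {p : ℕ} {M : Ideal Cfsg.AlgInt}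

theorem regular_part (hp : p.Prime) {x a : G} (ha : Cfsg.IsPPart p x a) :
    ¬ p ∣ orderOf (a⁻¹ * x) ∧ a⁻¹ * x ∈ Subgroup.zpowers x := by
  refine ⟨?_, mul_mem (inv_mem (isPPart_mem_zpowers hp ha)) (Subgroup.mem_zpowers x)⟩
  obtain ⟨y, hxy, -, -, hy⟩ := ha
  rwa [← hxy, inv_mul_cancel_left]

/-- The value at an element is congruent to that at its regular part. -/
theorem char_sub_regular (hM : Cfsg.IsPModular p M) [M.IsPrime] {χ : G → ℂ}
    (hχ : Cfsg.IsCharacter G χ) {x a : G} (ha : Cfsg.IsPPart p x a) :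
    Cfsg.MemLocalIdeal M (χ x - χ (a⁻¹ * x)) := by
  obtain ⟨n, ρ, rfl⟩ := hχ
  obtain ⟨μ, hμ, hj, -⟩ := exists_eigenvalues ρ x
  obtain ⟨i, hi⟩ := (mem_powers_iff_mem_zpowers).2 (isPPart_mem_zpowers hM.1 ha)
  obtain ⟨j, hj'⟩ := (mem_powers_iff_mem_zpowers).2 (regular_part hM.1 ha).2
  dsimp only at hi hj'
  obtain ⟨-, -, -, ⟨e, he⟩, -⟩ := ha
  rw [show ρ.character x = ρ.character (x ^ 1) by rw [pow_one], hj, ← hj', hj,
    ← Finset.sum_sub_distrib]
  refine memLocalIdeal_sum _ fun t _ => ?_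
  have hint : IsIntegral ℤ (μ t) := IsIntegral.of_pow (orderOf_pos x) (hμ t ▸ isIntegral_one)
  let z : localRing M := ⟨μ t, memLocalRing_of_isIntegral hint⟩
  have hz : z ^ orderOf x = 1 := Subtype.ext (by simpa [z] using hμ t)
  have h1 : z ^ 1 = z ^ i * z ^ j := by
    rw [← pow_add]
    refine pow_eq_pow_of_modEq ?_ hz
    rw [← pow_eq_pow_iff_modEq, pow_one, pow_add, hi, hj', mul_inv_cancel_left]
  have h2 : red M (z ^ i) = 1 := by
    refine red_eq_one_of_pow_eq_one hM (k := e) ?_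
    rw [← pow_mul]
    obtain ⟨w, hw⟩ : orderOf x ∣ i * p ^ e := by
      rw [orderOf_dvd_iff_pow_eq_one, pow_mul, hi, ← he, pow_orderOf_eq_one]
    rw [hw, pow_mul, hz, one_pow]
  have h3 : red M (z ^ 1) = red M (z ^ j) := by rw [h1, map_mul, h2, one_mul]
  simpa [z] using red_eq_red_iff.1 h3

/-- The reductions of the characters separate the regular classes. -/
theorem isConj_iff_congr (hM : Cfsg.IsPModular p M) {x y a b : G} (ha : Cfsg.IsPPart p x a)
    (hb : Cfsg.IsPPart p y b) :
    IsConj (a⁻¹ * x) (b⁻¹ * y) ↔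
      ∀ χ : Cfsg.IrrCharacter G, Cfsg.MemLocalIdeal M ((χ : G → ℂ) x - (χ : G → ℂ) y) := by
  classical
  haveI := IsPModular.isPrime hM
  haveI := Fact.mk hM.1
  have hdiff : ∀ χ : Cfsg.IrrCharacter G,
      (χ : G → ℂ) x - (χ : G → ℂ) y = ((χ : G → ℂ) x - (χ : G → ℂ) (a⁻¹ * x)) -
        ((χ : G → ℂ) y - (χ : G → ℂ) (b⁻¹ * y)) +
        ((χ : G → ℂ) (a⁻¹ * x) - (χ : G → ℂ) (b⁻¹ * y)) := fun χ => by ring
  constructor
  · intro h χ
    rw [hdiff, sub_eq_zero.2 (classFunction_isConj (isClassFunction_of_isIrr χ.2) h), add_zero]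
    exact memLocalIdeal_sub (char_sub_regular hM (isCharacter_of_isIrr χ.2) ha)
      (char_sub_regular hM (isCharacter_of_isIrr χ.2) hb)
  · intro h
    by_contra hne
    obtain ⟨c, hc, hind⟩ := exists_indicator_comb hM (regular_part hM.1 ha).1
    have h1 := hind _ (regular_part hM.1 ha).1
    have h2 := hind _ (regular_part hM.1 hb).1
    rw [if_pos (IsConj.refl _)] at h1
    rw [if_neg hne] at h2
    refine not_memLocalIdeal_one (M := M) ?_
    rw [← h1, ← sub_zero (∑ χ, _), ← h2, ← Finset.sum_sub_distrib]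
    refine memLocalIdeal_sum _ fun χ _ => ?_
    rw [← mul_sub]
    refine memLocalIdeal_mul_left (hc χ) ?_
    have := memLocalIdeal_sub (h χ) (memLocalIdeal_sub
      (char_sub_regular hM (isCharacter_of_isIrr χ.2) ha)
      (char_sub_regular hM (isCharacter_of_isIrr χ.2) hb))
    convert this using 1
    ring

end CfsgLib.CharactersDeep.RegularPart
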