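import Cfsg.Agent.Characters.BrauerInduction
import Cfsg.Agent.Characters.Integrality
import Cfsg.Agent.CharactersDeep.Average
import Mathlib.Data.Nat.ChineseRemainder

/-!
# Functions supported on sections

For `|G| = m n` with `m`, `n` coprime, `x ↦ x ^ k` (with `k ≡ 0 (m)`, `k ≡ 1 (n)`) is the projection
of an element on its part of order prime to `m`.  On elementary subgroups it is a homomorphism; by
Brauer's theorem suitable multiples of the indicators of its fibres are combinations of irreducible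
characters with algebraic integer coefficients.
-/

set_option autoImplicit false
set_option linter.style.haveILetI false
set_option linter.unusedSectionVars false

namespace CfsgLib.CharactersDeep.SectionFun

open CfsgLib.Characters CfsgLib.CharactersDeep
open scoped ComplexConjugate

universe u

variable {G : Type u} [Group G]

theorem pow_eq_self_of_dvd {n k : ℕ} (hk1 : k ≡ 1 [MOD n]) {v : G} (hv : orderOf v ∣ n) :
    v ^ k = v := by
  conv_rhs => rw [← pow_one v]
  exact pow_eq_pow_iff_modEq.2 (hk1.of_dvd hv)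

theorem pow_eq_one_of_dvd {m k : ℕ} (hk0 : m ∣ k) {u : G} (hu : orderOf u ∣ m) : u ^ k = 1 :=
  orderOf_dvd_iff_pow_eq_one.1 (hu.trans hk0)

/-- The projection of a commuting product. -/
theorem pow_mul_eq {m n k : ℕ} (hk0 : m ∣ k) (hk1 : k ≡ 1 [MOD n]) {u v : G} (hc : Commute u v)
    (hu : orderOf u ∣ m) (hv : orderOf v ∣ n) : (u * v) ^ k = v := by
  rw [hc.mul_pow, pow_eq_one_of_dvd hk0 hu, pow_eq_self_of_dvd hk1 hv, one_mul]

theorem orderOf_pow_dvd' [Finite G] {m n k : ℕ} (hmn : Nat.card G = m * n) (hk0 : m ∣ k) (x : G) :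
    orderOf (x ^ k) ∣ n := by
  obtain ⟨j, rfl⟩ := hk0
  rw [orderOf_dvd_iff_pow_eq_one, ← pow_mul,
    show m * j * n = Nat.card G * j by rw [hmn]; ring, pow_mul, pow_card_eq_one', one_pow]

theorem orderOf_rest_dvd [Finite G] {m n k : ℕ} (hmn : Nat.card G = m * n)
    (hk1 : k ≡ 1 [MOD n]) (x : G) : orderOf (x * (x ^ k)⁻¹) ∣ m := by
  rw [orderOf_dvd_iff_pow_eq_one, (Commute.pow_self x k).symm.inv_right.mul_pow, inv_pow,
    ← pow_mul, mul_inv_eq_one]
  refine pow_eq_pow_iff_modEq.2 (Nat.ModEq.of_dvd (orderOf_dvd_natCard x) ?_)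
  rw [hmn]
  have := Nat.ModEq.mul_left' m hk1
  rw [mul_one, mul_comm m k] at this
  exact this.symm

theorem orderOf_dvd_of_coprime [Finite G] {m n : ℕ} (hmn : Nat.card G = m * n) {u : G}
    (h : Nat.Coprime (orderOf u) n) : orderOf u ∣ m :=
  h.dvd_of_dvd_mul_right (hmn ▸ orderOf_dvd_natCard u)

theorem orderOf_dvd_of_coprime' [Finite G] {m n : ℕ} (hmn : Nat.card G = m * n) {v : G}
    (h : Nat.Coprime (orderOf v) m) : orderOf v ∣ n :=
  h.dvd_of_dvd_mul_left (hmn ▸ orderOf_dvd_natCard v)

/-- On an elementary group the projection is a homomorphism. -/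
theorem exists_powHom {E : Type u} [Group E] [Finite E] {p : ℕ} (hp : p.Prime)
    (hE : Cfsg.IsElementary p E) {m n k : ℕ} (hcard : Nat.card E ∣ m * n) (hcop : Nat.Coprime m n)
    (hk0 : m ∣ k) (hk1 : k ≡ 1 [MOD n]) : ∃ f : E →* E, ∀ y, f y = y ^ k := by
  haveI := Fact.mk hp
  obtain ⟨c, hc, hcop', a, ha⟩ := hE
  obtain ⟨P⟩ : Nonempty (Sylow p E) := inferInstance
  haveI : (Subgroup.zpowers c).Normal := ⟨fun x hx g => by
    have := Subgroup.zpowers_le.2 hc hx
    rwa [Subgroup.mem_center_iff.1 this g, mul_inv_cancel_right]⟩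
  have htop : Subgroup.zpowers c ⊔ (P : Subgroup E) = ⊤ := by
    refine Subgroup.index_eq_one.1 (Nat.eq_one_of_dvd_coprimes (a := p ^ a)
      (b := (P : Subgroup E).index) ?_ (ha ▸ Subgroup.index_dvd_of_le le_sup_left)
      (Subgroup.index_dvd_of_le le_sup_right))
    exact Nat.Coprime.pow_left a (hp.coprime_iff_not_dvd.2 P.not_dvd_index)
  have hord : ∀ w ∈ (P : Subgroup E), ∃ i, orderOf w = p ^ i := fun w hw => by
    obtain ⟨i, hi⟩ := IsPGroup.iff_orderOf.1 P.2 ⟨w, hw⟩
    exact ⟨i, by rw [← hi]; exact Subgroup.orderOf_coe (⟨w, hw⟩ : (P : Subgroup E))⟩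
  have hP : (∀ w ∈ (P : Subgroup E), w ^ k = 1) ∨ ∀ w ∈ (P : Subgroup E), w ^ k = w := by
    by_cases hpm : p ∣ m
    · refine Or.inl fun w hw => pow_eq_one_of_dvd hk0 ?_
      obtain ⟨i, hi⟩ := hord w hw
      exact (hi ▸ Nat.Coprime.pow_left i (hcop.coprime_dvd_left hpm) :
        Nat.Coprime (orderOf w) n).dvd_of_dvd_mul_right ((orderOf_dvd_natCard w).trans hcard)
    · refine Or.inr fun w hw => pow_eq_self_of_dvd hk1 ?_
      obtain ⟨i, hi⟩ := hord w hw
      exact (hi ▸ Nat.Coprime.pow_left i (hp.coprime_iff_not_dvd.2 hpm) :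
        Nat.Coprime (orderOf w) m).dvd_of_dvd_mul_left ((orderOf_dvd_natCard w).trans hcard)
  refine ⟨{ toFun := fun y => y ^ k, map_one' := one_pow k, map_mul' := fun y y' => ?_ },
    fun _ => rfl⟩
  have hdec : ∀ y : E, ∃ s ∈ Subgroup.zpowers c, ∃ w ∈ (P : Subgroup E), s * w = y := fun y =>
    Subgroup.mem_sup_of_normal_left.1 (htop ▸ Subgroup.mem_top y)
  obtain ⟨s, hs, w, hw, rfl⟩ := hdec y
  obtain ⟨s', hs', w', hw', rfl⟩ := hdec y'
  have hsc : ∀ z ∈ Subgroup.zpowers c, ∀ g : E, Commute z g := fun z hz g =>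
    (Subgroup.mem_center_iff.1 (Subgroup.zpowers_le.2 hc hz) g).symm
  have e1 : s * w * (s' * w') = (s * s') * (w * w') := by
    rw [mul_assoc, ← mul_assoc w, ← (hsc s' hs' w).eq, mul_assoc s' w, ← mul_assoc]
  show (s * w * (s' * w')) ^ k = (s * w) ^ k * (s' * w') ^ k
  rw [e1, (hsc _ (mul_mem hs hs') _).mul_pow, (hsc s hs s').mul_pow, (hsc s hs w).mul_pow,
    (hsc s' hs' w').mul_pow]
  rcases hP with h | h <;> rw [h w hw, h w' hw', h _ (mul_mem hw hw')]
  · simp
  · rw [mul_assoc, ← mul_assoc (s' ^ k), (hsc _ (pow_mem hs' k) w).eq]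
    simp [mul_assoc]

variable [Fintype G]

set_option maxHeartbeats 1000000 in
open Classical in
/-- The multiple `c` of the indicator of a fibre of the projection has algebraic integer inner
products with characters. -/
theorem section_integral {m n k : ℕ} (hmn : Nat.card G = m * n) (hcop : Nat.Coprime m n)
    (hk0 : m ∣ k) (hk1 : k ≡ 1 [MOD n]) (g : G) (c : ℕ)
    (hc : ∀ B : Subgroup G, (∀ b ∈ B, b * g = g * b) → Nat.Coprime (Nat.card B) m →
      Nat.card B ∣ c) (ϑ : G → ℂ) (hϑ : ∀ x, ϑ x = if IsConj g (x ^ k) then (c : ℂ) else 0)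
    {F : G → ℂ} (hF : Cfsg.IsCharacter G F) : IsIntegral ℤ (Cfsg.classInner ϑ F) := by
  have hcl : Cfsg.IsClassFunction G ϑ := fun x h => by
    rw [hϑ, hϑ, conj_pow]
    have hh : IsConj (x ^ k) (h * x ^ k * h⁻¹) := isConj_iff.2 ⟨h, rfl⟩
    congr 1
    exact propext ⟨fun H => H.trans hh.symm, fun H => H.trans hh⟩
  suffices key : ∀ f ∈ brauerSpan G, IsIntegral ℤ (Cfsg.classInner (ϑ * f) F) by
    have := key _ (isCharacter_mem_brauerSpan (isCharacter_one (G := G)))
    convert! this using 3
    funext x; simp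
  intro f hf
  induction hf using AddSubgroup.closure_induction with
  | zero => rw [mul_zero, classInner_zero_left]; exact isIntegral_zero
  | add a b _ _ ha hb => rw [mul_add, classInner_add_left]; exact ha.add hb
  | neg a _ ha =>
    rw [mul_neg, ← neg_one_smul ℂ (ϑ * a), classInner_smul_left, neg_one_mul]
    exact ha.neg
  | mem f hf =>
    obtain ⟨E, l, ⟨p, hp, hE⟩, rfl⟩ := hf
    rw [mul_comm ϑ, show Cfsg.indFun E (fun e => (l e : ℂ)) * ϑ =
      Cfsg.indFun E (fun e : E => (l e : ℂ) * ϑ e) from (indFun_mul E _ hcl).symm,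
      classInner_indFun E _ (isClassFunction_of_isCharacter hF)]
    obtain ⟨f, hf⟩ := exists_powHom hp hE (hmn ▸ Subgroup.card_subgroup_dvd_card E) hcop hk0 hk1
    -- the mean over the kernel
    let A : E → ℂ := fun e => (l e : ℂ) * conj (F e)
    have hA : Cfsg.IsCharacter E A := isCharacter_mul (isCharacter_of_isIrr (isIrr_linChar l))
      (isCharacter_conj (isCharacter_restrict E hF))
    let a : E → ℂ := Average.avg f.ker A
    have ha : Cfsg.IsCharacter E a := Average.isCharacter_avg _ hA
    have hff : ∀ y : E, f (f y) = f y := fun y => by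
      rw [hf (f y), hf y]
      refine pow_eq_self_of_dvd hk1 ?_
      rw [← Subgroup.orderOf_coe, Subgroup.coe_pow]
      exact orderOf_pow_dvd' hmn hk0 _
    have haf : ∀ y : E, a y = a (f y) := fun y => by
      have h1 : y * (f y)⁻¹ ∈ f.ker := by
        rw [MonoidHom.mem_ker, map_mul, map_inv, hff, mul_inv_cancel]
      have h2 := Average.avg_mul_mem f.ker A ⟨_, h1⟩ (f y)
      rwa [inv_mul_cancel_right] at h2
    have hϑf : ∀ y : E, ϑ y = if IsConj g ((f y : E) : G) then (c : ℂ) else 0 := fun y => by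
      rw [hϑ, hf, Subgroup.coe_pow]
    have hker : ∀ (z : f.ker) (y : E), f ((z : E) * y) = f y := fun z y => by
      rw [map_mul, MonoidHom.mem_ker.1 z.2, one_mul]
    have hinner : Cfsg.classInner (fun e : E => (l e : ℂ) * ϑ e) (fun e : E => F e) =
        (Nat.card E : ℂ)⁻¹ * ∑ y : E, ϑ y * a y := by
      rw [Cfsg.classInner]
      congr 1
      have h1 : ∀ z : f.ker, ∑ y : E, ϑ y * A ((z : E) * y) = ∑ y : E, ϑ y * A y := fun z =>
        Fintype.sum_equiv (Equiv.mulLeft (z : E)) _ _ fun y => by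
          rw [Equiv.coe_mulLeft, hϑf ((z : E) * y), hker, ← hϑf]
      symm
      calc ∑ y : E, ϑ y * a y
          = (Nat.card f.ker : ℂ)⁻¹ * ∑ z : f.ker, ∑ y : E, ϑ y * A ((z : E) * y) := by
            simp only [a, Average.avg, Finset.mul_sum]
            rw [Finset.sum_comm]
            exact Finset.sum_congr rfl fun z _ => Finset.sum_congr rfl fun y _ => by ring
        _ = ∑ y : E, ϑ y * A y := by
            rw [Finset.sum_congr rfl fun z _ => h1 z, Finset.sum_const, Finset.card_univ,
              ← Nat.card_eq_fintype_card, nsmul_eq_mul, ← mul_assoc,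
              inv_mul_cancel₀ (Nat.cast_ne_zero.2 Nat.card_pos.ne'), one_mul]
        _ = _ := Finset.sum_congr rfl fun y _ => by simp only [A]; ring
    rw [hinner]
    -- the sum over the image
    let h : f.range → ℂ := fun v => if IsConj g ((v : E) : G) then (c : ℂ) * a v else 0
    have hsum : ∑ y : E, ϑ y * a y = (Nat.card f.ker : ℂ) * ∑ v : f.range, h v := by
      rw [← Finset.sum_fiberwise Finset.univ f.rangeRestrict, Finset.mul_sum]
      refine Finset.sum_congr rfl fun v _ => ?_
      obtain ⟨y₀, rfl⟩ := f.rangeRestrict_surjective v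
      have hval : ∀ y ∈ Finset.univ.filter (fun y => f.rangeRestrict y = f.rangeRestrict y₀),
          ϑ y * a y = h (f.rangeRestrict y₀) := fun y hy => by
        have e : f y = f y₀ := congrArg Subtype.val (Finset.mem_filter.1 hy).2
        rw [haf, hϑf]
        rw [e]
        show _ = if IsConj g ((f y₀ : E) : G) then (c : ℂ) * a (f y₀) else 0
        rw [ite_mul, zero_mul]
      rw [Finset.sum_congr rfl hval, Finset.sum_const, nsmul_eq_mul]
      congr 2
      rw [← Fintype.card_subtype, ← Nat.card_eq_fintype_card]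
      refine Nat.card_congr
        { toFun := fun y => ⟨y.1 * y₀⁻¹, ?_⟩
          invFun := fun z => ⟨z.1 * y₀, Subtype.ext (hker z y₀)⟩
          left_inv := fun y => Subtype.ext (inv_mul_cancel_right _ _)
          right_inv := fun z => Subtype.ext (mul_inv_cancel_right _ _) }
      rw [MonoidHom.mem_ker, map_mul, map_inv,
        show f y.1 = f y₀ from congrArg Subtype.val y.2, mul_inv_cancel]
    have hcardE : Nat.card f.range * Nat.card f.ker = Nat.card E := by
      rw [← Subgroup.index_ker, Subgroup.index_mul_card]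
    rw [hsum, ← hcardE]
    push_cast
    rw [mul_inv_rev, mul_comm (Nat.card f.ker : ℂ)⁻¹, mul_assoc,
      inv_mul_cancel_left₀ (Nat.cast_ne_zero.2 Nat.card_pos.ne'),
      ← Finset.sum_fiberwise Finset.univ (ConjClasses.mk : f.range → ConjClasses f.range),
      Finset.mul_sum]
    refine IsIntegral.sum _ fun C _ => ?_
    obtain ⟨v₀, rfl⟩ := ConjClasses.mk_surjective C
    by_cases hv : IsConj g ((v₀ : E) : G)
    swap
    · rw [Finset.sum_eq_zero, mul_zero]
      · exact isIntegral_zero
      intro v hv'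
      simp only [h]
      rw [if_neg fun H => hv ?_]
      exact H.trans ((E.subtype.comp f.range.subtype).map_isConj
        (ConjClasses.mk_eq_mk_iff_isConj.1 (Finset.mem_filter.1 hv').2))
    rw [Finset.sum_congr rfl (g := fun _ => (c : ℂ) * a v₀) fun v hv' => ?_, Finset.sum_const,
      nsmul_eq_mul]
    swap
    · have hvc := ConjClasses.mk_eq_mk_iff_isConj.1 (Finset.mem_filter.1 hv').2
      simp only [h]
      rw [if_pos (show IsConj g ((v : E) : G) from
        hv.trans ((E.subtype.comp f.range.subtype).map_isConj hvc).symm)]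
      congr 1
      exact classFunction_isConj (isClassFunction_of_isCharacter ha) (f.range.subtype.map_isConj hvc)
    set C' := Subgroup.centralizer ({v₀} : Set f.range)
    have hfib : (Finset.univ.filter (fun v : f.range => ConjClasses.mk v = ConjClasses.mk v₀)).card
        = C'.index := by
      rw [← Fintype.card_subtype, ← Nat.card_eq_fintype_card, ← card_conjugates_eq_index]
      exact Nat.card_congr (Equiv.subtypeEquivRight fun v => ConjClasses.mk_eq_mk_iff_isConj)
    obtain ⟨t, ht⟩ := isConj_iff.1 hv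
    have hdvd : Nat.card C' ∣ c := by
      let φ : C' →* G := (MulAut.conj t⁻¹).toMonoidHom.comp
        ((E.subtype.comp f.range.subtype).comp C'.subtype)
      have hφ : Function.Injective φ := (MulAut.conj t⁻¹).injective.comp
        ((E.subtype_injective.comp f.range.subtype_injective).comp C'.subtype_injective)
      rw [Nat.card_congr (MonoidHom.ofInjective hφ).toEquiv]
      refine hc φ.range ?_ ?_
      · rintro _ ⟨w, rfl⟩
        have hw : (((w : f.range) : E) : G) * ((v₀ : E) : G) = ((v₀ : E) : G) * ((w : f.range) : E) := by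
          have := congrArg (fun z : f.range => ((z : E) : G))
            (Subgroup.mem_centralizer_singleton_iff.1 w.2)
          simpa using this
        rw [show g = t⁻¹ * ((v₀ : E) : G) * t by rw [← ht]; group]
        simp only [φ, MonoidHom.comp_apply, MulEquiv.coe_toMonoidHom, MulAut.conj_apply, inv_inv,
          Subgroup.coe_subtype]
        have e := congrArg (fun z => t⁻¹ * z * t) hw
        simpa [mul_assoc] using e
      · refine Nat.coprime_of_dvd fun q hq hqB hqm => ?_
        haveI := Fact.mk hq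
        rw [← Nat.card_congr (MonoidHom.ofInjective hφ).toEquiv] at hqB
        obtain ⟨w, hw⟩ := exists_prime_orderOf_dvd_card' q hqB
        obtain ⟨y, hy⟩ := (w : f.range).2
        have h1 : orderOf ((w : f.range) : E) ∣ n := by
          rw [← hy, hf, ← Subgroup.orderOf_coe, Subgroup.coe_pow]
          exact orderOf_pow_dvd' hmn hk0 _
        rw [Subgroup.orderOf_coe, Subgroup.orderOf_coe, hw] at h1
        exact hq.ne_one (Nat.eq_one_of_dvd_coprimes hcop hqm h1)
    obtain ⟨j, hj⟩ := hdvd
    rw [hfib, ← Subgroup.index_mul_card C', hj]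
    push_cast
    rw [show ((C'.index : ℂ) * Nat.card C')⁻¹ * ((C'.index : ℂ) * ((Nat.card C' : ℂ) * j * a v₀)) =
      (j : ℂ) * a v₀ by
      field_simp [show (C'.index : ℂ) ≠ 0 from Nat.cast_ne_zero.2 Subgroup.index_ne_zero_of_finite,
        show (Nat.card C' : ℂ) ≠ 0 from Nat.cast_ne_zero.2 Nat.card_pos.ne']]
    exact ((isIntegral_algebraMap (R := ℤ) (A := ℂ) (x := (j : ℤ)))).mul
      (character_isIntegral ha _)

end CfsgLib.CharactersDeep.SectionFun
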