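import Mathlib.GroupTheory.Transfer
import Mathlib.Algebra.Module.NatInt
import Mathlib.Algebra.Group.Subgroup.Order
import Mathlib.GroupTheory.Archimedean
import Mathlib.RingTheory.Int.Basic
import Mathlib.Analysis.Complex.Basic
import Mathlib.RingTheory.RootsOfUnity.Basic

/-!
# Extending invariant linear characters by transfer

If a units-valued homomorphism of a subgroup is invariant, its transfer restricts to a power of it.
The exponents for which a power extends form a subgroup of `ℤ`.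
-/

set_option autoImplicit false

namespace CfsgLib.CharactersDeep.TransferExtend

variable {G : Type*} [Group G] {A : Type*} [CommGroup A]

/-- The transfer at an element all whose relevant conjugates of powers have the expected value. -/
theorem transfer_apply_eq_pow (H : Subgroup G) [H.FiniteIndex] (ν : H →* A) (g : G) (a : A)
    (hval : ∀ (k : ℕ) (c : G) (h : c⁻¹ * g ^ k * c ∈ H), ν ⟨_, h⟩ = a ^ k) :
    MonoidHom.transfer ν g = a ^ H.index := by
  classical
  haveI := H.fintypeQuotientOfFiniteIndex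
  rw [MonoidHom.transfer_eq_prod_quotient_orbitRel_zpowers_quot,
    Subgroup.index_eq_sum_minimalPeriod H g, ← Finset.prod_pow_eq_pow_sum]
  exact Finset.prod_congr rfl fun q _ => hval _ _ _

/-- `hom` of a subgroup extends to `H`, which has finite index: the `H.index`-th power extends to
`G` when the values on `N` are invariant. -/
theorem exists_extend_pow_index (N H : Subgroup G) [hN : N.Normal] [H.FiniteIndex] (hNH : N ≤ H)
    (lam : N →* A) (hinv : ∀ (g : G) (n : N), lam ⟨g * n * g⁻¹, hN.conj_mem n n.2 g⟩ = lam n)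
    (ν : H →* A) (hν : ∀ n : N, ν ⟨n, hNH n.2⟩ = lam n) :
    ∃ μ : G →* A, ∀ n : N, μ n = lam n ^ H.index := by
  refine ⟨MonoidHom.transfer ν, fun n => transfer_apply_eq_pow H ν _ _ fun k c h => ?_⟩
  have hmem : c⁻¹ * (n : G) ^ k * c ∈ N := by
    simpa using hN.conj_mem _ (N.pow_mem n.2 k) c⁻¹
  calc ν ⟨_, h⟩ = lam ⟨_, hmem⟩ := hν ⟨_, hmem⟩
    _ = lam (n ^ k) := by
        refine Eq.trans ?_ (hinv c⁻¹ (n ^ k))
        exact congrArg lam (Subtype.ext (by simp))
    _ = lam n ^ k := map_pow lam n k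

/-- The exponents `k` for which `lam ^ k` extends to the whole group. -/
def extExponents (N : Subgroup G) (lam : N →* A) : AddSubgroup ℤ where
  carrier := {k | ∃ μ : G →* A, ∀ n : N, μ n = lam n ^ k}
  zero_mem' := ⟨1, fun n => by simp⟩
  add_mem' := by
    rintro a b ⟨μ, hμ⟩ ⟨ν, hν⟩
    exact ⟨μ * ν, fun n => by rw [MonoidHom.mul_apply, hμ, hν, zpow_add]⟩
  neg_mem' := by
    rintro a ⟨μ, hμ⟩
    exact ⟨μ⁻¹, fun n => by rw [MonoidHom.inv_apply, hμ, zpow_neg]⟩

/-- If for each prime some exponent prime to it extends, the homomorphism extends. -/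
theorem exists_extend_of_exponents (N : Subgroup G) (lam : N →* A)
    (h : ∀ p : ℕ, p.Prime → ∃ k : ℕ, ¬ p ∣ k ∧ (k : ℤ) ∈ extExponents N lam) :
    ∃ μ : G →* A, ∀ n : N, μ n = lam n := by
  obtain ⟨d, hd⟩ := Int.subgroup_cyclic (extExponents N lam)
  have hunit : d.natAbs = 1 := by
    by_contra hne
    obtain ⟨k, hk, hkmem⟩ := h _ (Nat.minFac_prime hne)
    rw [hd, AddSubgroup.mem_closure_singleton] at hkmem
    obtain ⟨j, hj⟩ := hkmem
    rw [smul_eq_mul] at hj
    refine hk ((Nat.minFac_dvd _).trans ?_)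
    rw [← Int.natCast_dvd_natCast, ← hj, Int.natAbs_dvd]
    exact Dvd.intro_left j rfl
  have hone : (1 : ℤ) ∈ extExponents N lam := by
    rw [hd, AddSubgroup.mem_closure_singleton]
    rcases Int.natAbs_eq d with h' | h'
    · exact ⟨1, by rw [h', hunit]; simp⟩
    · exact ⟨-1, by rw [h', hunit]; simp⟩
  obtain ⟨μ, hμ⟩ := hone
  exact ⟨μ, fun n => by simpa using hμ n⟩

/-- If two coprime powers extend, the homomorphism extends. -/
theorem exists_extend_of_coprime (N : Subgroup G) (lam : N →* A) {k l : ℕ} (hkl : Nat.Coprime k l)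
    (hk : (k : ℤ) ∈ extExponents N lam) (hl : (l : ℤ) ∈ extExponents N lam) :
    ∃ μ : G →* A, ∀ n : N, μ n = lam n := by
  refine exists_extend_of_exponents N lam fun p hp => ?_
  by_cases hpk : p ∣ k
  · exact ⟨l, fun hpl => hp.not_dvd_one (hkl ▸ Nat.dvd_gcd hpk hpl), hl⟩
  · exact ⟨k, hpk, hk⟩

/-- An invariant homomorphism of order coprime to the index extends with the same order. -/
theorem exists_extend_same_exponent (N : Subgroup G) [hN : N.Normal] [N.FiniteIndex]
    (lam : N →* ℂˣ) (hinv : ∀ (g : G) (n : N), lam ⟨g * n * g⁻¹, hN.conj_mem n n.2 g⟩ = lam n)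
    {o : ℕ} [NeZero o] (ho : ∀ n, lam n ^ o = 1) (hcop : Nat.Coprime N.index o) :
    ∃ μ : G →* ℂˣ, (∀ n : N, μ n = lam n) ∧ ∀ g, μ g ^ o = 1 := by
  let lam' : N →* rootsOfUnity o ℂ := lam.codRestrict _ fun n => (mem_rootsOfUnity _ _).mpr (ho n)
  have hinv' : ∀ (g : G) (n : N), lam' ⟨g * n * g⁻¹, hN.conj_mem n n.2 g⟩ = lam' n := fun g n =>
    Subtype.ext (hinv g n)
  obtain ⟨μ, hμ⟩ : ∃ μ : G →* rootsOfUnity o ℂ, ∀ n : N, μ n = lam' n := by
    refine exists_extend_of_coprime N lam' hcop ?_ ?_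
    · obtain ⟨μ, hμ⟩ := exists_extend_pow_index N N le_rfl lam' hinv' lam' fun n => rfl
      exact ⟨μ, fun n => by simpa using hμ n⟩
    · exact ⟨1, fun n => by
        rw [zpow_natCast]
        exact (Subtype.ext (ho n)).symm⟩
  refine ⟨(rootsOfUnity o ℂ).subtype.comp μ, fun n => congrArg Subtype.val (hμ n), fun g => ?_⟩
  exact (mem_rootsOfUnity _ _).mp (μ g).2

/-- A homomorphism trivial on `N`, whose values have exponent coprime to the index, is trivial. -/
theorem eq_one_of_coprime (N : Subgroup G) [N.Normal] (μ : G →* A) (hN1 : ∀ n : N, μ n = 1)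
    {o : ℕ} (ho : ∀ g, μ g ^ o = 1) (hcop : Nat.Coprime N.index o) : μ = 1 := by
  ext g
  have h1 : μ g ^ N.index = 1 := by
    rw [← map_pow]; exact hN1 ⟨_, N.pow_index_mem g⟩
  have h2 := pow_gcd_eq_one.mpr ⟨h1, ho g⟩
  rwa [hcop, pow_one] at h2

end CfsgLib.CharactersDeep.TransferExtend
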