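import Cfsg.Agent.CharactersDeep.AbelianBound
import Cfsg.Agent.CharactersDeep.TransferExtend
import Mathlib.GroupTheory.Sylow
import Mathlib.GroupTheory.Abelianization.Defs

/-!
# Feit, Thompson and Blichfeldt: normal Sylow subgroups in small degree

`scalar_of_small`: an element whose `p`-th power is central acts by a scalar on an irreducible
module of degree less than `p - 1` of an extension of a `p'`-group by it.
-/

set_option autoImplicit false
set_option linter.style.haveILetI false
set_option linter.unusedSectionVars false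

namespace CfsgLib.CharactersDeep.SmallDegree

open CfsgLib.Characters CfsgLib.CharactersDeep
open scoped ComplexConjugate commutatorElement

universe u

variable {G : Type u} [Group G] [Fintype G]

theorem classInner_sum_le {ι : Type*} [Fintype ι] (m : ι → ℕ) (r : ι → Cfsg.IrrCharacter G) :
    ∃ k : ℕ, k ≤ (∑ i, m i) ^ 2 ∧
      Cfsg.classInner (∑ i, (m i : ℂ) • (r i : G → ℂ)) (∑ i, (m i : ℂ) • (r i : G → ℂ)) = k := by
  classical
  refine ⟨∑ i, ∑ j, m i * m j * (if r i = r j then 1 else 0), ?_, ?_⟩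
  · rw [sq, Finset.sum_mul_sum]
    refine Finset.sum_le_sum fun i _ => Finset.sum_le_sum fun j _ => ?_
    split_ifs <;> simp
  · rw [classInner_sum_left]
    push_cast
    refine Finset.sum_congr rfl fun i _ => ?_
    rw [classInner_sum_right]
    refine Finset.sum_congr rfl fun j _ => ?_
    rw [classInner_smul_left, classInner_smul_right, classInner_irr, Complex.conj_natCast, mul_assoc]

/-- The scalar lemma. -/
theorem scalar_of_small {p k : ℕ} [hp : Fact p.Prime] (K : Subgroup G) [K.Normal] [Fintype K]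
    (x : G) (hord : orderOf x = p ^ (k + 1)) (hK : ¬ p ∣ Nat.card K)
    (hgen : ∀ g : G, ∃ a ∈ K, ∃ u ∈ Subgroup.zpowers x, g = a * u) (hxp : x ^ p ∈ Subgroup.center G)
    {d : ℕ} (ρ : Representation ℂ G (Fin d → ℂ)) [ρ.IsIrreducible] (hd : d + 1 < p) :
    ∃ c : ℂ, ρ x = c • LinearMap.id := by
  classical
  by_cases hxc : x ∈ Subgroup.center G
  · exact central_scalar ρ hxc
  set χ := ρ.character with hχ
  have hχc : Cfsg.IsCharacter G χ := isCharacter_character ρ
  set U := Subgroup.zpowers x with hU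
  set C := (Subgroup.centralizer ({x} : Set G)).subgroupOf K with hC
  haveI := Fintype.ofFinite U
  haveI := Fintype.ofFinite C
  haveI := Fintype.ofFinite (K ⧸ C)
  have hcopm : Nat.Coprime (p ^ (k + 1)) (Nat.card K) :=
    Nat.Coprime.pow_left _ (hp.out.coprime_iff_not_dvd.2 hK)
  have hKU : ∀ g, g ∈ K → g ∈ U → g = 1 := fun g h1 h2 => by
    have h3 : orderOf g ∣ Nat.card K := Subgroup.orderOf_dvd_natCard K h1
    have h4 : orderOf g ∣ p ^ (k + 1) := hord ▸ orderOf_dvd_of_mem_zpowers h2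
    exact orderOf_eq_one_iff.1 (Nat.eq_one_of_dvd_coprimes hcopm h4 h3)
  have hcomm : ∀ (c : C) (u : U), Commute ((c : K) : G) (u : G) := fun c u => by
    obtain ⟨i, hi⟩ := Subgroup.mem_zpowers_iff.1 u.2
    rw [← hi]
    exact (show Commute ((c : K) : G) x from Subgroup.mem_centralizer_singleton_iff.1 c.2).zpow_right i
  -- decomposition
  have hbij : Function.Bijective (fun q : U × K => (q.2 : G) * q.1) := by
    refine ⟨fun q q' e => ?_, fun g => ?_⟩
    · have h1 : (q'.2 : G)⁻¹ * q.2 = q'.1 * (q.1 : G)⁻¹ := by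
        rw [eq_mul_inv_iff_mul_eq, mul_assoc, show (q.2 : G) * q.1 = q'.2 * q'.1 from e,
          inv_mul_cancel_left]
      have h2 := hKU _ (K.mul_mem (K.inv_mem q'.2.2) q.2.2)
        (h1 ▸ U.mul_mem q'.1.2 (U.inv_mem q.1.2))
      rw [h2, eq_comm, mul_inv_eq_one] at h1
      rw [inv_mul_eq_one] at h2
      exact Prod.ext (Subtype.ext h1.symm) (Subtype.ext h2.symm)
    · obtain ⟨a, ha, u, hu, rfl⟩ := hgen g
      exact ⟨(⟨u, hu⟩, ⟨a, ha⟩), rfl⟩
  set A : U → ℝ := fun u => ∑ a : K, ‖χ ((a : G) * u)‖ ^ 2 with hA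
  set B : U → ℝ := fun u => ∑ c : C, ‖χ (((c : K) : G) * u)‖ ^ 2 with hB
  have hG : ∑ u, A u = (Nat.card G : ℝ) := by
    have h := AbelianBound.sum_norm_sq (k := 1) (f := χ)
      (by rw [Nat.cast_one]; exact classInner_isIrr_self (isIrrCharacter_character ρ))
    rw [Nat.cast_one, one_mul] at h
    rw [← h, ← (Equiv.ofBijective _ hbij).sum_comp, Fintype.sum_prod_type]
    rfl
  have hcardG : (Nat.card G : ℝ) = (p : ℝ) ^ (k + 1) * Nat.card K := by
    rw [← Nat.card_congr (Equiv.ofBijective _ hbij), Nat.card_prod, Nat.card_zpowers, hord]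
    push_cast; rfl
  -- central and noncentral powers
  have hcentral : ∀ u : U, (u : G) ∈ Subgroup.center G → A u = A 1 ∧ B u = B 1 := by
    intro u hu
    obtain ⟨ω, hω⟩ := central_scalar ρ hu
    have hωn : ‖ω‖ = 1 := by
      have h1 := (norm_char_eq_iff_scalar ρ (u : G)).2 ⟨ω, hω⟩
      rw [Representation.character, hω, map_smul, show (LinearMap.id : (Fin d → ℂ) →ₗ[ℂ] _) = 1 from rfl,
        LinearMap.trace_one, norm_smul, Complex.norm_natCast] at h1
      exact (mul_eq_right₀ (Nat.cast_ne_zero.2 (finrank_pos_of_isIrreducible ρ).ne')).1 h1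
    have hmul : ∀ g : G, ‖χ (g * u)‖ = ‖χ g‖ := fun g => by
      simp only [hχ, Representation.character, map_mul, hω, Module.End.mul_eq_comp,
        LinearMap.comp_smul, LinearMap.comp_id, map_smul, norm_smul, hωn, one_mul]
    constructor <;> simp only [hA, hB, hmul, Subgroup.coe_one, mul_one]
  obtain ⟨m, hm1, hm0⟩ := Nat.chineseRemainder hcopm 1 0
  have hnonc : ∀ u : U, (u : G) ∉ Subgroup.center G →
      (Nat.card C : ℝ) * A u = (Nat.card K : ℝ) * B u := by
    intro u hu
    obtain ⟨i, hi⟩ := (mem_powers_iff_mem_zpowers (x := x) (y := (u : G))).2 u.2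
    have hi' : x ^ i = (u : G) := hi
    have hpi : ¬ p ∣ i := fun ⟨j, hj⟩ => hu (by rw [← hi', hj, pow_mul]; exact Subgroup.pow_mem _ hxp j)
    obtain ⟨l, hl⟩ := exists_pow_eq_self_of_coprime (x := x) (n := i)
      (by rw [hord]; exact Nat.Coprime.pow_right _ ((hp.out.coprime_iff_not_dvd.2 hpi).symm))
    rw [hi'] at hl
    have hpow : ∀ c : C, (((c : K) : G) * u) ^ m = u := fun c => by
      rw [(hcomm c u).mul_pow]
      have h1 : ((c : K) : G) ^ m = 1 := orderOf_dvd_iff_pow_eq_one.1
        ((Subgroup.orderOf_dvd_natCard K (c : K).2).trans (Nat.modEq_zero_iff_dvd.1 hm0))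
      have h2 : (u : G) ^ m = (u : G) := by
        conv_rhs => rw [← pow_one (u : G)]
        exact pow_eq_pow_iff_modEq.2 (hm1.of_dvd (hord ▸ orderOf_dvd_of_mem_zpowers u.2))
      rw [h1, h2, one_mul]
    have hmem : ∀ (q : K ⧸ C) (c : C),
        (q.out : G) * (((c : K) : G) * u) * (q.out : G)⁻¹ * (u : G)⁻¹ ∈ K := fun q c => by
      rw [show (q.out : G) * (((c : K) : G) * u) * (q.out : G)⁻¹ * (u : G)⁻¹ =
        (q.out : G) * ((c : K) : G) * ((u : G) * (q.out : G)⁻¹ * (u : G)⁻¹) by group]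
      exact K.mul_mem (K.mul_mem (q.out).2 (c : K).2)
        ((inferInstance : K.Normal).conj_mem _ (K.inv_mem (q.out).2) _)
    let Φ : (K ⧸ C) × C → K := fun w => ⟨_, hmem w.1 w.2⟩
    have hΦ : Function.Bijective Φ := by
      refine (Fintype.bijective_iff_injective_and_card Φ).2 ⟨fun w w' e => ?_, ?_⟩
      · have h1 : (w.1.out : G) * (((w.2 : K) : G) * u) * (w.1.out : G)⁻¹ =
            (w'.1.out : G) * (((w'.2 : K) : G) * u) * (w'.1.out : G)⁻¹ :=
          mul_right_cancel (congrArg Subtype.val e)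
        have h2 := congrArg (· ^ m) h1
        simp only [conj_pow, hpow] at h2
        have h3 : Commute ((w'.1.out : G)⁻¹ * w.1.out) (u : G) := by
          show _ = _
          calc (w'.1.out : G)⁻¹ * w.1.out * u
              = (w'.1.out : G)⁻¹ * ((w.1.out : G) * u * (w.1.out : G)⁻¹) * w.1.out := by group
            _ = (u : G) * ((w'.1.out : G)⁻¹ * w.1.out) := by rw [h2]; group
        have h4 : w'.1 = w.1 := by
          rw [← QuotientGroup.out_eq' w.1, ← QuotientGroup.out_eq' w'.1]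
          refine QuotientGroup.eq.2 (Subgroup.mem_subgroupOf.2
            (Subgroup.mem_centralizer_singleton_iff.2 ?_))
          have h5 := h3.pow_right l
          rw [hl] at h5
          exact h5.eq
        rw [h4, mul_left_inj, mul_right_inj, mul_left_inj] at h1
        exact Prod.ext h4.symm (Subtype.ext (Subtype.ext h1))
      · rw [Fintype.card_prod, Fintype.card_eq_nat_card, Fintype.card_eq_nat_card,
          Fintype.card_eq_nat_card, ← Subgroup.index_eq_card, Subgroup.index_mul_card]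
    have hsum : A u = ∑ _q : K ⧸ C, B u := by
      simp only [hA, hB]
      rw [← (Equiv.ofBijective Φ hΦ).sum_comp, Fintype.sum_prod_type]
      refine Finset.sum_congr rfl fun q _ => Finset.sum_congr rfl fun c _ => ?_
      simp only [Equiv.ofBijective_apply, Φ, inv_mul_cancel_right]
      rw [show χ ((q.out : G) * (((c : K) : G) * u) * (q.out : G)⁻¹) = χ (((c : K) : G) * u) from
        isClassFunction_of_isCharacter hχc _ _]
    rw [hsum, Finset.sum_const, Finset.card_univ, nsmul_eq_mul, Fintype.card_eq_nat_card,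
      ← Subgroup.index_eq_card, ← mul_assoc]
    congr 1
    rw [mul_comm]
    exact_mod_cast Subgroup.index_mul_card C
  set S₀ := Finset.univ.filter (fun u : U => (u : G) ∈ Subgroup.center G) with hS₀
  have hq : S₀.card = p ^ k := by
    rw [hS₀, ← Fintype.card_subtype, Fintype.card_eq_nat_card]
    have hiff : ∀ g : G, g ∈ U ∧ g ∈ Subgroup.center G ↔ g ∈ Subgroup.zpowers (x ^ p) := by
      refine fun g => ⟨fun ⟨h1, h2⟩ => ?_, fun h => ⟨?_, ?_⟩⟩
      · obtain ⟨i, hi⟩ := (mem_powers_iff_mem_zpowers (x := x) (y := g)).2 h1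
        have hi' : x ^ i = g := hi
        by_cases hpi : p ∣ i
        · obtain ⟨j, rfl⟩ := hpi
          rw [← hi', pow_mul]
          exact Subgroup.pow_mem _ (Subgroup.mem_zpowers _) j
        · obtain ⟨l, hl⟩ := exists_pow_eq_self_of_coprime (x := x) (n := i)
            (by rw [hord]; exact Nat.Coprime.pow_right _ ((hp.out.coprime_iff_not_dvd.2 hpi).symm))
          exact absurd (hl ▸ Subgroup.pow_mem _ (hi' ▸ h2) l) hxc
      · exact Subgroup.zpowers_le.2 (Subgroup.pow_mem _ (Subgroup.mem_zpowers x) p) h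
      · exact Subgroup.zpowers_le.2 hxp h
    rw [Nat.card_congr (β := Subgroup.zpowers (x ^ p))
      { toFun := fun u => ⟨u.1, (hiff _).1 ⟨u.1.2, u.2⟩⟩
        invFun := fun g => ⟨⟨g, ((hiff _).2 g.2).1⟩, ((hiff _).2 g.2).2⟩
        left_inv := fun u => rfl
        right_inv := fun g => rfl },
      Nat.card_zpowers, orderOf_pow_of_dvd hp.out.ne_zero (hord ▸ dvd_pow_self p (by omega)), hord,
      pow_succ, Nat.mul_div_cancel _ hp.out.pos]
  -- the norms
  obtain ⟨M, hM⟩ := classInner_characters (isCharacter_restrict K hχc) (isCharacter_restrict K hχc)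
  have hM0 : 1 ≤ M := Nat.one_le_iff_ne_zero.2 fun h0 => by
    have h := AbelianBound.sum_norm_sq hM
    rw [h0, Nat.cast_zero, zero_mul] at h
    have h1 := (Finset.sum_eq_zero_iff_of_nonneg fun g _ => sq_nonneg _).1 h 1 (Finset.mem_univ _)
    rw [pow_eq_zero_iff two_ne_zero, norm_eq_zero] at h1
    exact irr_one_ne_zero (isIrrCharacter_character ρ) h1
  have hA1 : A 1 = (M : ℝ) * Nat.card K := by
    rw [← AbelianBound.sum_norm_sq hM]
    simp [hA]
  let ι : C × U →* G := MonoidHom.mk' (fun w => ((w.1 : K) : G) * w.2) fun w w' => by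
    show ((w.1 * w'.1 : C) : K) * ((w.2 * w'.2 : U) : G) = _
    rw [Subgroup.coe_mul, Subgroup.coe_mul, Subgroup.coe_mul, mul_assoc, mul_assoc,
      ← mul_assoc ((w'.1 : K) : G), (hcomm w'.1 w.2).eq, mul_assoc]
  have hFc : Cfsg.IsCharacter (C × U) (fun w => χ (ι w)) := isCharacter_comp ι hχc
  obtain ⟨c, hc⟩ := exists_nat_coeff hFc
  have hscalU : ∀ (δ : Cfsg.IrrCharacter (C × U)) (w : C × U),
      ‖(δ : C × U → ℂ) w‖ = ‖(δ : C × U → ℂ) (w.1, 1)‖ := by
    intro δ w
    obtain ⟨e, σ, hσ, hσe⟩ := δ.2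
    haveI := hσ
    have hcen : ((1 : C), w.2) ∈ Subgroup.center (C × U) := Subgroup.mem_center_iff.2 fun v => by
      obtain ⟨i, hi⟩ := Subgroup.mem_zpowers_iff.1 w.2.2
      obtain ⟨j, hj⟩ := Subgroup.mem_zpowers_iff.1 v.2.2
      refine Prod.ext (by simp) (Subtype.ext ?_)
      show (v.2 : G) * w.2 = w.2 * v.2
      rw [← hi, ← hj, ← zpow_add, ← zpow_add, add_comm]
    obtain ⟨ω, hω⟩ := central_scalar σ hcen
    have hωn : ‖ω‖ = 1 := by
      have h1 := (norm_char_eq_iff_scalar σ _).2 ⟨ω, hω⟩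
      rw [Representation.character, hω, map_smul, show (LinearMap.id : (Fin e → ℂ) →ₗ[ℂ] _) = 1 from rfl,
        LinearMap.trace_one, norm_smul, Complex.norm_natCast] at h1
      exact (mul_eq_right₀ (Nat.cast_ne_zero.2 (finrank_pos_of_isIrreducible σ).ne')).1 h1
    have hw : w = (w.1, (1 : U)) * ((1 : C), w.2) := by simp
    rw [← hσe]
    conv_lhs => rw [hw]
    simp only [Representation.character, map_mul, hω, Module.End.mul_eq_comp, LinearMap.comp_smul,
      LinearMap.comp_id, map_smul, norm_smul, hωn, one_mul]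
  have hres : ∀ δ : Cfsg.IrrCharacter (C × U),
      Cfsg.IsIrrCharacter C (fun y => (δ : C × U → ℂ) (y, 1)) := by
    intro δ
    refine isIrr_of_classInner_self
      (isCharacter_comp (MonoidHom.inl C U) (isCharacter_of_isIrr δ.2)) ?_
    have h := AbelianBound.sum_norm_sq (k := 1) (f := (δ : C × U → ℂ))
      (by rw [Nat.cast_one]; exact classInner_isIrr_self δ.2)
    rw [Nat.cast_one, one_mul, Fintype.sum_prod_type, Nat.card_prod, Nat.cast_mul] at h
    rw [Finset.sum_congr rfl (g := fun y => (Nat.card U : ℝ) * ‖(δ : C × U → ℂ) (y, 1)‖ ^ 2)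
      fun y _ => by
        rw [Finset.sum_congr rfl (g := fun _ => ‖(δ : C × U → ℂ) (y, 1)‖ ^ 2) fun u _ => by
          rw [hscalU δ (y, u)], Finset.sum_const, Finset.card_univ, nsmul_eq_mul,
          Fintype.card_eq_nat_card], ← Finset.mul_sum, mul_comm] at h
    have h2 : ∑ y : C, ‖(δ : C × U → ℂ) (y, 1)‖ ^ 2 = (Nat.card C : ℝ) :=
      mul_right_cancel₀ (Nat.cast_ne_zero.2 Nat.card_pos.ne') h
    rw [Cfsg.classInner]
    simp only [Complex.mul_conj']
    rw [show ∑ y : C, ((‖(δ : C × U → ℂ) (y, 1)‖ : ℂ)) ^ 2 =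
      ((∑ y : C, ‖(δ : C × U → ℂ) (y, 1)‖ ^ 2 : ℝ) : ℂ) by push_cast; rfl, h2]
    push_cast
    exact inv_mul_cancel₀ natCard_ne_zero
  obtain ⟨MC, hMC, hMCe⟩ := classInner_sum_le (G := C) c fun δ => ⟨_, hres δ⟩
  have hMD : Cfsg.classInner (fun w => χ (ι w)) (fun w => χ (ι w)) = ((∑ δ, c δ * c δ : ℕ) : ℂ) := by
    rw [hc]; exact AbelianBound.classInner_coeff c
  have hB1 : B 1 = (MC : ℝ) * Nat.card C := by
    rw [← AbelianBound.sum_norm_sq hMCe]
    simp only [hB, Subgroup.coe_one, mul_one]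
    refine Finset.sum_congr rfl fun y _ => ?_
    have h := congrFun hc (y, 1)
    simp only [Finset.sum_apply, Pi.smul_apply] at h ⊢
    rw [← h]
    simp [ι]
  have hBsum : ∑ u, B u = ((∑ δ, c δ * c δ : ℕ) : ℝ) * ((Nat.card C : ℝ) * (p : ℝ) ^ (k + 1)) := by
    have h := AbelianBound.sum_norm_sq hMD
    rw [Fintype.sum_prod_type, Finset.sum_comm, Nat.card_prod, Nat.card_zpowers, hord] at h
    rw [show ∑ u, B u = ∑ u : U, ∑ y : C, ‖χ (ι (y, u))‖ ^ 2 from rfl, h]
    push_cast
    rfl
  -- the relation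
  set T := ∑ δ, c δ with hT
  set MD := ∑ δ, c δ * c δ with hMD'
  have hAs : (Nat.card C : ℝ) * ∑ u, A u = (Nat.card C : ℝ) * (S₀.card : ℝ) * A 1 +
      (Nat.card K : ℝ) * (∑ u, B u - (S₀.card : ℝ) * B 1) := by
    rw [← Finset.sum_filter_add_sum_filter_not Finset.univ (fun u : U => (u : G) ∈ Subgroup.center G) A,
      ← Finset.sum_filter_add_sum_filter_not Finset.univ (fun u : U => (u : G) ∈ Subgroup.center G) B,
      Finset.sum_congr rfl (g := fun _ => A 1) fun u hu => (hcentral u (Finset.mem_filter.1 hu).2).1,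
      Finset.sum_congr (s₁ := S₀) rfl (g := fun _ => B 1)
        fun u hu => (hcentral u (Finset.mem_filter.1 hu).2).2,
      Finset.sum_const, Finset.sum_const, nsmul_eq_mul, nsmul_eq_mul, ← hS₀, mul_add,
      Finset.mul_sum (s := Finset.univ.filter fun u : U => ¬ (u : G) ∈ Subgroup.center G),
      Finset.sum_congr rfl fun u hu => hnonc u (Finset.mem_filter.1 hu).2, ← Finset.mul_sum]
    ring
  rw [hG, hcardG, hA1, hB1, hBsum, hq] at hAs
  have hrel : p + MC = M + p * MD := by
    have hne : (Nat.card C : ℝ) * Nat.card K * (p : ℝ) ^ k ≠ 0 := by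
      have := Nat.cast_ne_zero (R := ℝ).2 (Nat.card_pos (α := C)).ne'
      have := Nat.cast_ne_zero (R := ℝ).2 (Nat.card_pos (α := K)).ne'
      have := Nat.cast_ne_zero (R := ℝ).2 hp.out.ne_zero
      positivity
    apply Nat.cast_injective (R := ℝ)
    refine mul_left_cancel₀ hne ?_
    push_cast at hAs ⊢
    linear_combination hAs
  have hTd : T ≤ d := by
    have h := congrFun hc 1
    simp only [map_one, Finset.sum_apply, Pi.smul_apply, smul_eq_mul, hχ, Representation.char_one,
      Module.finrank_fin_fun] at h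
    choose e he0 he using fun δ : Cfsg.IrrCharacter (C × U) => exists_degree_pos δ.2
    simp only [he] at h
    have h2 : d = ∑ δ, c δ * e δ := by exact_mod_cast h
    rw [h2]
    exact Finset.sum_le_sum fun δ _ => Nat.le_mul_of_pos_right _ (he0 δ)
  have hT1 : T ≤ MD := Finset.sum_le_sum fun δ _ => Nat.le_mul_self _
  have hT0 : T ≠ 0 := fun h0 => by
    have h := congrFun hc 1
    rw [Finset.sum_eq_zero fun δ _ => by
      rw [Finset.sum_eq_zero_iff.1 h0 δ (Finset.mem_univ δ), Nat.cast_zero, zero_smul]] at h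
    simp only [map_one, Pi.zero_apply] at h
    exact irr_one_ne_zero (isIrrCharacter_character ρ) h
  have hTone : T = 1 := by
    by_contra hne
    have h2 : 2 ≤ T := by omega
    have h3 : p * T ≤ p * MD := Nat.mul_le_mul_left p hT1
    nlinarith
  have hMDone : MD = 1 := by
    refine le_antisymm ?_ (hTone ▸ hT1)
    calc MD ≤ ∑ δ, c δ * T := Finset.sum_le_sum fun δ _ =>
          Nat.mul_le_mul_left _ (Finset.single_le_sum (fun _ _ => Nat.zero_le _) (Finset.mem_univ δ))
      _ = 1 := by rw [← Finset.sum_mul, ← hT, hTone, mul_one]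
  rw [hMDone, Nat.cast_one] at hMD
  haveI : Representation.IsIrreducible (ρ.comp ι) :=
    (isIrreducible_iff_classInner (ρ.comp ι)).2 hMD
  have hcenx : ((1 : C), (⟨x, Subgroup.mem_zpowers x⟩ : U)) ∈ Subgroup.center (C × U) :=
    Subgroup.mem_center_iff.2 fun v => by
      obtain ⟨j, hj⟩ := Subgroup.mem_zpowers_iff.1 v.2.2
      refine Prod.ext (by simp) (Subtype.ext ?_)
      show (v.2 : G) * x = x * v.2
      rw [← hj]
      exact ((Commute.refl x).zpow_left j).eq
  obtain ⟨ω, hω⟩ := central_scalar (ρ.comp ι) hcenx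
  refine ⟨ω, ?_⟩
  rw [← hω]
  simp [ι]

/-- All Sylow `p`-subgroups are normal. -/
def NormalSylow (p : ℕ) (G : Type u) [Group G] : Prop := ∀ Q : Sylow p G, (Q : Subgroup G).Normal

theorem NormalSylow.of_surjective {p : ℕ} [Fact p.Prime] {H : Type u} [Group H] [Finite H]
    (f : G →* H) (hf : Function.Surjective f) (h : NormalSylow p G) : NormalSylow p H := by
  intro Q
  obtain ⟨P⟩ : Nonempty (Sylow p G) := inferInstance
  have hn : ((P.mapSurjective hf : Sylow p H) : Subgroup H).Normal := by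
    rw [Sylow.coe_mapSurjective]
    exact (h P).map f hf
  haveI := hn
  obtain ⟨g, rfl⟩ := MulAction.exists_smul_eq H (P.mapSurjective hf) Q
  rw [Sylow.smul_eq_of_normal]
  exact hn

/-- A `p`-group containing all `p`-subgroups of a subgroup with normal Sylow subgroups. -/
theorem exists_core {p : ℕ} [Fact p.Prime] {U : Subgroup G} (h : NormalSylow p U) :
    ∃ R : Subgroup G, R ≤ U ∧ IsPGroup p R ∧ ∀ X : Subgroup G, X ≤ U → IsPGroup p X → X ≤ R := by
  obtain ⟨R⟩ : Nonempty (Sylow p U) := inferInstance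
  refine ⟨(R : Subgroup U).map U.subtype, Subgroup.map_subtype_le _, R.isPGroup'.map _,
    fun X hX hXp => ?_⟩
  have hX' : IsPGroup p (X.subgroupOf U) :=
    IsPGroup.of_equiv hXp (Subgroup.subgroupOfEquivOfLe hX).symm
  obtain ⟨T, hT⟩ := hX'.exists_le_sylow
  obtain ⟨g, rfl⟩ := MulAction.exists_smul_eq U R T
  haveI := h R
  rw [Sylow.smul_eq_of_normal] at hT
  exact fun y hy => ⟨⟨y, hX hy⟩, hT hy, rfl⟩

/-- The constituents of a faithful representation. -/
theorem exists_constituents {n : ℕ} (ρ : Representation ℂ G (Fin n → ℂ))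
    (hρ : Function.Injective ρ) :
    ∃ S : Finset (Cfsg.IrrCharacter G),
      (∀ φ ∈ S, ∃ d : ℕ, (φ : G → ℂ) 1 = d ∧ d ≤ n) ∧
      ∀ g : G, (∀ φ ∈ S, (φ : G → ℂ) g = (φ : G → ℂ) 1) → g = 1 := by
  classical
  obtain ⟨m, hm⟩ := exists_nat_coeff (isCharacter_character ρ)
  refine ⟨Finset.univ.filter (fun φ => m φ ≠ 0), fun φ hφ => ?_, fun g hg => ?_⟩
  · choose e he0 he using fun δ : Cfsg.IrrCharacter G => exists_degree_pos δ.2
    refine ⟨e φ, he φ, ?_⟩
    have h := congrFun hm 1
    simp only [Finset.sum_apply, Pi.smul_apply, smul_eq_mul, Representation.char_one,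
      Module.finrank_fin_fun, he] at h
    have h2 : n = ∑ δ, m δ * e δ := by exact_mod_cast h
    rw [h2]
    exact (Nat.le_mul_of_pos_left _ (Nat.pos_of_ne_zero (Finset.mem_filter.1 hφ).2)).trans
      (Finset.single_le_sum (f := fun δ => m δ * e δ) (fun _ _ => Nat.zero_le _) (Finset.mem_univ φ))
  · apply hρ
    rw [map_one]
    refine PrincipalBlock.rep_eq_one_of_char_eq ρ ?_
    rw [hm]
    simp only [Finset.sum_apply, Pi.smul_apply]
    refine Finset.sum_congr rfl fun φ _ => ?_
    by_cases h0 : m φ = 0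
    · simp [h0]
    · rw [hg φ (Finset.mem_filter.2 ⟨Finset.mem_univ _, h0⟩)]

/-- `p`-subgroups are abelian in degree less than `p`. -/
theorem comm_of_isPGroup {p : ℕ} [hp : Fact p.Prime] {n : ℕ} (hn : n < p)
    (ρ : Representation ℂ G (Fin n → ℂ)) (hρ : Function.Injective ρ) {Q : Subgroup G}
    (hQ : IsPGroup p Q) : ∀ a ∈ Q, ∀ b ∈ Q, a * b = b * a := by
  classical
  haveI := Fintype.ofFinite Q
  obtain ⟨S, hS1, hS2⟩ := exists_constituents (ρ.comp Q.subtype)
    (hρ.comp Q.subtype_injective)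
  intro a ha b hb
  suffices h : (⁅(⟨a, ha⟩ : Q), ⟨b, hb⟩⁆ : Q) = 1 from
    (congrArg Subtype.val (commutatorElement_eq_one_iff_commute.1 h).eq :)
  refine hS2 _ fun φ hφ => ?_
  obtain ⟨d, hd, hdn⟩ := hS1 φ hφ
  obtain ⟨e, σ, hσ, hσe⟩ := id φ.2
  haveI := hσ
  have he : e = d := by
    rw [← hσe, Representation.char_one, Module.finrank_fin_fun] at hd
    exact_mod_cast hd
  have h1 := finrank_dvd_card σ
  rw [Module.finrank_fin_fun] at h1
  obtain ⟨j, hj⟩ := hQ.exists_card_eq
  rw [hj] at h1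
  obtain ⟨i, -, hi⟩ := (Nat.dvd_prime_pow hp.out).1 h1
  have hi0 : i = 0 := by
    by_contra h0
    have : p ≤ e := hi ▸ Nat.le_self_pow h0 p
    omega
  obtain ⟨f, hf⟩ := exists_hom_of_degree_one (isCharacter_of_isIrr φ.2)
    (by rw [hd, ← he, hi, hi0, pow_zero, Nat.cast_one])
  rw [hf]
  simp [map_commutatorElement, commutatorElement_eq_one_iff_mul_comm, mul_comm]

/-- Transfer into an abelian Sylow subgroup. -/
theorem eq_one_of_commutator_center {p : ℕ} [hp : Fact p.Prime] (P : Sylow p G)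
    (hab : ∀ a ∈ (P : Subgroup G), ∀ b ∈ (P : Subgroup G), a * b = b * a) {z : G}
    (hz1 : z ∈ commutator G) (hz2 : z ∈ (P : Subgroup G)) (hz3 : z ∈ Subgroup.center G) : z = 1 := by
  set φ : (P : Subgroup G) →* Abelianization (P : Subgroup G) := Abelianization.of
  have hinj : Function.Injective φ := by
    rw [injective_iff_map_eq_one]
    intro a ha
    have h1 : a ∈ commutator (P : Subgroup G) := (QuotientGroup.eq_one_iff a).1 ha
    have h2 : commutator (P : Subgroup G) = ⊥ := by
      rw [commutator_def, Subgroup.commutator_eq_bot_iff_le_centralizer]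
      exact fun a _ => Subgroup.mem_centralizer_iff.2 fun b _ =>
        Subtype.ext (hab _ b.2 _ a.2)
    rw [h2] at h1
    exact Subgroup.mem_bot.1 h1
  have h1 := TransferExtend.transfer_apply_eq_pow (P : Subgroup G) φ z (φ ⟨z, hz2⟩) fun k c h => by
    rw [← map_pow]
    refine congrArg φ (Subtype.ext ?_)
    show c⁻¹ * z ^ k * c = z ^ k
    rw [Subgroup.mem_center_iff.1 (Subgroup.pow_mem _ hz3 k) c⁻¹, mul_assoc, inv_mul_cancel, mul_one]
  rw [MonoidHom.mem_ker.1 (Abelianization.commutator_subset_ker (MonoidHom.transfer φ) hz1),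
    ← map_pow, eq_comm, map_eq_one_iff φ hinj] at h1
  have h2 : z ^ (P : Subgroup G).index = 1 := by simpa using congrArg Subtype.val h1
  obtain ⟨j, hj⟩ := P.isPGroup'.exists_card_eq
  have h3 : orderOf z ∣ p ^ j := hj ▸ Subgroup.orderOf_dvd_natCard _ hz2
  exact orderOf_eq_one_iff.1 (Nat.eq_one_of_dvd_coprimes
    (Nat.Coprime.pow_left j (hp.out.coprime_iff_not_dvd.2 P.not_dvd_index)) h3
    (orderOf_dvd_of_pow_eq_one h2))

theorem normal_sylow_aux {p : ℕ} [hp : Fact p.Prime] {n : ℕ} (hn : n + 1 < p) (N : ℕ) :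
    ∀ (G : Type u) [Group G] [Fintype G], Nat.card G = N →
    ∀ (ρ : Representation ℂ G (Fin n → ℂ)), Function.Injective ρ →
    ((n + 1) ^ 2 ≤ p ∨ ∀ K : Subgroup G, ¬ p ^ 2 ∣ Nat.card K → NormalSylow p K) →
      NormalSylow p G := by
  induction N using Nat.strong_induction_on with
  | _ N ih =>
  intro G _ _ hN ρ hρ hyp P
  classical
  by_contra hnot
  have hproper : ∀ U : Subgroup G, U ≠ ⊤ → NormalSylow p U := by
    intro U hU
    haveI := Fintype.ofFinite U
    refine ih (Nat.card U) ?_ U rfl (ρ.comp U.subtype) (hρ.comp U.subtype_injective) ?_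
    · rw [← hN]
      exact lt_of_le_of_ne (Subgroup.card_le_card_group U) fun h => hU (Subgroup.eq_top_of_card_eq U h)
    · refine hyp.imp_right fun h K hK => ?_
      let e := K.equivMapOfInjective U.subtype U.subtype_injective
      haveI := Fintype.ofFinite (K.map U.subtype)
      exact NormalSylow.of_surjective e.symm.toMonoidHom e.symm.surjective
        (h (K.map U.subtype) (by rwa [Subgroup.card_map_of_injective U.subtype_injective]))
  have hab : ∀ T : Subgroup G, IsPGroup p T → ∀ a ∈ T, ∀ b ∈ T, a * b = b * a :=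
    fun T hT => comm_of_isPGroup (by omega) ρ hρ hT
  -- no proper normal subgroup contains `P`
  have hclo : ∀ M : Subgroup G, M.Normal → (P : Subgroup G) ≤ M → M = ⊤ := by
    intro M hM hPM
    by_contra hne
    obtain ⟨R, -, hR, hRmax⟩ := exists_core (hproper M hne)
    have hPR : R = P := P.is_maximal' hR (hRmax _ hPM P.isPGroup')
    refine hnot ⟨fun y hy g => ?_⟩
    have hle : (P : Subgroup G).map (MulAut.conj g).toMonoidHom ≤ R := by
      refine hRmax _ ?_ (P.isPGroup'.map _)
      rintro _ ⟨t, ht, rfl⟩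
      exact hM.conj_mem t (hPM ht) g
    rw [hPR] at hle
    exact hle ⟨y, hy, rfl⟩
  have hcenP : ∀ {z : G}, z ∈ (P : Subgroup G) → z ∈ Subgroup.center G → z ∈ commutator G → z = 1 :=
    fun h1 h2 h3 => eq_one_of_commutator_center P (hab _ P.isPGroup') h3 h1 h2
  obtain ⟨S, hS1, hS2⟩ := exists_constituents ρ hρ
  by_cases hperf : commutator G = ⊤
  · -- perfect
    haveI := Fintype.ofFinite (P : Subgroup G)
    obtain ⟨φ, hφ, hφ1⟩ : ∃ φ ∈ S, (φ : G → ℂ) 1 ≠ 1 := by
      by_contra h
      push Not at h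
      refine hnot ?_
      have hall : ∀ g : G, g = 1 := fun g => hS2 g fun φ hφ => by
        obtain ⟨f, hf⟩ := exists_hom_of_degree_one (isCharacter_of_isIrr φ.2) (h φ hφ)
        have hg : g ∈ commutator G := by rw [hperf]; exact Subgroup.mem_top g
        rw [hf]
        simp only [map_one]
        rw [MonoidHom.mem_ker.1 (Abelianization.commutator_subset_ker f hg)]
      exact ⟨fun y hy g => by rw [hall g, one_mul, inv_one, mul_one]; exact hy⟩
    obtain ⟨d, hd, hdn⟩ := hS1 φ hφ
    have hcard := AbelianBound.card_lt_succ_sq (H := (P : Subgroup G)) (hab _ P.isPGroup')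
      (eq_bot_iff.2 fun z hz => Subgroup.mem_bot.2
        (hcenP hz.1 hz.2 (by rw [hperf]; exact Subgroup.mem_top z)))
      ?_ φ.2 hd (fun h => hφ1 (by rw [hd, h, Nat.cast_one])) hclo
    · obtain ⟨j, hj⟩ := P.isPGroup'.exists_card_eq
      have hle : (1 + d) ^ 2 ≤ (n + 1) ^ 2 := Nat.pow_le_pow_left (by omega) 2
      rcases hyp with h | h
      · rcases Nat.eq_zero_or_pos j with h0 | h0
        · refine hnot ?_
          have hb : (P : Subgroup G) = ⊥ := Subgroup.eq_bot_of_card_eq _ (by rw [hj, h0, pow_zero])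
          rw [hb]
          infer_instance
        · have : p ≤ Nat.card (P : Subgroup G) := hj ▸ Nat.le_self_pow h0.ne' p
          omega
      · by_cases h2 : p ^ 2 ∣ Nat.card G
        · have h3 : p ^ 2 ∣ Nat.card (P : Subgroup G) := by
            rw [P.card_eq_multiplicity]
            exact pow_dvd_pow p ((hp.out.pow_dvd_iff_le_factorization Nat.card_pos.ne').1 h2)
          have h4 := Nat.le_of_dvd Nat.card_pos h3
          have h5 : (n + 1) ^ 2 < p ^ 2 := Nat.pow_lt_pow_left hn two_ne_zero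
          omega
        · exact hnot (NormalSylow.of_surjective (Subgroup.topEquiv (G := G)).toMonoidHom
            Subgroup.topEquiv.surjective (h ⊤ (by rwa [Subgroup.card_top])) P)
    -- the centraliser condition
    intro g hg a b ha hb
    have hne : ∀ {y : G}, y ∈ Subgroup.center G → ∀ c : G,
        y ∈ (P : Subgroup G).map (MulAut.conj c).toMonoidHom → y = 1 := by
      rintro _ hy c ⟨t, ht, rfl⟩
      have ht' : t ∈ Subgroup.center G := by
        have := (inferInstance : (Subgroup.center G).Normal).conj_mem _ hy c⁻¹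
        simpa [mul_assoc] using this
      rw [hcenP ht ht' (by rw [hperf]; exact Subgroup.mem_top t)]
      simp
    obtain ⟨x, hx, hx1⟩ := (Subgroup.bot_or_exists_ne_one _).resolve_left ha
    obtain ⟨y, hy, hy1⟩ := (Subgroup.bot_or_exists_ne_one _).resolve_left hb
    have hpa : ∀ c : G, IsPGroup p ((P : Subgroup G).map (MulAut.conj c).toMonoidHom) :=
      fun c => P.isPGroup'.map _
    have hz : ∀ {c w : G}, w ∈ (P : Subgroup G).map (MulAut.conj c).toMonoidHom →
        IsPGroup p (Subgroup.zpowers w) := fun hw => (hpa _).to_le (Subgroup.zpowers_le.2 hw)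
    have hmax : ∀ (c : G) (R : Subgroup G), IsPGroup p R →
        (P : Subgroup G).map (MulAut.conj c).toMonoidHom ≤ R →
        R = (P : Subgroup G).map (MulAut.conj c).toMonoidHom := fun c R hR hle =>
      (c • P : Sylow p G).is_maximal' hR hle
    obtain ⟨R, -, hR, hRmax⟩ := exists_core (hproper (Subgroup.centralizer ({g} : Set G))
      fun htop => hg (Subgroup.mem_center_iff.2 fun w =>
        Subgroup.mem_centralizer_singleton_iff.1 (htop ▸ Subgroup.mem_top w)))
    have hxy : x * y = y * x := hab R hR x (hRmax _ (Subgroup.zpowers_le.2 hx.1) (hz hx.2) (Subgroup.mem_zpowers x))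
      y (hRmax _ (Subgroup.zpowers_le.2 hy.1) (hz hy.2) (Subgroup.mem_zpowers y))
    have hprop : ∀ {w c : G}, w ∈ (P : Subgroup G).map (MulAut.conj c).toMonoidHom → w ≠ 1 →
        Subgroup.centralizer ({w} : Set G) ≠ ⊤ := fun {w c} hw hw1 htop => hw1 (hne
      (Subgroup.mem_center_iff.2 fun v =>
        Subgroup.mem_centralizer_singleton_iff.1 (htop ▸ Subgroup.mem_top v)) c hw)
    have hle : ∀ {w c : G}, w ∈ (P : Subgroup G).map (MulAut.conj c).toMonoidHom →
        (P : Subgroup G).map (MulAut.conj c).toMonoidHom ≤ Subgroup.centralizer ({w} : Set G) :=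
      fun {w c} hw v hv => Subgroup.mem_centralizer_singleton_iff.2 (hab _ (hpa c) v hv w hw)
    obtain ⟨R₁, -, hR₁, hR₁max⟩ := exists_core (hproper _ (hprop hx.2 hx1))
    have e₁ := hmax a R₁ hR₁ (hR₁max _ (hle hx.2) (hpa a))
    have hya : y ∈ (P : Subgroup G).map (MulAut.conj a).toMonoidHom := e₁ ▸ hR₁max _
      (Subgroup.zpowers_le.2 (Subgroup.mem_centralizer_singleton_iff.2 hxy.symm)) (hz hy.2)
      (Subgroup.mem_zpowers y)
    obtain ⟨R₂, -, hR₂, hR₂max⟩ := exists_core (hproper _ (hprop hy.2 hy1))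
    exact (hmax a R₂ hR₂ (hR₂max _ (hle hya) (hpa a))).symm.trans
      (hmax b R₂ hR₂ (hR₂max _ (hle hy.2) (hpa b)))
  · -- the commutator subgroup is a proper `p'`-group
    set K := commutator G with hK
    haveI := Fintype.ofFinite K
    obtain ⟨R, hRK, hR, hRmax⟩ := exists_core (hproper K hperf)
    haveI hRn : R.Normal := ⟨fun y hy g => by
      have hle : R.map (MulAut.conj g).toMonoidHom ≤ R := by
        refine hRmax _ ?_ (hR.map _)
        rintro _ ⟨t, ht, rfl⟩
        exact (inferInstance : K.Normal).conj_mem t (hRK ht) g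
      exact hle ⟨y, hy, rfl⟩⟩
    have hRP : R ≤ P := hR.le_sylow_of_normal P
    have hRcen : R ≤ Subgroup.center G := by
      haveI : (Subgroup.centralizer (R : Set G)).Normal := Subgroup.normal_centralizer
      have h := hclo _ inferInstance fun v hv => Subgroup.mem_centralizer_iff.2 fun r hr =>
        hab _ P.isPGroup' r (hRP hr) v hv
      intro r hr
      refine Subgroup.mem_center_iff.2 fun v => ?_
      exact (Subgroup.mem_centralizer_iff.1 (h.ge (Subgroup.mem_top v)) r hr).symm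
    have hK' : ¬ p ∣ Nat.card K := by
      intro hdvd
      obtain ⟨w, hw⟩ := exists_prime_orderOf_dvd_card' (G := K) p hdvd
      have hwo : orderOf (w : G) = p := by rw [Subgroup.orderOf_coe, hw]
      have hwR : (w : G) ∈ R := hRmax _ (Subgroup.zpowers_le.2 w.2)
        (IsPGroup.of_card (n := 1) (by rw [Nat.card_zpowers, hwo, pow_one])) (Subgroup.mem_zpowers _)
      have h1 := hcenP (hRP hwR) (hRcen hwR) w.2
      rw [h1, orderOf_one] at hwo
      exact hp.out.ne_one hwo.symm
    have hPK : ∀ g : G, ∃ a ∈ K, ∃ u ∈ (P : Subgroup G), g = a * u := by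
      intro g
      have hn : (K ⊔ (P : Subgroup G)).Normal := ⟨fun v hv h => by
        rw [show h * v * h⁻¹ = h * v * h⁻¹ * v⁻¹ * v by group]
        refine mul_mem (Subgroup.mem_sup_left ?_) hv
        rw [hK, commutator_def]
        exact Subgroup.commutator_mem_commutator (Subgroup.mem_top h) (Subgroup.mem_top v)⟩
      have hg : g ∈ K ⊔ (P : Subgroup G) := by
        rw [hclo _ hn le_sup_right]; exact Subgroup.mem_top g
      obtain ⟨a, ha, u, hu, rfl⟩ := Subgroup.mem_sup_of_normal_left.1 hg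
      exact ⟨a, ha, u, hu, rfl⟩
    have hKP : ∀ v, v ∈ K → v ∈ (P : Subgroup G) → v = 1 := fun v h1 h2 => by
      obtain ⟨j, hj⟩ := P.isPGroup'.exists_card_eq
      exact orderOf_eq_one_iff.1 (Nat.eq_one_of_dvd_coprimes
        (Nat.Coprime.pow_left j (hp.out.coprime_iff_not_dvd.2 hK'))
        (hj ▸ Subgroup.orderOf_dvd_natCard _ h2) (Subgroup.orderOf_dvd_natCard K h1))
    have hcentral : ∀ y ∈ (P : Subgroup G), K ⊔ Subgroup.zpowers y ≠ ⊤ →
        ∀ a ∈ K, a * y = y * a := by
      intro y hy hne a ha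
      obtain ⟨R', -, hR', hR'max⟩ := exists_core (hproper _ hne)
      have hyR : Subgroup.zpowers y ≤ R' := hR'max _ le_sup_right
        (P.isPGroup'.to_le (Subgroup.zpowers_le.2 hy))
      have hconj : a * y * a⁻¹ ∈ R' := by
        have hle : (Subgroup.zpowers y).map (MulAut.conj a).toMonoidHom ≤ R' := by
          refine hR'max _ ?_ ((P.isPGroup'.to_le (Subgroup.zpowers_le.2 hy)).map _)
          rintro _ ⟨t, ht, rfl⟩
          exact mul_mem (mul_mem (Subgroup.mem_sup_left ha) (Subgroup.mem_sup_right ht))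
            (inv_mem (Subgroup.mem_sup_left ha))
        exact hle ⟨y, Subgroup.mem_zpowers y, rfl⟩
      have h1 : a * y * a⁻¹ * y⁻¹ ∈ R' := mul_mem hconj (inv_mem (hyR (Subgroup.mem_zpowers y)))
      have h2 : a * y * a⁻¹ * y⁻¹ ∈ K := by
        rw [hK, commutator_def]
        exact Subgroup.commutator_mem_commutator (Subgroup.mem_top a) (Subgroup.mem_top y)
      obtain ⟨j, hj⟩ := hR'.exists_card_eq
      have h3 := orderOf_eq_one_iff.1 (Nat.eq_one_of_dvd_coprimes
        (Nat.Coprime.pow_left j (hp.out.coprime_iff_not_dvd.2 hK'))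
        (hj ▸ Subgroup.orderOf_dvd_natCard _ h1) (Subgroup.orderOf_dvd_natCard K h2))
      rw [mul_inv_eq_one, mul_inv_eq_iff_eq_mul] at h3
      exact h3
    obtain ⟨x, hx, a₀, ha₀, hxa⟩ : ∃ x ∈ (P : Subgroup G), ∃ a ∈ K, a * x ≠ x * a := by
      by_contra h
      push Not at h
      refine hnot ⟨fun y hy g => ?_⟩
      obtain ⟨a, ha, u, hu, rfl⟩ := hPK g
      rw [show a * u * y * (a * u)⁻¹ = a * (u * y * u⁻¹) * a⁻¹ by group,
        hab _ P.isPGroup' u hu y hy, mul_inv_cancel_right, h y hy a ha, mul_inv_cancel_right]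
      exact hy
    have htop : K ⊔ Subgroup.zpowers x = ⊤ := by
      by_contra hne
      exact hxa (hcentral x hx hne a₀ ha₀)
    have hgen : ∀ g : G, ∃ a ∈ K, ∃ u ∈ Subgroup.zpowers x, g = a * u := fun g => by
      have hg : g ∈ K ⊔ Subgroup.zpowers x := by rw [htop]; exact Subgroup.mem_top g
      obtain ⟨a, ha, u, hu, rfl⟩ := Subgroup.mem_sup_of_normal_left.1 hg
      exact ⟨a, ha, u, hu, rfl⟩
    obtain ⟨k, hk⟩ : ∃ k, orderOf x = p ^ (k + 1) := by
      obtain ⟨j, hj⟩ := P.isPGroup'.exists_card_eq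
      obtain ⟨i, -, hi⟩ := (Nat.dvd_prime_pow hp.out).1
        (hj ▸ Subgroup.orderOf_dvd_natCard _ hx : orderOf x ∣ p ^ j)
      cases i with
      | zero =>
        rw [pow_zero, orderOf_eq_one_iff] at hi
        exact absurd (by rw [hi, mul_one, one_mul]) hxa
      | succ i => exact ⟨i, hi⟩
    have hne : K ⊔ Subgroup.zpowers (x ^ p) ≠ ⊤ := by
      intro h
      have hxm : x ∈ K ⊔ Subgroup.zpowers (x ^ p) := by rw [h]; exact Subgroup.mem_top x
      obtain ⟨a, ha, u, hu, he⟩ := Subgroup.mem_sup_of_normal_left.1 hxm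
      obtain ⟨i, rfl⟩ := Subgroup.mem_zpowers_iff.1 hu
      have ha1 : a = 1 := hKP a ha (by
        rw [show a = x * ((x ^ p) ^ i)⁻¹ by rw [eq_mul_inv_iff_mul_eq, he]]
        exact mul_mem hx (inv_mem (zpow_mem (pow_mem hx p) i)))
      rw [ha1, one_mul, ← zpow_natCast x p, ← zpow_mul] at he
      have h1 := orderOf_dvd_iff_zpow_eq_one.2
        (show x ^ ((p : ℤ) * i - 1) = 1 by rw [zpow_sub, he, zpow_one, mul_inv_cancel])
      rw [hk] at h1
      have h2 : (p : ℤ) ∣ (p : ℤ) * i - 1 := by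
        refine dvd_trans ?_ h1
        push_cast
        exact dvd_pow_self _ (by omega)
      have h3 : (p : ℤ) ∣ 1 := by simpa using dvd_sub (dvd_mul_right (p : ℤ) i) h2
      exact hp.out.not_dvd_one (Int.natCast_dvd_natCast.1 (by exact_mod_cast h3))
    have hxpc : x ^ p ∈ Subgroup.center G := by
      rw [Subgroup.mem_center_iff]
      intro g
      obtain ⟨a, ha, u, hu, rfl⟩ := hgen g
      obtain ⟨i, rfl⟩ := Subgroup.mem_zpowers_iff.1 hu
      have h1 : Commute a (x ^ p) := hcentral _ (pow_mem hx p) hne a ha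
      exact (h1.mul_left (((Commute.refl x).pow_right p).zpow_left i)).eq
    refine hxa (mul_inv_eq_one.1 (hS2 (a₀ * x * (x * a₀)⁻¹) fun φ hφ => ?_))
    obtain ⟨d, hd, hdn⟩ := hS1 φ hφ
    obtain ⟨e, σ, hσ, hσe⟩ := id φ.2
    haveI := hσ
    have he : e = d := by
      rw [← hσe, Representation.char_one, Module.finrank_fin_fun] at hd
      exact_mod_cast hd
    obtain ⟨c, hc⟩ := scalar_of_small K x hk hK' hgen hxpc σ (by omega)
    rw [← hσe]
    have hcomm : σ (a₀ * x) = σ (x * a₀) := by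
      rw [map_mul, map_mul, hc, Module.End.mul_eq_comp, Module.End.mul_eq_comp,
        LinearMap.comp_smul, LinearMap.comp_id, LinearMap.smul_comp, LinearMap.id_comp]
    simp only [Representation.character]
    rw [map_mul σ, hcomm, ← map_mul σ, mul_inv_cancel]

/-- The Feit-Thompson-Blichfeldt theorem. -/
theorem normal_sylow {p : ℕ} [hp : Fact p.Prime] {n : ℕ} (ρ : Representation ℂ G (Fin n → ℂ))
    (hρ : Function.Injective ρ)
    (h : (n + 1) ^ 2 ≤ p ∨ (n + 1 < p ∧ ∀ K : Subgroup G, ¬ p ^ 2 ∣ Nat.card K → NormalSylow p K))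
    (P : Sylow p G) : (P : Subgroup G).Normal := by
  rcases Nat.eq_zero_or_pos n with rfl | hn0
  · haveI : Subsingleton G := ⟨fun a b => hρ (LinearMap.ext fun v => funext fun i => i.elim0)⟩
    exact ⟨fun y hy g => by rwa [Subsingleton.elim (g * y * g⁻¹) y]⟩
  have hn : n + 1 < p := by
    rcases h with h | h
    · have : (n + 1) * 2 ≤ (n + 1) ^ 2 := by rw [sq]; exact Nat.mul_le_mul_left _ (by omega)
      omega
    · exact h.1
  exact normal_sylow_aux hn _ G rfl ρ hρ (h.imp_right And.right) P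

end CfsgLib.CharactersDeep.SmallDegree
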