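import Cfsg.Agent.Coherence.TIKernel
import Cfsg.Agent.Coherence.Chief
import Cfsg.Agent.Characters.Integrality

/-!
# Exceptional characters of a T.I. subgroup with Frobenius normaliser

The exceptional characters are those not constant on the non-identity elements of the subgroup, and
a coherent extension differs there from the given characters by a multiple of the degree.
-/

set_option autoImplicit false
set_option linter.unusedSectionVars false
set_option linter.style.haveILetI false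

namespace CfsgLib.CharactersDeep.TIExceptional

open Cfsg CfsgLib.Characters CfsgLib.Coherence
open scoped ComplexConjugate

universe u

variable {G : Type u} [Group G] [Fintype G] {H L : Subgroup G} [Fintype L]

noncomputable local instance fintypeSubgroupTIExc (M : Subgroup L) : Fintype M := Fintype.ofFinite M

variable [hKn : (H.subgroupOf L).Normal] (hTI : IsTISubset (H : Set G))
  (hN : Subgroup.normalizer (H : Set G) = L)
  (hC : ∀ k ∈ H, k ≠ 1 → Subgroup.centralizer ({k} : Set G) ≤ H)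
  {S : Set (L → ℂ)}
  (hS : S = {χ : L → ℂ | IsIrrCharacter L χ ∧ ∃ x : L, (x : G) ∈ H ∧ χ x ≠ χ 1})

include hC hS

omit [Fintype G] in
theorem eq_above [Fintype G] : S = inducedIrrAbove (H.subgroupOf L) ⊥ := by
  rw [hS, ti_set_eq hC]

theorem vanish_outside {χ : L → ℂ} (hχ : χ ∈ S) {x : L} (hx : (x : G) ∉ H) : χ x = 0 := by
  rw [eq_above hC hS] at hχ
  obtain ⟨θ, -, -, -, rfl⟩ := hχ
  exact OddOrderChar.indFun_normal_eq_zero _ θ fun h => hx (Subgroup.mem_subgroupOf.1 h)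

theorem mem_irr {χ : L → ℂ} (hχ : χ ∈ S) : IsIrrCharacter L χ := by
  rw [hS] at hχ
  exact hχ.1

theorem not_mem_const {φ : IrrCharacter L} (hφ : (φ : L → ℂ) ∉ S) {x : L} (hx : (x : G) ∈ H) :
    (φ : L → ℂ) x = (φ : L → ℂ) 1 := by
  by_contra h
  exact hφ (by rw [hS]; exact ⟨φ.2, x, hx, h⟩)

/-- Members of `S` are not constant on the non-identity elements. -/
theorem nonconstant {χ : L → ℂ} (hχ : χ ∈ S) (htwo : ∃ ξ ∈ S, ξ ≠ χ) :
    ∃ a b : L, (a : G) ∈ H ∧ (b : G) ∈ H ∧ a ≠ 1 ∧ b ≠ 1 ∧ χ a ≠ χ b := by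
  classical
  obtain ⟨hirr, k, hk, hne⟩ : IsIrrCharacter L χ ∧ ∃ x : L, (x : G) ∈ H ∧ χ x ≠ χ 1 := by
    rw [hS] at hχ
    exact hχ
  by_contra h
  push Not at h
  have hk1 : k ≠ 1 := fun e => hne (by rw [e])
  obtain ⟨ξ, hξ, hξne⟩ := htwo
  obtain ⟨n, hn0, hn⟩ := exists_degree_pos (mem_irr hC hS hξ)
  have key : ∀ ψ : L → ℂ, (∀ x : L, (x : G) ∉ H → ψ x = 0) →
      classInner χ ψ = (Nat.card L : ℂ)⁻¹ * ((χ 1 - χ k) * conj (ψ 1) + χ k * ∑ x : L, conj (ψ x)) := by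
    intro ψ hψ
    rw [Cfsg.classInner]
    congr 1
    rw [← Finset.add_sum_erase _ _ (Finset.mem_univ (1 : L)), ← Finset.add_sum_erase _ _ (Finset.mem_univ (1 : L)),
      Finset.sum_congr rfl (g := fun x => χ k * conj (ψ x)) fun x hx => ?_, ← Finset.mul_sum]
    · ring
    · by_cases hxH : (x : G) ∈ H
      · rw [h x k hxH hk (Finset.mem_erase.1 hx).1 hk1]
      · rw [hψ x hxH, map_zero, mul_zero, mul_zero]
  have h0 : ∀ ψ ∈ S, ∑ x : L, conj (ψ x) = 0 := by
    intro ψ hψ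
    have hne1 : ψ ≠ fun _ => 1 := by
      rintro rfl
      rw [hS] at hψ
      obtain ⟨-, x, -, hx⟩ := hψ
      exact hx rfl
    have h1 := classInner_isIrr_ne isIrr_one (mem_irr hC hS hψ) hne1.symm
    rw [Cfsg.classInner] at h1
    simpa using (mul_eq_zero.1 h1).resolve_left (inv_ne_zero natCard_ne_zero)
  have h2 := key ξ fun x hx => vanish_outside hC hS hξ hx
  rw [classInner_isIrr_ne hirr (mem_irr hC hS hξ) hξne.symm, h0 ξ hξ, hn, Complex.conj_natCast,
    mul_zero, add_zero, eq_comm, mul_eq_zero, mul_eq_zero] at h2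
  rcases h2 with h2 | h2 | h2
  · exact inv_ne_zero natCard_ne_zero h2
  · exact hne (sub_eq_zero.1 h2).symm
  · exact hn0.ne' (Nat.cast_eq_zero.1 h2)

variable {star : (L → ℂ) → (G → ℂ)} (hstar : IsLinearIsometryOn (zspan S) star)
  (hext : ∀ α ∈ zspanOn S ({1}ᶜ : Set L), star α = indFun L α)
include hstar

omit hC in
theorem star_natCast_smul {χ : L → ℂ} (hχ : χ ∈ S) (n : ℕ) :
    star ((n : ℂ) • χ) = (n : ℂ) • star χ := by
  have h := hstar.2.1 χ (mem_zspan_of_mem hχ) (n : ℤ)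
  simpa only [natCast_zsmul, ← Nat.cast_smul_eq_nsmul ℂ] using h

omit hC in
theorem star_inner {χ ξ : L → ℂ} (hχ : χ ∈ S) (hξ : ξ ∈ S) :
    classInner (star χ) (star ξ) = classInner χ ξ :=
  hstar.2.2.1 χ (mem_zspan_of_mem hχ) ξ (mem_zspan_of_mem hξ)

theorem signed {χ : L → ℂ} (hχ : χ ∈ S) :
    IsIrrCharacter G (star χ) ∨ IsIrrCharacter G (-star χ) :=
  Coherence.gen_norm_one (hstar.2.2.2 χ (mem_zspan_of_mem hχ))
    (by rw [star_inner hS hstar hχ hχ, classInner_isIrr_self (mem_irr hC hS hχ)])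

include hext

omit hC in
theorem star_edge {χ ξ : L → ℂ} (hχ : χ ∈ S) (hξ : ξ ∈ S) {m n : ℕ} (hm : χ 1 = m) (hn : ξ 1 = n) :
    (n : ℂ) • star χ - (m : ℂ) • star ξ = indFun L (edge χ ξ) := by
  have he := Coherence.edge_mem hχ hξ hm hn
  rw [← hext _ he, ← star_natCast_smul hS hstar hχ, ← star_natCast_smul hS hstar hξ,
    sub_eq_iff_eq_add, ← hstar.1 _ he.1 _ (natCast_smul_mem_zspan hξ m)]
  congr 1
  simp only [edge, hm, hn]
  abel

/-- The values of an irreducible character on `H#` up to an additive constant. -/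
theorem value_diff {ψ : G → ℂ} (hψ : IsIrrCharacter G ψ) (F : Finset (IrrCharacter L))
    (hF : ∀ φ : IrrCharacter L, φ ∈ F ↔ (φ : L → ℂ) ∈ S) {a b : L} (ha : (a : G) ∈ H) (ha1 : a ≠ 1)
    (hb : (b : G) ∈ H) (hb1 : b ≠ 1) :
    ψ a - ψ b = ∑ φ ∈ F, classInner (star (φ : L → ℂ)) ψ * ((φ : L → ℂ) a - (φ : L → ℂ) b) := by
  classical
  set A : IrrCharacter L → ℂ := fun φ => classInner (fun x : L => ψ x) (φ : L → ℂ) with hA
  have hexp := classFunction_expansion (G := L) (θ := fun x : L => ψ x)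
    (isClassFunction_of_isCharacter (isCharacter_restrict L (isCharacter_of_isIrr hψ)))
  have hsub : ψ a - ψ b = ∑ φ ∈ F, A φ * ((φ : L → ℂ) a - (φ : L → ℂ) b) := by
    have h1 := congrFun hexp a
    have h2 := congrFun hexp b
    simp only [Finset.sum_apply, Pi.smul_apply, smul_eq_mul] at h1 h2
    rw [h1, h2, ← Finset.sum_sub_distrib]
    refine (Finset.sum_subset (Finset.subset_univ F) fun φ _ hφ => ?_).symm.trans
      (Finset.sum_congr rfl fun φ _ => by rw [mul_sub])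
    rw [not_mem_const hC hS (fun h => hφ ((hF φ).2 h)) ha, not_mem_const hC hS (fun h => hφ ((hF φ).2 h)) hb,
      sub_self]
  have hsum : ∑ φ ∈ F, (φ : L → ℂ) 1 * ((φ : L → ℂ) a - (φ : L → ℂ) b) = 0 := by
    rw [Finset.sum_subset (Finset.subset_univ F) fun φ _ hφ => by
      rw [not_mem_const hC hS (fun h => hφ ((hF φ).2 h)) ha,
        not_mem_const hC hS (fun h => hφ ((hF φ).2 h)) hb, sub_self, mul_zero]]
    simp only [mul_sub, Finset.sum_sub_distrib]
    rw [sum_degree_mul a, sum_degree_mul b, if_neg ha1, if_neg hb1, sub_self]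
  rw [hsub]
  by_cases hne : F.Nonempty
  swap
  · simp [Finset.not_nonempty_iff_eq_empty.1 hne]
  obtain ⟨φ₀, hφ₀⟩ := hne
  have hS₀ := (hF φ₀).1 hφ₀
  obtain ⟨n, hn0, hn⟩ := exists_degree_pos φ₀.2
  set r := (A φ₀ - classInner (star (φ₀ : L → ℂ)) ψ) / (n : ℂ) with hr
  have hrel : ∀ φ ∈ F, A φ = classInner (star (φ : L → ℂ)) ψ + r * (φ : L → ℂ) 1 := by
    intro φ hφ
    obtain ⟨m, -, hm⟩ := exists_degree_pos φ.2
    have h := congrArg (fun f => classInner f ψ) (star_edge hS hstar hext ((hF φ).1 hφ) hS₀ hm hn)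
    simp only [edge, hm, hn] at h
    rw [classInner_indFun L _ (isClassFunction_of_isIrr hψ), classInner_sub_left,
      classInner_sub_left, classInner_smul_left, classInner_smul_left, classInner_smul_left,
      classInner_smul_left] at h
    have hsym : ∀ ξ : IrrCharacter L, classInner (ξ : L → ℂ) (fun x : L => ψ x) = A ξ := fun ξ => by
      obtain ⟨k, hk⟩ := classInner_character_irr (isCharacter_restrict L (isCharacter_of_isIrr hψ)) ξ.2
      rw [hA]
      simp only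
      rw [hk, ← Coherence.ci_conj, hk, Complex.conj_natCast]
    rw [hsym, hsym] at h
    have hn' : (n : ℂ) ≠ 0 := Nat.cast_ne_zero.2 hn0.ne'
    rw [hr, hm, div_mul_eq_mul_div, ← sub_eq_iff_eq_add', eq_div_iff hn']
    linear_combination -h
  rw [Finset.sum_congr rfl fun φ hφ => by rw [hrel φ hφ, add_mul, mul_assoc], Finset.sum_add_distrib,
    ← Finset.mul_sum, hsum, mul_zero, add_zero]

/-- An image is as nonconstant as its preimage. -/
theorem value_diff_image {χ : L → ℂ} (hχ : χ ∈ S) {a b : L} (ha : (a : G) ∈ H) (ha1 : a ≠ 1)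
    (hb : (b : G) ∈ H) (hb1 : b ≠ 1) : star χ a - star χ b = χ a - χ b := by
  classical
  let F := Finset.univ.filter (fun φ : IrrCharacter L => (φ : L → ℂ) ∈ S)
  have hF : ∀ φ : IrrCharacter L, φ ∈ F ↔ (φ : L → ℂ) ∈ S := fun φ => by simp [F]
  let χ' : IrrCharacter L := ⟨χ, mem_irr hC hS hχ⟩
  have hdelta : ∀ φ ∈ F, classInner (star (φ : L → ℂ)) (star χ) = if φ = χ' then 1 else 0 := by
    intro φ hφ
    rw [star_inner hS hstar ((hF φ).1 hφ) hχ, ← classInner_irr φ χ']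
  have hsum : ∑ φ ∈ F, classInner (star (φ : L → ℂ)) (star χ) * ((φ : L → ℂ) a - (φ : L → ℂ) b) =
      χ a - χ b := by
    rw [Finset.sum_eq_single χ' (fun φ hφ hne => by rw [hdelta φ hφ, if_neg hne, zero_mul])
      (fun h => absurd ((hF χ').2 hχ) h), hdelta χ' ((hF χ').2 hχ), if_pos rfl, one_mul]
  rcases signed hC hS hstar hχ with h | h
  · rw [value_diff hC hS hstar hext h F hF ha ha1 hb hb1, hsum]
  · have h1 := value_diff hC hS hstar hext h F hF ha ha1 hb hb1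
    simp only [Pi.neg_apply, ci_neg_right, neg_mul, Finset.sum_neg_distrib, hsum] at h1
    linear_combination -h1

/-- The exceptional characters. -/
theorem exceptional_iff (htwo : ∃ χ ∈ S, ∃ ξ ∈ S, χ ≠ ξ) (hHL : H ≤ L) {ψ : G → ℂ}
    (hψ : IsIrrCharacter G ψ) :
    (∃ χ ∈ S, ψ = star χ ∨ ψ = -star χ) ↔
      ∃ a ∈ H, ∃ b ∈ H, a ≠ 1 ∧ b ≠ 1 ∧ ψ a ≠ ψ b := by
  classical
  constructor
  · rintro ⟨χ, hχ, hψχ⟩
    obtain ⟨a, b, ha, hb, ha1, hb1, hab⟩ := nonconstant hC hS hχ (by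
      obtain ⟨x, hx, y, hy, hxy⟩ := htwo
      by_cases h : x = χ
      · exact ⟨y, hy, fun e => hxy (h.trans e.symm)⟩
      · exact ⟨x, hx, h⟩)
    have hd := value_diff_image hC hS hstar hext hχ ha ha1 hb hb1
    refine ⟨a, ha, b, hb, fun e => ha1 (Subtype.ext e), fun e => hb1 (Subtype.ext e), fun e => hab ?_⟩
    rcases hψχ with rfl | rfl
    · linear_combination -hd + e
    · simp only [Pi.neg_apply] at e
      linear_combination -hd - e
  · rintro ⟨a, ha, b, hb, ha1, hb1, hab⟩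
    by_contra hno
    push Not at hno
    refine hab (sub_eq_zero.1 ?_)
    rw [value_diff hC hS hstar hext hψ (Finset.univ.filter (fun φ : IrrCharacter L => (φ : L → ℂ) ∈ S))
      (fun φ => by simp) (a := ⟨a, hHL ha⟩) (b := ⟨b, hHL hb⟩) ha (fun e => ha1 (congrArg Subtype.val e))
      hb (fun e => hb1 (congrArg Subtype.val e))]
    refine Finset.sum_eq_zero fun φ hφ => ?_
    have hφS : (φ : L → ℂ) ∈ S := (Finset.mem_filter.1 hφ).2
    obtain ⟨h1, h2⟩ := hno _ hφS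
    rcases signed hC hS hstar hφS with h | h
    · rw [classInner_isIrr_ne h hψ (Ne.symm h1), zero_mul]
    · have h3 := classInner_isIrr_ne h hψ (Ne.symm h2)
      rw [ci_neg_left, neg_eq_zero] at h3
      rw [h3, zero_mul]

include hTI hN in
/-- The defect of a coherent extension on `H#`. -/
theorem exists_defect (hHL : H ≤ L) :
    ∃ m : ℤ, ∀ χ ∈ S, ∀ k : L, (k : G) ∈ H → k ≠ 1 →
      star χ k - χ k = (m : ℂ) * χ 1 / ((H.subgroupOf L).index : ℂ) := by
  classical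
  set K := H.subgroupOf L with hK
  by_cases hne : ∃ χ ∈ S, ∃ k : L, (k : G) ∈ H ∧ k ≠ 1
  swap
  · exact ⟨0, fun χ hχ k hk hk1 => absurd ⟨χ, hχ, k, hk, hk1⟩ hne⟩
  obtain ⟨χ₀, hχ₀, k₀, hk₀, hk₀1⟩ := hne
  have hfix := ti_hfix (L := L) hC
  set d : (L → ℂ) → ℂ := fun χ => star χ k₀ - χ k₀ with hd
  have hdconst : ∀ χ ∈ S, ∀ k : L, (k : G) ∈ H → k ≠ 1 → star χ k - χ k = d χ := by
    intro χ hχ k hk hk1
    have h := value_diff_image hC hS hstar hext hχ hk hk1 hk₀ hk₀1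
    simp only [hd]
    linear_combination h
  -- proportionality
  have hprop : ∀ χ ∈ S, χ₀ 1 * d χ = χ 1 * d χ₀ := by
    intro χ hχ
    obtain ⟨m, -, hm⟩ := exists_degree_pos (mem_irr hC hS hχ)
    obtain ⟨n, -, hn⟩ := exists_degree_pos (mem_irr hC hS hχ₀)
    have h := congrFun (star_edge hS hstar hext hχ hχ₀ hm hn) k₀
    rw [ti_ind_apply hTI hN (fun x y => by
      simp only [edge, Pi.sub_apply, Pi.smul_apply]
      rw [isClassFunction_of_isIrr (mem_irr hC hS hχ) x y,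
        isClassFunction_of_isIrr (mem_irr hC hS hχ₀) x y])
      (fun x hx => by simp [edge, vanish_outside hC hS hχ hx, vanish_outside hC hS hχ₀ hx])
      (by simp [edge]; ring) k₀ hk₀] at h
    simp only [edge, Pi.sub_apply, Pi.smul_apply, smul_eq_mul, hm, hn] at h
    rw [hm, hn]
    simp only [hd]
    linear_combination h
  -- integrality
  have hKcard : 1 < Nat.card K := by
    refine Finite.one_lt_card_iff_nontrivial.2 ⟨⟨k₀, hk₀⟩, 1, fun e => hk₀1 ?_⟩
    exact congrArg Subtype.val e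
  have hint : ∀ χ ∈ S, ∃ z : ℤ, d χ = z := by
    intro χ hχ
    obtain ⟨s, hs⟩ := Coherence.ci_int (isGen_restrict K (isGen_restrict L (hstar.2.2.2 χ (mem_zspan_of_mem hχ))))
      (isGen_one (G := K))
    obtain ⟨t, ht⟩ := Coherence.ci_int (isGen_restrict K (Characters.isGen_of_isIrr (mem_irr hC hS hχ)))
      (isGen_one (G := K))
    obtain ⟨s₁, hs₁⟩ := gen_one_isInt (hstar.2.2.2 χ (mem_zspan_of_mem hχ))
    obtain ⟨t₁, -, ht₁⟩ := exists_degree_pos (mem_irr hC hS hχ)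
    refine exists_int_of_integral_mul (a := Nat.card K * (s - t) - (s₁ - t₁)) ?_ (b := Nat.card K - 1) (by omega) ?_
    · exact (gen_isIntegral (hstar.2.2.2 χ (mem_zspan_of_mem hχ)) _).sub
        (gen_isIntegral (Characters.isGen_of_isIrr (mem_irr hC hS hχ)) _)
    · have hsum : ∀ f : L → ℂ, ∑ x : K, f x = (Nat.card K : ℂ) *
          classInner (fun x : K => f x) (fun _ => 1) := fun f => by
        simp [Cfsg.classInner]
      have h1 : ∑ x : K, (star χ ((x : L) : G) - χ x) =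
          (star χ 1 - χ 1) + ((Nat.card K - 1 : ℕ) : ℂ) * d χ := by
        rw [← Finset.add_sum_erase _ _ (Finset.mem_univ (1 : K)),
          Finset.sum_congr (s₁ := (Finset.univ : Finset K).erase 1) rfl (g := fun _ => d χ) fun x hx =>
            hdconst χ hχ (x : L) x.2 fun e => (Finset.mem_erase.1 hx).1 (Subtype.ext e),
          Finset.sum_const, Finset.card_erase_of_mem (Finset.mem_univ _), Finset.card_univ,
          ← Nat.card_eq_fintype_card, nsmul_eq_mul]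
        simp
      rw [Finset.sum_sub_distrib, hsum (fun x : L => star χ x), hsum χ, hs₁, ht₁] at h1
      rw [hs, ht] at h1
      push_cast
      linear_combination -h1
  obtain ⟨n₀, hn₀, hn₀e⟩ := exists_degree_pos (mem_irr hC hS hχ₀)
  set M : ℂ := (K.index : ℂ) * d χ₀ / χ₀ 1 with hM
  have hval : ∀ χ ∈ S, d χ = M * χ 1 / (K.index : ℂ) := by
    intro χ hχ
    have h0 : χ₀ 1 ≠ 0 := irr_one_ne_zero (mem_irr hC hS hχ₀)
    have h1 : (K.index : ℂ) ≠ 0 := Nat.cast_ne_zero.2 Subgroup.index_ne_zero_of_finite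
    rw [hM]
    field_simp
    linear_combination hprop χ hχ
  choose deg hdeg0 hdeg using fun φ : IrrCharacter K => exists_degree_pos φ.2
  have hMint : ∀ φ : IrrCharacter K, (φ : K → ℂ) ≠ (fun _ => 1) → ∃ z : ℤ, M * deg φ = z := by
    intro φ hφ
    have hmem : indFun K (φ : K → ℂ) ∈ S := by
      rw [eq_above hC hS]
      exact ⟨φ, φ.2, hφ, fun a ha => by
        rw [Subgroup.mem_bot] at ha
        rw [show a = 1 from Subtype.ext ha], rfl⟩
    obtain ⟨z, hz⟩ := hint _ hmem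
    refine ⟨z, ?_⟩
    rw [← hz, hval _ hmem, indFun_one, hdeg]
    have h1 : (K.index : ℂ) ≠ 0 := Nat.cast_ne_zero.2 Subgroup.index_ne_zero_of_finite
    field_simp
  obtain ⟨φ₁, hφ₁⟩ : ∃ φ : IrrCharacter K, (φ : K → ℂ) ≠ fun _ => 1 := by
    rw [eq_above hC hS] at hχ₀
    obtain ⟨θ, hθ, hθ1, -, -⟩ := hχ₀
    exact ⟨⟨θ, hθ⟩, hθ1⟩
  have hMK : ∃ z : ℤ, M * Nat.card K = z := by
    obtain ⟨q, ρ, hρ, hρe⟩ := φ₁.2
    haveI := hρ
    obtain ⟨c, hc⟩ := finrank_dvd_card ρ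
    rw [Module.finrank_fin_fun] at hc
    have hq : deg φ₁ = q := by
      apply Nat.cast_injective (R := ℂ)
      rw [← hdeg φ₁, ← hρe, Representation.char_one, Module.finrank_fin_fun]
    obtain ⟨z, hz⟩ := hMint φ₁ hφ₁
    exact ⟨z * c, by rw [hc, Nat.cast_mul, ← hq, ← mul_assoc, hz]; push_cast; ring⟩
  have hMsq : ∃ z : ℤ, M * ((Nat.card K : ℂ) - 1) = z := by
    choose w hw using hMint
    refine ⟨∑ φ ∈ (Finset.univ.filter fun φ : IrrCharacter K => (φ : K → ℂ) ≠ fun _ => 1).attach,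
      w φ.1 (Finset.mem_filter.1 φ.2).2 * deg φ.1, ?_⟩
    have hs := sum_degree_sq (G := K)
    rw [← Finset.sum_filter_add_sum_filter_not Finset.univ
      (fun φ : IrrCharacter K => (φ : K → ℂ) ≠ fun _ => 1)] at hs
    have hone : ∑ φ ∈ Finset.univ.filter (fun φ : IrrCharacter K => ¬ (φ : K → ℂ) ≠ fun _ => 1),
        (φ : K → ℂ) 1 ^ 2 = 1 := by
      rw [Finset.sum_eq_single (⟨_, isIrr_one⟩ : IrrCharacter K)]
      · simp
      · intro φ hφ hne
        exact absurd (Subtype.ext (not_not.1 (Finset.mem_filter.1 hφ).2)) hne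
      · simp
    rw [hone] at hs
    rw [← hs, add_sub_cancel_right, Finset.mul_sum, ← Finset.sum_attach]
    push_cast
    refine Finset.sum_congr rfl fun φ _ => ?_
    rw [← hw, hdeg]
    ring
  obtain ⟨z₁, hz₁⟩ := hMK
  obtain ⟨z₂, hz₂⟩ := hMsq
  refine ⟨z₁ - z₂, fun χ hχ k hk hk1 => ?_⟩
  rw [hdconst χ hχ k hk hk1, hval χ hχ]
  congr 2
  push_cast
  linear_combination hz₁ - hz₂

omit hstar hext hS in
/-- Coherence for an abelian `H`. -/
theorem coherent_abelian (hTI : IsTISubset (H : Set G))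
    (hN : Subgroup.normalizer (H : Set G) = L) (hHL : H ≤ L) (hH : H ≠ ⊥)
    (hab : ∀ a ∈ H, ∀ b ∈ H, a * b = b * a) :
    (Nat.card {χ : IrrCharacter L // ∃ k : L, (k : G) ∈ H ∧ (χ : L → ℂ) k ≠ (χ : L → ℂ) 1} = 1 ∧
      ∃ p : ℕ, p.Prime ∧ IsElementaryAbelian p H ∧ Nat.card H = (H.subgroupOf L).index + 1) ∨
    ∃ (ε : ℂ) (f : {χ : IrrCharacter L // ∃ k : L, (k : G) ∈ H ∧ (χ : L → ℂ) k ≠ (χ : L → ℂ) 1} →
        IrrCharacter G), (ε = 1 ∨ ε = -1) ∧ Function.Injective f ∧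
      ∀ χ ξ, indFun L ((χ.1 : L → ℂ) - (ξ.1 : L → ℂ)) = ε • ((f χ : G → ℂ) - (f ξ : G → ℂ)) := by
  classical
  set K := H.subgroupOf L with hK
  have hfix := ti_hfix (L := L) hC
  have hK1 : K ≠ ⊥ := by
    rw [hK, ne_eq, Subgroup.subgroupOf_eq_bot, disjoint_iff, inf_eq_left.2 hHL]
    exact hH
  have hcomm : ∀ a ∈ K, ∀ b ∈ K, a * b = b * a := fun a ha b hb => Subtype.ext (hab _ ha _ hb)
  have hsolv : Group.IsSolvable K :=
    Group.isSolvable_of_comm fun a b => Subtype.ext (hcomm a a.2 b b.2)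
  obtain ⟨hiso, hiso1⟩ := ti_isometry (L := L) hTI hN
  have hset := ti_set_eq (L := L) hC
  have hmem : ∀ {χ : L → ℂ}, χ ∈ inducedIrrAbove K ⊥ ↔
      IsIrrCharacter L χ ∧ ∃ k : L, (k : G) ∈ H ∧ χ k ≠ χ 1 := fun {χ} => (Set.ext_iff.1 hset χ).symm
  rcases frob_comm_coherence hfix hsolv hK1 hiso hiso1 hcomm with ⟨-, τ₁, hτ₁, hagree⟩ | ⟨φ, hφ⟩
  · obtain ⟨F, hF⟩ : ∃ F : Finset (L → ℂ), (↑F : Set (L → ℂ)) = inducedIrrAbove K ⊥ :=
      ⟨(finite_irr_set (frob_irr hfix)).toFinset, (finite_irr_set (frob_irr hfix)).coe_toFinset⟩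
    rw [← hF] at hτ₁ hagree hiso hiso1
    have hirrF : ∀ χ ∈ F, IsIrrCharacter L χ := fun χ hχ =>
      (hmem.1 (hF ▸ Finset.mem_coe.2 hχ)).1
    obtain ⟨T, hT, hTτ⟩ := exists_isom (degSet_irr hirrF) hiso hiso1
    have hE := isExt_of_isCoherent (degSet_irr hirrF) hTτ hτ₁ hagree
    obtain ⟨ε, hε, hεirr⟩ := hE.exists_sign hirrF hT
    have hmemF : ∀ χ : {χ : IrrCharacter L // ∃ k : L, (k : G) ∈ H ∧ (χ : L → ℂ) k ≠ (χ : L → ℂ) 1},
        (χ.1 : L → ℂ) ∈ F := fun χ => Finset.mem_coe.1 (hF ▸ hmem.2 ⟨χ.1.2, χ.2⟩)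
    have hε2 : ε * ε = 1 := by rcases hε with h | h <;> rw [h] <;> norm_num
    refine Or.inr ⟨ε, fun χ => ⟨_, hεirr _ (hmemF χ)⟩, hε, fun χ ξ h => ?_, fun χ ξ => ?_⟩
    · refine Subtype.ext (Subtype.ext (hE.inj (degSet_irr hirrF) (hmemF χ) (hmemF ξ) ?_))
      exact smul_right_injective (G → ℂ) (fun e => by simp [e] at hε2) (congrArg Subtype.val h)
    · have hKK : ⁅K, K⁆ ≤ (⊥ : Subgroup L) := Subgroup.commutator_le.2 fun a ha b hb => by
        rw [Subgroup.mem_bot, commutatorElement_eq_one_iff_commute]; exact hcomm a ha b hb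
      have hd : ∀ ζ, (ζ : L → ℂ) ∈ F → ζ 1 = (K.index : ℂ) := fun ζ hζ =>
        above_degree hKK (hF ▸ Finset.mem_coe.2 hζ)
      have hm1 : (χ.1 : L → ℂ) - (ξ.1 : L → ℂ) ∈ zspanOn (↑F : Set (L → ℂ)) {1}ᶜ :=
        mem_zspanOn_one.2 ⟨Submodule.sub_mem _ (mem_zspan_of_mem (hmemF χ)) (mem_zspan_of_mem (hmemF ξ)),
          by rw [Pi.sub_apply, hd _ (hmemF χ), hd _ (hmemF ξ), sub_self]⟩
      have hτsub : τ₁ ((χ.1 : L → ℂ) - (ξ.1 : L → ℂ)) = τ₁ χ.1 - τ₁ ξ.1 := by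
        rw [eq_sub_iff_add_eq, ← hτ₁.1 _ hm1.1 _ (mem_zspan_of_mem (hmemF ξ)), sub_add_cancel]
      have h := (hagree _ hm1).symm
      rw [hτsub] at h
      rw [← smul_sub, smul_smul, hε2, one_smul]
      exact h
  · obtain ⟨hcard, -⟩ := frob_singleton hfix hsolv hK1 hcomm hφ
    have hHK : Nat.card H = Nat.card K :=
      (Nat.card_congr (Subgroup.subgroupOfEquivOfLe hHL).toEquiv).symm
    refine Or.inl ⟨?_, ?_⟩
    · have hφmem := hmem.1 (hφ ▸ Set.mem_singleton φ)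
      rw [Nat.card_eq_one_iff_unique]
      refine ⟨⟨fun χ ξ => ?_⟩, ⟨⟨⟨φ, hφmem.1⟩, hφmem.2⟩⟩⟩
      have key : ∀ χ : {χ : IrrCharacter L // ∃ k : L, (k : G) ∈ H ∧ (χ : L → ℂ) k ≠ (χ : L → ℂ) 1},
          (χ.1 : L → ℂ) = φ := fun χ => by
        have := hmem.2 ⟨χ.1.2, χ.2⟩
        rwa [hφ] at this
      exact Subtype.ext (Subtype.ext ((key χ).trans (key ξ).symm))
    · have h1 : Nat.card K ≠ 1 := by
        intro h
        rw [hK, hcard] at h
        have := Nat.pos_of_ne_zero (Subgroup.index_ne_zero_of_finite (H := H.subgroupOf L))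
        omega
      obtain ⟨p, hp, hpdvd⟩ := Nat.exists_prime_and_dvd h1
      refine ⟨p, hp, ⟨⟨⟨fun a b => Subtype.ext (hab a a.2 b b.2)⟩⟩, fun a ha => ?_⟩, hHK.trans hcard⟩
      have := frob_singleton_elementary hfix hsolv hK1 hcomm hφ hp hpdvd ⟨a, hHL ha⟩ ha
      exact congrArg Subtype.val this

end CfsgLib.CharactersDeep.TIExceptional
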