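import Cfsg.Agent.CharactersDeep.ZassenhausCount

/-!
# Consequences: classes and strongly real kernel elements
-/

set_option autoImplicit false
set_option linter.style.haveILetI false
set_option linter.unusedSectionVars false

namespace CfsgLib.CharactersDeep.ZassenhausOdd

open MulAction

variable {G Ω : Type*} [Group G] [Fintype G] [DecidableEq G] [MulAction G Ω] [Fintype Ω]
  [DecidableEq Ω] {e : ℕ} (S : Setup G Ω e)

include S

theorem Setup.two_classes (hlt : e + 2 < Fintype.card Ω) :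
    ∃ x y : G, (∀ c : Ω, x • c ≠ c) ∧ (∀ c : Ω, y • c ≠ c) ∧ ¬ IsConj x y := by
  classical
  have h := S.card_fpf_classes hlt
  have h3 := S.three_le
  have h2 : 1 < Nat.card {C : ConjClasses G // ∀ g, ConjClasses.mk g = C → ∀ c : Ω, g • c ≠ c} := by
    omega
  rw [Finite.one_lt_card_iff_nontrivial] at h2
  obtain ⟨⟨C, hC⟩, ⟨D, hD⟩, hne⟩ := h2.exists_pair_ne
  obtain ⟨x, rfl⟩ := ConjClasses.mk_surjective C
  obtain ⟨y, rfl⟩ := ConjClasses.mk_surjective D
  exact ⟨x, y, hC x rfl, hD y rfl,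
    fun hc => hne (Subtype.ext (ConjClasses.mk_eq_mk_iff_isConj.2 hc))⟩

theorem Setup.card_involutions {h : ℕ} (hh : Fintype.card Ω = h + 1) :
    Nat.card {x : G // orderOf x = 2} = if Even h then e * (h + 1) else e * h := by
  rw [show Nat.card {x : G // orderOf x = 2} = (invols G).card by
    rw [Nat.card_eq_fintype_card, Fintype.card_subtype]
    congr 1
    ext x
    simp [mem_invols]]
  have h1 := S.card_invols_mul
  have h3 := Perm.Zassenhaus.card_ge_three S.zass
  rw [hh, Nat.add_sub_cancel] at h1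
  split_ifs with hev
  · rw [Nat.add_mod, Nat.even_iff.1 hev] at h1
    norm_num at h1
    exact Nat.eq_of_mul_eq_mul_right (show 0 < h by omega) (by rw [h1]; ring)
  · rw [Nat.add_mod, Nat.odd_iff.1 (Nat.not_even_iff_odd.1 hev)] at h1
    norm_num at h1
    exact Nat.eq_of_mul_eq_mul_right (show 0 < h + 1 by omega) (by rw [h1]; ring)

theorem Setup.real_kernel {a : Ω} {H : Subgroup G} (hHa : H ≤ stabilizer G a)
    (hHcard : Nat.card H + 1 = Nat.card Ω)
    (hHfix : ∀ u ∈ H, u ≠ 1 → ∀ c : Ω, u • c = c → c = a) {u x y : G} (hu : u ∈ H) (hu1 : u ≠ 1)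
    (hx : orderOf x = 2) (hy : orderOf y = 2) (hxy : x * y = u) : orderOf u = 2 := by
  haveI : Fact (Nat.Prime 2) := ⟨Nat.prime_two⟩
  have hx2 : x⁻¹ = x := inv_eq_of_mul_eq_one_right (sq_eq_one hx)
  have hy2 : y⁻¹ = y := inv_eq_of_mul_eq_one_right (sq_eq_one hy)
  have hua : u⁻¹ • a = a := inv_smul_eq_iff.2 (mem_stabilizer_iff.1 (hHa hu)).symm
  have hxa : x • a = a := by
    refine hHfix u hu hu1 _ ?_
    rw [← mul_smul, show u * x = x * u⁻¹ by rw [← hxy, mul_inv_rev, hx2, hy2]; group,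
      mul_smul, hua]
  have hya : y • a = a := by
    rw [show y = x⁻¹ * u by rw [← hxy, inv_mul_cancel_left], hx2, mul_smul,
      mem_stabilizer_iff.1 (hHa hu), hxa]
  have hin : ∀ z : G, orderOf z = 2 → z • a = a → z ∈ H := fun z hz hza =>
    Zassenhaus.mem_of_fix_only S.zass hHa hHcard hHfix hza fun c hc => S.fixed_unique hz hc hza
  have hconj : ∀ k : G, k • a = a → ∀ v ∈ H, k * v * k⁻¹ ∈ H := by
    intro k hka v hv
    by_cases hv1 : v = 1
    · simp [hv1]
    have hk' : k⁻¹ • a = a := inv_smul_eq_iff.2 hka.symm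
    refine Zassenhaus.mem_of_fix_only S.zass hHa hHcard hHfix ?_ fun c hc => ?_
    · rw [mul_smul, mul_smul, hk', mem_stabilizer_iff.1 (hHa hv), hka]
    · rw [mul_smul, mul_smul, ← eq_inv_smul_iff] at hc
      have h := hHfix v hv hv1 _ hc
      rw [inv_smul_eq_iff] at h
      rw [h, hka]
  haveI := CfsgLib.Zassenhaus.isNilpotent_kernel S.zass hHa
    (fun k hk v hv => hconj k hk v hv) hHfix
  have hev : 2 ∣ Nat.card H := hx ▸ Subgroup.orderOf_dvd_natCard H (hin x hx hxa)
  let P : Sylow 2 H := default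
  haveI : (P : Subgroup H).Normal := inferInstance
  have hne := CfsgLib.Solvable.inf_center_ne_bot (N := (P : Subgroup H)) (P.ne_bot_of_dvd_card hev)
  obtain ⟨⟨z, hz⟩, hz2⟩ := exists_prime_orderOf_dvd_card' 2
    (G := ↥((P : Subgroup H) ⊓ Subgroup.center H))
    ((P.isPGroup'.to_le inf_le_left).card_eq_or_dvd.resolve_left fun e =>
      hne (Subgroup.eq_bot_of_card_eq _ e))
  rw [Subgroup.orderOf_mk, ← Subgroup.orderOf_coe] at hz2
  have hcentral : ∀ w : G, orderOf w = 2 → w • a = a → ∀ v ∈ H, v * w = w * v := by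
    intro w hw hwa v hv
    obtain ⟨g, hg⟩ := isConj_iff.1 (S.isConj hz2 hw)
    have hga : g • a = a := by
      refine S.fixed_unique hw ?_ hwa
      rw [← hg, mul_smul, mul_smul, inv_smul_smul, mem_stabilizer_iff.1 (hHa z.2)]
    have hmem := hconj g⁻¹ (inv_smul_eq_iff.2 hga.symm) v hv
    rw [inv_inv] at hmem
    have hc := congrArg Subtype.val
      (Subgroup.mem_center_iff.1 (Subgroup.mem_inf.1 hz).2 ⟨_, hmem⟩)
    simp only [Subgroup.coe_mul] at hc
    rw [← hg]
    calc v * (g * z * g⁻¹) = g * ((g⁻¹ * v * g) * z) * g⁻¹ := by group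
      _ = g * (z * (g⁻¹ * v * g)) * g⁻¹ := by rw [hc]
      _ = g * z * g⁻¹ * v := by group
  refine orderOf_eq_prime ?_ hu1
  rw [← hxy, pow_two]
  calc x * y * (x * y) = x * (y * x) * y := by group
    _ = x * (x * y) * y := by rw [hcentral x hx hxa y (hin y hy hya)]
    _ = (x * x) * (y * y) := by group
    _ = 1 := by rw [sq_eq_one hx, sq_eq_one hy, mul_one]

theorem Setup.classes_avoiding (hlt : e + 2 < Fintype.card Ω) {a b : Ω} (hab : a ≠ b)
    {H : Subgroup G} (hHa : H ≤ stabilizer G a)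
    (hHfix : ∀ u ∈ H, u ≠ 1 → ∀ c : Ω, u • c = c → c = a) :
    e ≤ Nat.card {C : ConjClasses G // ∀ g : G, ConjClasses.mk g = C → g ∉ H} := by
  classical
  set F : Finset (ConjClasses G) :=
    Finset.univ.filter fun C => ∀ g, ConjClasses.mk g = C → ∀ c : Ω, g • c ≠ c with hF
  set R : Finset (ConjClasses G) :=
    Finset.univ.filter fun C => ∀ g : G, ConjClasses.mk g = C → g ∉ H with hR
  set X : Finset G := Finset.univ.filter fun x => x ≠ 1 ∧ x • a = a ∧ x • b = b with hX
  set B := X.image ConjClasses.mk with hB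
  have hRc : Nat.card {C : ConjClasses G // ∀ g : G, ConjClasses.mk g = C → g ∉ H} = R.card := by
    rw [hR, Nat.card_eq_fintype_card, Fintype.card_subtype]
  rw [hRc]
  have hFb : e < 2 * F.card := by
    have h := S.card_fpf_classes hlt
    rwa [Nat.card_eq_fintype_card, Fintype.card_subtype, ← hF] at h
  have hXc : X.card + 1 = e := by
    rw [← S.card_pair a b hab, Nat.card_eq_fintype_card, Fintype.card_subtype,
      ← Finset.card_insert_of_notMem (s := X) (a := 1) (by simp [hX])]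
    congr 1
    ext x
    by_cases hx : x = 1 <;> simp [hX, hx]
  have hXb : X.card ≤ 2 * B.card := by
    refine Finset.card_le_mul_card_image _ 2 fun C hC => ?_
    obtain ⟨x, hx, rfl⟩ := Finset.mem_image.1 hC
    simp only [hX, Finset.mem_filter, Finset.mem_univ, true_and] at hx
    refine (Finset.card_le_card (t := {x, x⁻¹}) fun y hy => ?_).trans Finset.card_le_two
    simp only [hX, Finset.mem_filter, Finset.mem_univ, true_and] at hy
    obtain ⟨g, hg⟩ := isConj_iff.1 (ConjClasses.mk_eq_mk_iff_isConj.1 hy.2).symm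
    obtain ⟨⟨hy1, hya, hyb⟩, -⟩ := hy
    rw [Finset.mem_insert, Finset.mem_singleton, ← hg]
    have hcases := cases_of_conj_mem S.zass hab (x := x) (c := g⁻¹)
      (Subgroup.mem_inf.2 ⟨hx.2.1, hx.2.2⟩) hx.1 (by
        rw [inv_inv, hg]; exact Subgroup.mem_inf.2 ⟨hya, hyb⟩)
    rcases hcases with ⟨h1, h2⟩ | ⟨h1, h2⟩ <;> rw [inv_smul_eq_iff] at h1 h2
    · left
      haveI := S.simple
      have hgm : g ∈ stabilizer G a ⊓ stabilizer G b := Subgroup.mem_inf.2 ⟨h1.symm, h2.symm⟩
      rw [ZassenhausOdd.comm S.zass hab (by rw [S.card_pair a b hab]; exact S.odd) hgm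
        (Subgroup.mem_inf.2 ⟨hx.2.1, hx.2.2⟩), mul_inv_cancel_right]
    · right
      exact S.inverts hab h2.symm h1.symm hx.2.1 hx.2.2
  have hdisj : Disjoint F B := Finset.disjoint_left.2 fun C hC hC' => by
    obtain ⟨x, hx, rfl⟩ := Finset.mem_image.1 hC'
    exact (Finset.mem_filter.1 hC).2 x rfl a (Finset.mem_filter.1 hx).2.2.1
  have hsub : F ∪ B ⊆ R := by
    intro C hC
    refine Finset.mem_filter.2 ⟨Finset.mem_univ _, fun g hg hgH => ?_⟩
    rcases Finset.mem_union.1 hC with h | h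
    · exact (Finset.mem_filter.1 h).2 g hg a (hHa hgH)
    · obtain ⟨x, hx, rfl⟩ := Finset.mem_image.1 h
      obtain ⟨hx1, hxa, hxb⟩ := (Finset.mem_filter.1 hx).2
      obtain ⟨k, rfl⟩ := isConj_iff.1 (ConjClasses.mk_eq_mk_iff_isConj.1 hg).symm
      have hne : k * x * k⁻¹ ≠ 1 := by simp [hx1]
      have ha' := hHfix _ hgH hne (k • a) (by rw [mul_smul, mul_smul, inv_smul_smul, hxa])
      have hb' := hHfix _ hgH hne (k • b) (by rw [mul_smul, mul_smul, inv_smul_smul, hxb])
      exact hab ((smul_left_cancel_iff k).1 (ha'.trans hb'.symm))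
  have h5 := Finset.card_le_card hsub
  rw [Finset.card_union_of_disjoint hdisj] at h5
  omega

end CfsgLib.CharactersDeep.ZassenhausOdd
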