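import Cfsg.Agent.CharactersDeep.ZassenhausKernel

/-!
# Feit's theorem for Zassenhaus groups: the coherent case is impossible

When the kernel `H` is coherent and `2 e < h - 1`, counting classes gives an irreducible character
of degree `e`; its square of absolute value contains all `(e - 1) / 2` characters of degree `h + 1`.
-/

set_option autoImplicit false
set_option linter.style.haveILetI false
set_option linter.unusedSectionVars false

namespace CfsgLib.CharactersDeep.ZassenhausOdd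

open MulAction CfsgLib.Characters
open scoped ComplexConjugate

variable {G Ω : Type*} [Group G] [Fintype G] [DecidableEq G] [MulAction G Ω] [Fintype Ω]
  [DecidableEq Ω] {e : ℕ} (S : Setup G Ω e) {a : Ω} {H : Subgroup G} (P : Point Ω a H)
  [Fintype H] [Fintype (stabilizer G a)]

include S P

local notation "L" => stabilizer G a
set_option quotPrecheck false in
local notation "Sset" => {χ : stabilizer G a → ℂ | Cfsg.IsIrrCharacter (stabilizer G a) χ ∧
  ∃ x : stabilizer G a, (x : G) ∈ H ∧ χ x ≠ χ 1}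

/-- Elements of `L \ H` in the same coset of `H` are conjugate. -/
theorem Setup.isConj_coset {x k : L} (hx : (x : G) ∉ H) (hk : (k : G) ∈ H) : IsConj (x * k) x := by
  classical
  haveI := S.kernel_normal P
  have hmem : ∀ g : H, (((x⁻¹ * P.ι g * x) * (P.ι g)⁻¹ : L) : G) ∈ H := fun g => by
    have h := S.conj_kernel P (k := ((x⁻¹ : L) : G)) (mem_stabilizer_iff.1 (x⁻¹).2) g.2
    show ((x : G)⁻¹ * (g : G) * (x : G)) * (g : G)⁻¹ ∈ H
    simp only [Subgroup.coe_inv, inv_inv] at h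
    exact mul_mem h (inv_mem g.2)
  obtain ⟨g, hg⟩ := Finite.surjective_of_injective (f := fun g : H => (⟨_, hmem g⟩ : H)) (fun g g' h => by
    have h1 : (x : G)⁻¹ * (g : G) * x * (g : G)⁻¹ = (x : G)⁻¹ * (g' : G) * x * (g' : G)⁻¹ :=
      congrArg Subtype.val h
    by_contra hne
    refine hx (S.centralizer_le P ((g' : G)⁻¹ * g) (mul_mem (inv_mem g'.2) g.2)
      (fun e => hne (Subtype.ext (inv_mul_eq_one.1 e).symm)) ?_)
    rw [Subgroup.mem_centralizer_singleton_iff]
    have h3 : (g : G) * x * (g : G)⁻¹ = (g' : G) * x * (g' : G)⁻¹ :=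
      mul_left_cancel (a := (x : G)⁻¹) (by simpa [mul_assoc] using h1)
    calc (x : G) * ((g' : G)⁻¹ * g) = (g' : G)⁻¹ * ((g' : G) * x * (g' : G)⁻¹) * g := by group
      _ = (g' : G)⁻¹ * ((g : G) * x * (g : G)⁻¹) * g := by rw [h3]
      _ = _ := by group) ⟨k, hk⟩
  have hg' : (x⁻¹ * P.ι g * x) * (P.ι g)⁻¹ = k :=
    Subtype.ext (show ((x : G)⁻¹ * (g : G) * x) * (g : G)⁻¹ = (k : G) from congrArg Subtype.val hg)
  exact isConj_iff.2 ⟨(P.ι g)⁻¹, by rw [← hg']; group⟩

/-- Classes: the group has at least `s + 1 + e` of them. -/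
theorem Setup.card_classes (hlt : e + 2 < Fintype.card Ω) :
    Nat.card (Cfsg.IrrCharacter L) + 1 ≤ Nat.card (Cfsg.IrrCharacter G) := by
  classical
  haveI := S.kernel_normal P
  obtain ⟨b, hb⟩ := P.other
  have havoid := S.classes_avoiding hlt hb.symm P.le P.fix
  choose rep hrep using fun C : ConjClasses L => ConjClasses.mk_surjective C
  set K := H.subgroupOf L
  set In := (Finset.univ : Finset (ConjClasses L)).filter fun C => ((rep C : L) : G) ∈ H
  set Out := (Finset.univ : Finset (ConjClasses L)).filter fun C => ((rep C : L) : G) ∉ H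
  have hOut : Out.card + 1 ≤ e := by
    have h1 : Out.card ≤ ((Finset.univ : Finset (L ⧸ K)).erase 1).card := by
      refine Finset.card_le_card_of_injOn (fun C => ((rep C : L) : L ⧸ K)) ?_ ?_
      · intro C hC
        refine Finset.mem_erase.2 ⟨fun h => ?_, Finset.mem_univ _⟩
        exact (Finset.mem_filter.1 hC).2 (Subgroup.mem_subgroupOf.1 ((QuotientGroup.eq_one_iff _).1 h))
      · intro C hC D hD h
        have hk : (((rep C)⁻¹ * rep D : L) : G) ∈ H := Subgroup.mem_subgroupOf.1 (QuotientGroup.eq.1 h)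
        have hc := S.isConj_coset P (Finset.mem_filter.1 hC).2 hk
        rw [mul_inv_cancel_left] at hc
        rw [← hrep C, ← hrep D]
        exact (ConjClasses.mk_eq_mk_iff_isConj.2 hc).symm
    rw [Finset.card_erase_of_mem (Finset.mem_univ _), Finset.card_univ, ← Nat.card_eq_fintype_card,
      ← Subgroup.index_eq_card, S.index_kernel P] at h1
    have := S.three_le
    omega
  have hIn : In.card + e ≤ Nat.card (ConjClasses G) := by
    set Av := (Finset.univ : Finset (ConjClasses G)).filter fun C => ∀ g, ConjClasses.mk g = C → g ∉ H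
    have hAv : e ≤ Av.card := by
      rwa [Nat.card_eq_fintype_card, Fintype.card_subtype] at havoid
    set Im := In.image fun C => ConjClasses.mk ((rep C : L) : G)
    have hIm : Im.card = In.card := by
      refine Finset.card_image_of_injOn fun C hC D hD h => ?_
      obtain ⟨g, hg⟩ := isConj_iff.1 (ConjClasses.mk_eq_mk_iff_isConj.1 h)
      have hCH := (Finset.mem_filter.1 hC).2
      have hDH := (Finset.mem_filter.1 hD).2
      rw [← hrep C, ← hrep D, ConjClasses.mk_eq_mk_iff_isConj]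
      by_cases h1 : ((rep C : L) : G) = 1
      · rw [h1, mul_one, mul_inv_cancel] at hg
        rw [show rep C = rep D from Subtype.ext (h1.trans hg)]
      · have hgL : g ∈ L := by
          by_contra hgL
          refine h1 ((S.ti P).1 g (fun hn => hgL ((S.ti P).2.le hn)) _ hCH ?_)
          exact hg ▸ hDH
        exact isConj_iff.2 ⟨⟨g, hgL⟩, Subtype.ext hg⟩
    have hdisj : Disjoint Im Av := Finset.disjoint_left.2 fun C hC hC' => by
      obtain ⟨D, hD, rfl⟩ := Finset.mem_image.1 hC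
      exact (Finset.mem_filter.1 hC').2 _ rfl (Finset.mem_filter.1 hD).2
    have h := Finset.card_le_univ (Im ∪ Av)
    rw [Finset.card_union_of_disjoint hdisj, hIm, ← Nat.card_eq_fintype_card] at h
    omega
  rw [card_irrCharacter, card_irrCharacter]
  have hsplit : In.card + Out.card = Nat.card (ConjClasses L) := by
    rw [Nat.card_eq_fintype_card, ← Finset.card_univ]
    exact Finset.card_filter_add_card_filter_not _
  omega

/-- The arithmetic of the count. -/
theorem Setup.arith {n r Q : ℕ} {m k : ℤ} (hk : 2 * (e : ℤ) < k) (hn : e = 2 * n + 1) (hr : n ≤ r)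
    (hQ : (r : ℤ) * k ^ 2 ≤ (Q : ℤ))
    (heq : (e : ℤ) * Q = k * (e + e * n * (k + 2) - (e - m * k) ^ 2)) : m = 0 := by
  have he : (0 : ℤ) < e := by have := S.three_le; omega
  have hk0 : 0 < k := by omega
  have h1 : (e : ℤ) * n * k ^ 2 ≤ k * (e + e * n * (k + 2) - (e - m * k) ^ 2) := by
    rw [← heq, mul_assoc]
    refine mul_le_mul_of_nonneg_left (le_trans ?_ hQ) he.le
    exact mul_le_mul_of_nonneg_right (by exact_mod_cast hr) (sq_nonneg k)
  have h2 : (e : ℤ) * n * k ≤ e + e * n * (k + 2) - (e - m * k) ^ 2 := by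
    refine le_of_mul_le_mul_left ?_ hk0
    linarith
  have hn' : (e : ℤ) = 2 * n + 1 := by exact_mod_cast hn
  have h3 : (e - m * k) ^ 2 ≤ (e : ℤ) ^ 2 := by nlinarith
  have h4 : |(e : ℤ) - m * k| ≤ e := by
    rw [sq_le_sq] at h3
    rwa [abs_of_pos he] at h3
  obtain ⟨h5, h6⟩ := abs_le.1 h4
  rcases lt_trichotomy m 0 with h | h | h
  · nlinarith
  · exact h
  · nlinarith

/-- The characters with a constituent trivial on the kernel, counted. -/
theorem Setup.exists_count :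
    ∃ (A B : Finset (Cfsg.IrrCharacter G)) (St : Cfsg.IrrCharacter G),
      (∀ u ∈ H, u ≠ 1 → (St : G → ℂ) u = 0) ∧
      (∀ χ : Cfsg.IrrCharacter G, χ ∉ A → ∑ u : H, (χ : G → ℂ) (u : G) = 0) ∧
      (∀ χ ∈ A, ∀ x ∈ H, ∀ y ∈ H, x ≠ 1 → y ≠ 1 → (χ : G → ℂ) x = (χ : G → ℂ) y) ∧
      (⟨fun _ => 1, isIrr_one⟩ : Cfsg.IrrCharacter G) ∈ A ∧ A.card = B.card + 2 ∧
      (∀ χ ∈ B, ∃ ν : L →* ℂˣ, (∀ u : L, (u : G) ∈ H → ν u = 1) ∧
        (χ : G → ℂ) = Cfsg.indFun L fun x => (ν x : ℂ)) ∧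
      (∀ f : Cfsg.IrrCharacter G → ℂ,
        ∑ χ ∈ A, f χ = f ⟨fun _ => 1, isIrr_one⟩ + (f St + ∑ χ ∈ B, f χ)) ∧
      e = 2 * B.card + 1 := by
  classical
  set hc : ℂ := (Nat.card H : ℂ) with hhc
  have hsplit : ∀ f : H → ℂ, ∀ c : ℂ, (∀ u : H, u ≠ 1 → f u = c) → ∑ u : H, f u = f 1 + (hc - 1) * c := by
    intro f c hf
    rw [← Finset.add_sum_erase _ _ (Finset.mem_univ (1 : H)),
      Finset.sum_congr rfl fun u hu => hf u (Finset.mem_erase.1 hu).1, Finset.sum_const,
      Finset.card_erase_of_mem (Finset.mem_univ _), Finset.card_univ, ← Nat.card_eq_fintype_card,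
      nsmul_eq_mul, Nat.cast_sub (Nat.one_le_iff_ne_zero.2 Nat.card_pos.ne'), Nat.cast_one]
  obtain ⟨St, hSt1, hStd, hStu, hSt⟩ := S.exists_steinberg P
  -- characters constant on `H#`
  set A : Finset (Cfsg.IrrCharacter G) :=
    Finset.univ.filter fun χ => ∑ u : H, (χ : G → ℂ) (u : G) ≠ 0 with hAdef
  set one : Cfsg.IrrCharacter G := ⟨fun _ => 1, isIrr_one⟩ with honedef
  have hAval : ∀ χ ∈ A, χ = one ∨ χ = St ∨
      ∃ ν : L →* ℂˣ, (∀ u : L, (u : G) ∈ H → ν u = 1) ∧
        (χ : G → ℂ) = Cfsg.indFun L fun x => (ν x : ℂ) := by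
    intro χ hχ
    obtain ⟨μ, hμH, hne⟩ := S.exists_constituent_of_sum P χ (Finset.mem_filter.1 hχ).2
    rcases S.classify P hSt χ μ hμH hne with h | h | ⟨ν, hνH, h⟩
    · exact Or.inl (Subtype.ext h)
    · exact Or.inr (Or.inl h)
    · exact Or.inr (Or.inr ⟨ν, hνH, h⟩)
  have hAconst : ∀ χ ∈ A, ∀ x ∈ H, ∀ y ∈ H, x ≠ 1 → y ≠ 1 → (χ : G → ℂ) x = (χ : G → ℂ) y := by
    intro χ hχ x hx y hy hx1 hy1
    rcases hAval χ hχ with rfl | rfl | ⟨ν, hνH, h⟩
    · rfl
    · rw [hStu x hx hx1, hStu y hy hy1]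
    · rw [h, (S.ind_values P ν hνH).2 x hx hx1, (S.ind_values P ν hνH).2 y hy hy1]
  have hnA : ∀ χ : Cfsg.IrrCharacter G, χ ∉ A → ∑ u : H, (χ : G → ℂ) (u : G) = 0 := fun χ hχ => by
    simpa [hAdef] using hχ
  have honeA : one ∈ A := by
    refine Finset.mem_filter.2 ⟨Finset.mem_univ _, ?_⟩
    simp [honedef]
  have hStA : St ∈ A := by
    refine Finset.mem_filter.2 ⟨Finset.mem_univ _, ?_⟩
    rw [hsplit _ 0 fun u hu => hStu _ u.2 fun e => hu (Subtype.ext e)]
    simp [hStd, hhc]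
  have hone_ne : one ≠ St := fun h => hSt1 (congrArg Subtype.val h).symm
  set B := (A.erase one).erase St with hBdef
  have hBind : ∀ χ ∈ B, ∃ ν : L →* ℂˣ, (∀ u : L, (u : G) ∈ H → ν u = 1) ∧
      (χ : G → ℂ) = Cfsg.indFun L fun x => (ν x : ℂ) := by
    intro χ hχ
    obtain ⟨h1, h2⟩ := Finset.mem_erase.1 hχ
    obtain ⟨h3, h4⟩ := Finset.mem_erase.1 h2
    rcases hAval χ h4 with h | h | h
    exacts [absurd h h3, absurd h h1, h]
  have hBval : ∀ χ ∈ B, (χ : G → ℂ) 1 = hc + 1 ∧ ∀ u ∈ H, u ≠ 1 → (χ : G → ℂ) u = 1 := by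
    intro χ hχ
    obtain ⟨ν, hνH, h⟩ := hBind χ hχ
    rw [h]
    exact S.ind_values P ν hνH
  have hStA' : St ∈ A.erase one := Finset.mem_erase.2 ⟨hone_ne.symm, hStA⟩
  have hsumA : ∀ f : Cfsg.IrrCharacter G → ℂ, ∑ χ ∈ A, f χ = f one + (f St + ∑ χ ∈ B, f χ) := fun f => by
    rw [← Finset.add_sum_erase _ _ honeA, ← Finset.add_sum_erase _ _ hStA']
  have hAcard : A.card = B.card + 2 := by
    rw [hBdef, Finset.card_erase_of_mem hStA', Finset.card_erase_of_mem honeA]
    have := Finset.card_le_card (show ({one, St} : Finset _) ⊆ A by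
      intro χ hχ; simp at hχ; rcases hχ with rfl | rfl <;> assumption)
    rw [Finset.card_pair hone_ne] at this
    omega
  set n := B.card with hn
  -- the number of characters of degree `h + 1`
  have hen : e = 2 * n + 1 := by
    have h1 : ∑ χ : Cfsg.IrrCharacter G, (χ : G → ℂ) 1 * ∑ u : H, (χ : G → ℂ) (u : G) =
        (Nat.card G : ℂ) := by
      simp only [Finset.mul_sum]
      rw [Finset.sum_comm, Finset.sum_congr rfl fun (u : H) _ => sum_degree_mul (u : G),
        Finset.sum_eq_single 1]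
      · exact if_pos rfl
      · exact fun u _ hu => if_neg fun h => hu (Subtype.ext h)
      · exact fun h => absurd (Finset.mem_univ _) h
    rw [← Finset.sum_subset (Finset.subset_univ A) fun χ _ hχ => by rw [hnA χ hχ, mul_zero],
      hsumA, Finset.sum_congr (s₁ := B) rfl (g := fun _ => (hc + 1) * (2 * hc)) fun χ hχ => by
        obtain ⟨h1, h2⟩ := hBval χ hχ
        rw [hsplit _ 1 fun u hu => h2 _ u.2 fun e => hu (Subtype.ext e), OneMemClass.coe_one, h1]
        ring,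
      Finset.sum_const, hsplit _ 0 fun u hu => hStu _ u.2 fun e => hu (Subtype.ext e),
      S.card_group P] at h1
    simp only [honedef, Finset.sum_const, Finset.card_univ, ← Nat.card_eq_fintype_card,
      OneMemClass.coe_one, hStd, ← hhc, nsmul_eq_mul, mul_one, mul_zero, add_zero, one_mul] at h1
    push_cast [← hn, ← hhc] at h1
    have h2 : hc * (hc + 1) * (e : ℂ) = hc * (hc + 1) * ((2 * n + 1 : ℕ) : ℂ) := by
      push_cast
      linear_combination -h1
    have hne : hc * (hc + 1) ≠ 0 := by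
      rw [hhc, ← Nat.cast_succ, ← Nat.cast_mul, Nat.cast_ne_zero]
      exact Nat.mul_ne_zero Nat.card_pos.ne' (Nat.succ_ne_zero _)
    exact Nat.cast_injective (mul_left_cancel₀ hne h2)
  exact ⟨A, B, St, hStu, hnA, hAconst, honeA, hAcard, hBind, hsumA, hen⟩

/-- An irreducible character of degree `e` which on `L` is nonconstant on `H` and vanishes off `H`. -/
theorem Setup.exists_small
    (hcoh : Cfsg.IsCoherent Sset {1}ᶜ (fun α : L → ℂ => Cfsg.indFun L α))
    (hbig : 2 * e + 1 < Nat.card H) :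
    ∃ (X : Cfsg.IrrCharacter G) (θ : Cfsg.IrrCharacter L),
      (X : G → ℂ) 1 = (e : ℂ) ∧ (∀ x : L, (X : G → ℂ) x = (θ : L → ℂ) x) ∧
      ∀ x : L, (x : G) ∉ H → (θ : L → ℂ) x = 0 := by
  classical
  haveI := S.kernel_normal P
  obtain ⟨hTI, hN⟩ := S.ti P
  have hC := S.centralizer_le P
  obtain ⟨⟨α, hα, hα0⟩, star, hstar, hext⟩ := hcoh
  have he3 := S.three_le
  have hH1 : H ≠ ⊥ := fun h => by rw [h, Subgroup.card_bot] at hbig; omega
  set F := Finset.univ.filter fun φ : Cfsg.IrrCharacter L => (φ : L → ℂ) ∈ Sset with hFdef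
  have hF : ∀ φ : Cfsg.IrrCharacter L, φ ∈ F ↔
      ∃ x : L, (x : G) ∈ H ∧ (φ : L → ℂ) x ≠ (φ : L → ℂ) 1 := fun φ => by simp [hFdef, φ.2]
  have hFS : ∀ φ ∈ F, (φ : L → ℂ) ∈ Sset := fun φ hφ => (Finset.mem_filter.1 hφ).2
  have htwo : ∃ χ ∈ Sset, ∃ ξ ∈ Sset, χ ≠ ξ := by
    by_contra hno
    push Not at hno
    obtain ⟨hspan, h1⟩ := Coherence.mem_zspanOn_one.1 hα
    rcases (Sset : Set (L → ℂ)).eq_empty_or_nonempty with h | ⟨φ₀, hφ₀⟩
    · rw [h, Cfsg.zspan, Submodule.span_empty] at hspan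
      exact hα0 (by simpa using hspan)
    · have hle : (Sset : Set (L → ℂ)) ⊆ {φ₀} := fun χ hχ => hno χ hχ φ₀ hφ₀
      obtain ⟨z, rfl⟩ := Submodule.mem_span_singleton.1 (Submodule.span_mono hle hspan)
      have h0 : φ₀ 1 ≠ 0 := irr_one_ne_zero hφ₀.1
      simp only [Pi.smul_apply, zsmul_eq_mul, mul_eq_zero, h0, or_false, Int.cast_eq_zero] at h1
      exact hα0 (by rw [h1, zero_smul])
  obtain ⟨m, hm⟩ := TIExceptional.exists_defect (H := H) hTI hN hC rfl hstar hext P.le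
  rw [S.index_kernel P] at hm
  have hι1 : ∀ u : H, P.ι u = 1 ↔ u = 1 := fun u =>
    ⟨fun h => Subtype.ext (congrArg (fun w : L => (w : G)) h), fun h => by rw [h]; rfl⟩
  set hc : ℂ := (Nat.card H : ℂ) with hhc
  have hec : (e : ℂ) ≠ 0 := Nat.cast_ne_zero.2 (by omega)
  have hcard0 : (((Nat.card H - 1 : ℕ)) : ℂ) = hc - 1 := by
    rw [hhc, Nat.cast_sub (by omega), Nat.cast_one]
  -- sums over the kernel split at the identity
  have hsplit : ∀ f : H → ℂ, ∀ c : ℂ, (∀ u : H, u ≠ 1 → f u = c) → ∑ u : H, f u = f 1 + (hc - 1) * c := by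
    intro f c hf
    rw [← Finset.add_sum_erase _ _ (Finset.mem_univ (1 : H)),
      Finset.sum_congr rfl fun u hu => hf u (Finset.mem_erase.1 hu).1, Finset.sum_const,
      Finset.card_erase_of_mem (Finset.mem_univ _), Finset.card_univ, ← Nat.card_eq_fintype_card,
      nsmul_eq_mul, hcard0]
  -- signed images
  haveI : Nonempty (Cfsg.IrrCharacter G) := ⟨⟨_, isIrr_one⟩⟩
  choose! g hg using fun φ (hφ : φ ∈ F) =>
    show ∃ χ : Cfsg.IrrCharacter G, star (φ : L → ℂ) = (χ : G → ℂ) ∨ star (φ : L → ℂ) = -(χ : G → ℂ) by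
      rcases TIExceptional.signed hC rfl hstar (hFS φ hφ) with h | h
      · exact ⟨⟨_, h⟩, Or.inl rfl⟩
      · exact ⟨⟨_, h⟩, Or.inr (neg_neg _).symm⟩
  have hgne : ∀ φ ∈ F, ∃ x ∈ H, ∃ y ∈ H, x ≠ 1 ∧ y ≠ 1 ∧ (g φ : G → ℂ) x ≠ (g φ : G → ℂ) y := fun φ hφ =>
    (TIExceptional.exceptional_iff hC rfl hstar hext htwo P.le (g φ).2).1
      ⟨_, hFS φ hφ, (hg φ hφ).imp (fun h => h.symm) fun h => by rw [h, neg_neg]⟩
  obtain ⟨A, B, St, hStu, hnA, hAconst, honeA, hAcard, hBind, hsumA, hen⟩ := S.exists_count P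
  set n := B.card with hn
  have hBval : ∀ χ ∈ B, (χ : G → ℂ) 1 = hc + 1 ∧ ∀ u ∈ H, u ≠ 1 → (χ : G → ℂ) u = 1 := by
    intro χ hχ
    obtain ⟨ν, hνH, h⟩ := hBind χ hχ
    rw [h]
    exact S.ind_values P ν hνH
  have hgA : ∀ φ ∈ F, g φ ∉ A := fun φ hφ hA => by
    obtain ⟨x, hx, y, hy, hx1, hy1, hne⟩ := hgne φ hφ
    exact hne (hAconst _ hA x hx y hy hx1 hy1)
  -- images
  have hsum0 : ∀ φ ∈ F, star (φ : L → ℂ) 1 = (φ : L → ℂ) 1 * (1 - (m : ℂ) * (hc - 1) / e) := by
    intro φ hφ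
    have h1 : ∑ u : H, star (φ : L → ℂ) (u : G) = 0 := by
      rcases hg φ hφ with h | h
      · simp only [h]; exact hnA _ (hgA φ hφ)
      · simp only [h, Pi.neg_apply, Finset.sum_neg_distrib, hnA _ (hgA φ hφ), neg_zero]
    have h2 := (S.sum_nonconst P φ ((hF φ).1 hφ)).2
    have h1' : ∑ u : H, star (φ : L → ℂ) ((P.ι u : L) : G) = 0 := h1
    have h3 : ∑ u : H, (star (φ : L → ℂ) ((P.ι u : L) : G) - (φ : L → ℂ) (P.ι u)) = 0 := by
      rw [Finset.sum_sub_distrib, h1', h2, sub_zero]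
    rw [hsplit _ ((m : ℂ) * (φ : L → ℂ) 1 / e) fun u hu =>
      hm _ (hFS φ hφ) (P.ι u) u.2 fun e => hu ((hι1 u).1 e),
      show P.ι (1 : H) = 1 from (hι1 1).2 rfl, OneMemClass.coe_one] at h3
    linear_combination h3
  set notF := Finset.univ.filter fun φ : Cfsg.IrrCharacter L => ∀ x : L, (x : G) ∈ H →
    (φ : L → ℂ) x = (φ : L → ℂ) 1 with hnotF
  have hnotFc : notF.card = e := by
    rw [hnotF]
    convert S.card_trivial P
  have hFnot : F = notFᶜ := by
    ext φ
    rw [hF, Finset.mem_compl, hnotF, Finset.mem_filter]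
    simp
  have hlin : ∀ φ ∈ notF, (φ : L → ℂ) 1 = 1 ∧ ∀ x : L, (x : G) ∈ H → (φ : L → ℂ) x = 1 := by
    intro φ hφ
    obtain ⟨μ, hμ, hμH⟩ := S.linear_of_trivial P φ (Finset.mem_filter.1 hφ).2
    exact ⟨by simp [hμ], fun x hx => by simp [hμ, hμH x hx]⟩
  obtain ⟨u₀, hu₀, hu₀1⟩ := H.bot_or_exists_ne_one.resolve_left hH1
  set v₀ : L := ⟨u₀, P.le hu₀⟩
  have hv₀1 : v₀ ≠ 1 := fun h => hu₀1 (congrArg (fun w : L => (w : G)) h)
  have hSq : ∑ φ ∈ F, (φ : L → ℂ) 1 * (φ : L → ℂ) 1 = (Nat.card L : ℂ) - e := by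
    have h := sum_degree_mul (G := L) 1
    rw [if_pos rfl, ← Finset.sum_compl_add_sum notF, ← hFnot,
      Finset.sum_congr (s₁ := notF) rfl (g := fun _ => (1 : ℂ)) fun φ hφ => by rw [(hlin φ hφ).1, mul_one],
      Finset.sum_const, hnotFc, nsmul_eq_mul, mul_one] at h
    linear_combination h
  have hSv : ∑ φ ∈ F, (φ : L → ℂ) 1 * (φ : L → ℂ) v₀ = -(e : ℂ) := by
    have h := sum_degree_mul (G := L) v₀
    rw [if_neg hv₀1, ← Finset.sum_compl_add_sum notF, ← hFnot,
      Finset.sum_congr (s₁ := notF) rfl (g := fun _ => (1 : ℂ)) fun φ hφ => by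
        rw [(hlin φ hφ).1, (hlin φ hφ).2 v₀ hu₀, mul_one],
      Finset.sum_const, hnotFc, nsmul_eq_mul, mul_one] at h
    linear_combination h
  -- the remaining characters
  have hinj : Set.InjOn g F := by
    intro φ hφ ψ hψ h
    by_contra hne
    have h1 := TIExceptional.star_inner (H := H) rfl hstar (hFS φ hφ) (hFS ψ hψ)
    rw [classInner_isIrr_ne φ.2 ψ.2 fun e => hne (Subtype.ext e)] at h1
    rcases hg φ hφ with e1 | e1 <;> rcases hg ψ hψ with e2 | e2 <;>
      rw [e1, e2, h] at h1 <;>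
      simp [Coherence.ci_neg_left, Coherence.ci_neg_right, classInner_isIrr_self (g ψ).2] at h1
  set Ex := F.image g with hEx
  set R : Finset (Cfsg.IrrCharacter G) := (A ∪ Ex)ᶜ with hRdef
  have hdisj : Disjoint A Ex := Finset.disjoint_left.2 fun χ hA hE => by
    obtain ⟨φ, hφ, rfl⟩ := Finset.mem_image.1 hE
    exact hgA φ hφ hA
  have hRc : n ≤ R.card := by
    have h1 := S.card_classes P (by rw [← Nat.card_eq_fintype_card, ← P.card]; omega)
    have h2 : Nat.card (Cfsg.IrrCharacter L) = F.card + e := by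
      rw [Nat.card_eq_fintype_card, ← Finset.card_compl_add_card notF, hnotFc, hFnot]
    rw [hRdef, Finset.card_compl, Finset.card_union_of_disjoint hdisj, hEx,
      Finset.card_image_of_injOn hinj, hAcard, ← Nat.card_eq_fintype_card]
    omega
  have hconstR : ∀ χ ∈ R, ∀ u ∈ H, u ≠ 1 → (χ : G → ℂ) u = (χ : G → ℂ) u₀ := by
    intro χ hχ u hu hu1
    by_contra hne
    simp only [hRdef, Finset.mem_compl, Finset.mem_union, not_or] at hχ
    obtain ⟨ζ, hζ, hχζ⟩ := (TIExceptional.exceptional_iff hC rfl hstar hext htwo P.le χ.2).2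
      ⟨u, hu, u₀, hu₀, hu1, hu₀1, hne⟩
    refine hχ.2 (Finset.mem_image.2 ⟨⟨ζ, hζ.1⟩, (hF _).2 hζ.2, ?_⟩)
    rcases hg ⟨ζ, hζ.1⟩ ((hF _).2 hζ.2) with h | h <;> rcases hχζ with h' | h'
    · exact Subtype.ext (h.symm.trans h'.symm)
    · exfalso
      obtain ⟨d, hd, hd1⟩ := exists_degree_pos χ.2
      obtain ⟨d', hd', hd1'⟩ := exists_degree_pos (g ⟨ζ, hζ.1⟩).2
      rw [h'] at hd1
      simp only [Pi.neg_apply] at hd1
      rw [show star ζ 1 = _ from congrFun h 1, hd1'] at hd1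
      have : ((d + d' : ℕ) : ℂ) = 0 := by push_cast; linear_combination -hd1
      rw [Nat.cast_eq_zero] at this
      omega
    · exfalso
      obtain ⟨d, hd, hd1⟩ := exists_degree_pos χ.2
      obtain ⟨d', hd', hd1'⟩ := exists_degree_pos (g ⟨ζ, hζ.1⟩).2
      rw [h', show star ζ 1 = _ from congrFun h 1, Pi.neg_apply, hd1'] at hd1
      have : ((d + d' : ℕ) : ℂ) = 0 := by push_cast; linear_combination -hd1
      rw [Nat.cast_eq_zero] at this
      omega
    · refine Subtype.ext ?_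
      have h0 : star ζ = -(g ⟨ζ, hζ.1⟩ : G → ℂ) := h
      rw [h', h0, neg_neg]
  choose d hd0 hd using fun χ : Cfsg.IrrCharacter G => exists_degree_pos χ.2
  have hR : ∀ χ ∈ R, (hc - 1) * (χ : G → ℂ) u₀ = -(d χ : ℂ) ∧ Nat.card H - 1 ≤ d χ := by
    intro χ hχ
    have h0 := hnA χ fun hA => (Finset.mem_compl.1 hχ) (Finset.mem_union_left _ hA)
    rw [hsplit _ _ fun u hu => hconstR χ hχ _ u.2 fun e => hu (Subtype.ext e), OneMemClass.coe_one, hd] at h0
    have h1 : (hc - 1) * (χ : G → ℂ) u₀ = -(d χ : ℂ) := by linear_combination h0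
    refine ⟨h1, ?_⟩
    obtain ⟨v, hv⟩ := Coherence.exists_int_of_integral_mul
      (character_isIntegral (isCharacter_of_isIrr χ.2) u₀) (a := -(d χ : ℤ))
      (b := Nat.card H - 1) (by omega) (by rw [hcard0, h1]; push_cast; rfl)
    rw [hv, ← hcard0] at h1
    have h2 : ((Nat.card H - 1 : ℕ) : ℤ) * v = -(d χ : ℤ) := by exact_mod_cast h1
    have h3 := hd0 χ
    have h4 : v ≤ -1 := by
      by_contra hv'
      have : 0 ≤ ((Nat.card H - 1 : ℕ) : ℤ) * v := mul_nonneg (Int.natCast_nonneg _) (by omega)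
      omega
    have h5 : ((Nat.card H - 1 : ℕ) : ℤ) * 1 ≤ ((Nat.card H - 1 : ℕ) : ℤ) * (-v) :=
      mul_le_mul_of_nonneg_left (by omega) (Int.natCast_nonneg _)
    rw [mul_neg, h2] at h5
    omega
  set t : ℂ := 1 - (m : ℂ) * (hc - 1) / e with ht
  have hEsum : ∑ χ ∈ Ex, (χ : G → ℂ) 1 * (χ : G → ℂ) u₀ =
      t * (-(e : ℂ) + (m : ℂ) / e * ((Nat.card L : ℂ) - e)) := by
    rw [hEx, Finset.sum_image hinj, ← hSq, ← hSv, Finset.mul_sum, ← Finset.sum_add_distrib, Finset.mul_sum]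
    refine Finset.sum_congr rfl fun φ hφ => ?_
    have h1 := hsum0 φ hφ
    have h2 : star (φ : L → ℂ) u₀ = (φ : L → ℂ) v₀ + (m : ℂ) * (φ : L → ℂ) 1 / e := by
      have h := hm _ (hFS φ hφ) v₀ hu₀ hv₀1
      linear_combination h
    rcases hg φ hφ with h | h
    · rw [← h, h1, h2]; ring
    · rw [show (g φ : G → ℂ) = -star (φ : L → ℂ) by rw [h, neg_neg], Pi.neg_apply, Pi.neg_apply, h1, h2]
      ring
  set Q := ∑ χ ∈ R, d χ * d χ with hQdef
  have hRsum : (hc - 1) * ∑ χ ∈ R, (χ : G → ℂ) 1 * (χ : G → ℂ) u₀ = -(Q : ℂ) := by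
    rw [hQdef, Nat.cast_sum, ← Finset.sum_neg_distrib, Finset.mul_sum]
    refine Finset.sum_congr rfl fun χ hχ => ?_
    rw [hd]
    push_cast
    linear_combination (d χ : ℂ) * (hR χ hχ).1
  have hcol := sum_degree_mul (G := G) u₀
  rw [if_neg hu₀1, ← Finset.sum_compl_add_sum (A ∪ Ex), ← hRdef, Finset.sum_union hdisj, hsumA,
    hEsum, hStu u₀ hu₀ hu₀1, mul_zero, zero_add,
    Finset.sum_congr (s₁ := B) rfl (g := fun _ => hc + 1) fun χ hχ => by
      rw [(hBval χ hχ).1, (hBval χ hχ).2 u₀ hu₀ hu₀1, mul_one],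
    Finset.sum_const, nsmul_eq_mul, ← hn] at hcol
  simp only [mul_one] at hcol
  have hLc : (Nat.card L : ℂ) = hc * e := by rw [S.card_stab P, Nat.cast_mul]
  rw [hLc] at hcol
  have hkey : (e : ℂ) * Q = (hc - 1) * ((e : ℂ) + e * n * ((hc - 1) + 2) - (e - m * (hc - 1)) ^ 2) := by
    rw [ht] at hcol
    field_simp at hcol
    linear_combination (e : ℂ) * hRsum - (hc - 1) * hcol
  have hm0 : m = 0 := by
    refine S.arith P (n := n) (r := R.card) (Q := Q) (k := (Nat.card H : ℤ) - 1) (by omega) hen hRc ?_ ?_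
    · rw [hQdef, Nat.cast_sum, ← nsmul_eq_mul, ← Finset.sum_const]
      refine Finset.sum_le_sum fun χ hχ => ?_
      have h := (hR χ hχ).2
      have h' : (Nat.card H : ℤ) - 1 ≤ (d χ : ℤ) := by omega
      push_cast
      rw [pow_two]
      exact mul_le_mul h' h' (by omega) (Int.natCast_nonneg _)
    · apply Int.cast_injective (α := ℂ)
      push_cast
      rw [← hhc]
      exact hkey
  -- the character of degree `e`
  have hlt : H < L := lt_of_le_of_ne P.le fun h => by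
    have h' : Nat.card L = Nat.card H := by rw [← h]
    rw [S.card_stab P, Nat.mul_eq_left Nat.card_pos.ne'] at h'
    omega
  have hsolv : Group.IsSolvable (H.subgroupOf L) := by
    haveI : Group.IsNilpotent H := CfsgLib.Zassenhaus.isNilpotent_kernel S.zass P.le
      (fun k hk v hv => S.conj_kernel P (mem_stabilizer_iff.1 hk) hv) P.fix
    haveI : Group.IsNilpotent (H.subgroupOf L) :=
      Group.nilpotent_of_mulEquiv (Subgroup.subgroupOfEquivOfLe hlt.le).symm
    infer_instance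
  have hK1 : H.subgroupOf L ≠ ⊥ := by
    rw [ne_eq, Subgroup.subgroupOf_eq_bot, disjoint_iff, inf_eq_left.2 P.le]
    exact hH1
  obtain ⟨θ, hθ, hθe⟩ : ∃ θ : L → ℂ, θ ∈ Sset ∧ θ 1 = (e : ℂ) := by
    haveI := hsolv
    haveI : Nontrivial (H.subgroupOf L) := (Subgroup.nontrivial_iff_ne_bot _).2 hK1
    obtain ⟨θ, hθ, hθe⟩ := Coherence.exists_linear_mem (H.subgroupOf L) hsolv (⊥ : Subgroup L)
      (bot_lt_iff_ne_bot.2 hK1)
    refine ⟨θ, ?_, by rw [hθe, S.index_kernel P]⟩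
    rw [Coherence.ti_set_eq hC]
    exact hθ
  set θ' : Cfsg.IrrCharacter L := ⟨θ, hθ.1⟩
  have hθF : θ' ∈ F := (hF θ').2 hθ.2
  have hX1 : star θ 1 = (e : ℂ) := by
    rw [show θ = ((θ' : Cfsg.IrrCharacter L) : L → ℂ) from rfl, hsum0 θ' hθF, ht, hm0]
    simp [θ', hθe]
  have hXH : ∀ x : L, (x : G) ∈ H → star θ x = θ x := fun x hx => by
    by_cases hx1 : x = 1
    · rw [hx1, OneMemClass.coe_one, hX1, hθe]
    · have h := hm θ hθ x hx hx1
      rw [hm0] at h
      simp at h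
      linear_combination h
  obtain ⟨hirr⟩ : Nonempty (Cfsg.IsIrrCharacter G (star θ)) := ⟨by
    rcases TIExceptional.signed hC rfl hstar hθ with h | h
    · exact h
    · exfalso
      obtain ⟨k, hk, hk1⟩ := exists_degree_pos h
      rw [Pi.neg_apply, hX1] at hk1
      have : ((e + k : ℕ) : ℂ) = 0 := by push_cast; linear_combination -hk1
      rw [Nat.cast_eq_zero] at this
      omega⟩
  refine ⟨⟨star θ, hirr⟩, θ', hX1, fun x => ?_, (S.sum_nonconst P θ' hθ.2).1⟩
  by_cases hx : (x : G) ∈ H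
  · exact hXH x hx
  rw [(S.sum_nonconst P θ' hθ.2).1 x hx]
  -- the restriction vanishes off the kernel
  have hexp := congrFun (character_expansion
    (isCharacter_restrict L (isCharacter_of_isIrr hirr))) x
  refine hexp.trans ?_
  simp only [Finset.sum_apply, Pi.smul_apply, smul_eq_mul]
  refine Finset.sum_eq_zero fun φ _ => ?_
  by_cases hφ : ∀ y : L, (y : G) ∈ H → (φ : L → ℂ) y = (φ : L → ℂ) 1
  · obtain ⟨μ, hμ, hμH⟩ := S.linear_of_trivial P φ hφ
    rw [mul_eq_zero]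
    left
    by_contra hne
    rw [hμ] at hne
    obtain ⟨y, hy, z, hz, hy1, hz1, hyz⟩ := hgne θ' hθF
    have hgθ : (g θ' : G → ℂ) = star θ ∨ (g θ' : G → ℂ) = -star θ :=
      (hg θ' hθF).imp (fun h => h.symm) fun h => by
        rw [show star θ = -(g θ' : G → ℂ) from h, neg_neg]
    obtain ⟨St, -, -, hStu, hSt⟩ := S.exists_steinberg P
    have hconst : star θ y = star θ z := by
      rcases S.classify P hSt ⟨star θ, hirr⟩ μ hμH hne with h | h | ⟨ν, hνH, h⟩
      · rw [show star θ = fun _ => (1 : ℂ) from h]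
      · rw [show star θ = (St : G → ℂ) from congrArg Subtype.val h, hStu y hy hy1, hStu z hz hz1]
      · rw [show star θ = _ from h, (S.ind_values P ν hνH).2 y hy hy1, (S.ind_values P ν hνH).2 z hz hz1]
    apply hyz
    rcases hgθ with h | h <;> rw [h]
    · exact hconst
    · simp [hconst]
  · push Not at hφ
    rw [(S.sum_nonconst P φ hφ).1 x hx, mul_zero]

/-- The coherent case is impossible. -/
theorem Setup.not_coherent
    (hcoh : Cfsg.IsCoherent Sset {1}ᶜ (fun α : L → ℂ => Cfsg.indFun L α))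
    (hbig : 2 * e + 1 < Nat.card H) : False := by
  classical
  obtain ⟨X, θ, hX1, hXθ, hθ0⟩ := S.exists_small P hcoh hbig
  have hlt : e + 2 < Fintype.card Ω := by rw [← Nat.card_eq_fintype_card, ← P.card]; omega
  obtain ⟨A, B, -, -, -, -, -, -, hBind, -, hen⟩ := S.exists_count P
  set Ψ : G → ℂ := fun x => (X : G → ℂ) x * conj ((X : G → ℂ) x)
  have hΨ : Cfsg.IsCharacter G Ψ :=
    isCharacter_mul (isCharacter_of_isIrr X.2) (isCharacter_conj (isCharacter_of_isIrr X.2))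
  choose d hd0 hd using fun χ : Cfsg.IrrCharacter G => exists_degree_pos χ.2
  choose c hc using fun χ : Cfsg.IrrCharacter G => classInner_character_irr hΨ χ.2
  have hBc : ∀ χ ∈ B, c χ = 1 ∧ d χ = Nat.card H + 1 := by
    intro χ hχ
    obtain ⟨ν, hνH, hχν⟩ := hBind χ hχ
    constructor
    · have h1 : Cfsg.classInner Ψ (χ : G → ℂ) = 1 := by
        rw [hχν, classInner_indFun_right L _ (isClassFunction_of_isCharacter hΨ),
          ← classInner_isIrr_self θ.2]
        simp only [Cfsg.classInner]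
        congr 1
        refine Finset.sum_congr rfl fun x _ => ?_
        simp only [Ψ, hXθ]
        by_cases hx : (x : G) ∈ H
        · rw [hνH x hx]; simp
        · rw [hθ0 x hx]; simp
      rw [hc] at h1
      exact_mod_cast h1
    · have h1 := (S.ind_values P ν hνH).1
      rw [← hχν, hd] at h1
      exact_mod_cast h1
  -- degree of `Ψ`
  have hdeg : ∑ χ, c χ * d χ = e * e := by
    apply Nat.cast_injective (R := ℂ)
    have h := congrFun (character_expansion hΨ) 1
    have hΨ1 : Ψ 1 = (e : ℂ) * e := by simp [Ψ, hX1]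
    simp only [Finset.sum_apply, Pi.smul_apply, smul_eq_mul, hc, hd, hΨ1] at h
    push_cast
    exact h.symm
  have hone : (⟨fun _ => 1, isIrr_one⟩ : Cfsg.IrrCharacter G) ∉ B := fun h => by
    have h1 := (hBc _ h).2
    have h2 := hd (⟨fun _ => 1, isIrr_one⟩ : Cfsg.IrrCharacter G)
    rw [h1] at h2
    have : ((Nat.card H + 1 : ℕ) : ℂ) = ((1 : ℕ) : ℂ) := by rw [← h2]; simp
    rw [Nat.cast_inj] at this
    omega
  have hc1 : c ⟨fun _ => 1, isIrr_one⟩ = 1 ∧ d ⟨fun _ => 1, isIrr_one⟩ = 1 := by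
    constructor
    · have h := hc ⟨fun _ => 1, isIrr_one⟩
      have h' : Cfsg.classInner Ψ (fun _ => 1) = Cfsg.classInner (X : G → ℂ) (X : G → ℂ) := by
        simp [Cfsg.classInner, Ψ]
      rw [show ((⟨fun _ => 1, isIrr_one⟩ : Cfsg.IrrCharacter G) : G → ℂ) = fun _ => 1 from rfl, h',
        classInner_isIrr_self X.2] at h
      exact_mod_cast h.symm
    · have h := (hd ⟨fun _ => 1, isIrr_one⟩).symm
      exact Nat.cast_injective (R := ℂ) (by simpa using h)
  have hle := Finset.sum_le_sum_of_subset (f := fun χ => c χ * d χ)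
    (Finset.subset_univ (insert (⟨fun _ => 1, isIrr_one⟩ : Cfsg.IrrCharacter G) B))
  rw [hdeg, Finset.sum_insert hone, hc1.1, hc1.2,
    Finset.sum_congr rfl (g := fun _ => Nat.card H + 1) fun χ hχ => by
      rw [(hBc χ hχ).1, (hBc χ hχ).2, one_mul], Finset.sum_const, smul_eq_mul] at hle
  have h2 : B.card * (2 * e + 3) ≤ B.card * (Nat.card H + 1) := Nat.mul_le_mul_left _ (by omega)
  have := S.three_le
  nlinarith

end CfsgLib.CharactersDeep.ZassenhausOdd
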