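import Cfsg.Agent.CharactersDeep.ZassenhausTransfer

/-!
# Involutions and fixed point free classes of a simple Zassenhaus group of odd two-point order

With `n` points and two-point stabilisers of odd order `e`, all involutions are conjugate, each
pair of points is interchanged by `e` of them, and there are at least `(e + 1) / 2` classes of fixed
point free elements once `e + 2 < n`.
-/

set_option autoImplicit false
set_option linter.style.haveILetI false
set_option linter.unusedSectionVars false

namespace CfsgLib.CharactersDeep.ZassenhausOdd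

open MulAction

variable {G Ω : Type*} [Group G] [Fintype G] [DecidableEq G] [MulAction G Ω] [Fintype Ω]
  [DecidableEq Ω]

/-- The standing hypotheses: every two-point stabiliser has the odd order `e`. -/
structure Setup (G Ω : Type*) [Group G] [MulAction G Ω] (e : ℕ) : Prop where
  zass : Cfsg.IsZassenhausGroup G Ω
  simple : IsSimpleGroup G
  odd : Odd e
  card_pair : ∀ c d : Ω, c ≠ d → Nat.card ↥(stabilizer G c ⊓ stabilizer G d) = e

theorem Setup.mk' (hZ : Cfsg.IsZassenhausGroup G Ω) [hs : IsSimpleGroup G] {a b : Ω} (hab : a ≠ b)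
    {e : ℕ} (he : Nat.card ↥(stabilizer G a ⊓ stabilizer G b) = e) (hodd : Odd e) : Setup G Ω e := by
  refine ⟨hZ, hs, hodd, fun c d hcd => ?_⟩
  rw [← he]
  obtain ⟨g, hga, hgb⟩ := Zassenhaus.two_transitive hZ hab hcd
  refine Nat.card_congr
    { toFun := fun x => ⟨g⁻¹ * x * g, ?_⟩
      invFun := fun x => ⟨g * x * g⁻¹, ?_⟩
      left_inv := fun x => Subtype.ext (by simp [mul_assoc])
      right_inv := fun x => Subtype.ext (by simp [mul_assoc]) }
  · obtain ⟨h1, h2⟩ := Subgroup.mem_inf.1 x.2
    rw [mem_stabilizer_iff] at h1 h2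
    refine Subgroup.mem_inf.2 ⟨?_, ?_⟩ <;> rw [mem_stabilizer_iff, mul_smul, mul_smul, inv_smul_eq_iff]
    · rw [hga, h1]
    · rw [hgb, h2]
  · obtain ⟨h1, h2⟩ := Subgroup.mem_inf.1 x.2
    rw [mem_stabilizer_iff] at h1 h2
    refine Subgroup.mem_inf.2 ⟨?_, ?_⟩ <;> rw [mem_stabilizer_iff, mul_smul, mul_smul]
    · rw [← hga, inv_smul_smul, h1]
    · rw [← hgb, inv_smul_smul, h2]

variable {e : ℕ} (S : Setup G Ω e)

include S

theorem Setup.exists_pair : ∃ a b : Ω, a ≠ b := by
  obtain ⟨-, -, a, b, hab, -, -⟩ := S.zass.2.2.2.1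
  exact ⟨a, b, hab⟩

theorem Setup.three_le : 3 ≤ e := by
  obtain ⟨a, b, hab⟩ := S.exists_pair
  obtain ⟨x, hx1, hxa, hxb⟩ := Zassenhaus.exists_fix_two S.zass hab
  have h1 : e ≠ 1 := fun h => hx1 (Subgroup.mem_bot.1
    (Subgroup.eq_bot_of_card_eq _ ((S.card_pair a b hab).trans h) ▸
      (Subgroup.mem_inf.2 ⟨hxa, hxb⟩ : x ∈ stabilizer G a ⊓ stabilizer G b)))
  obtain ⟨m, hm⟩ := S.odd
  omega

omit [DecidableEq G] [Fintype Ω] [DecidableEq Ω] S [Fintype G] in
theorem sq_eq_one {x : G} (hx : orderOf x = 2) : x * x = 1 := by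
  rw [← pow_two, ← hx, pow_orderOf_eq_one]

omit [DecidableEq G] [Fintype Ω] [DecidableEq Ω] S [Fintype G] in
theorem swap_back {x : G} (hx : orderOf x = 2) {c d : Ω} (h : x • c = d) : x • d = c := by
  rw [← h, ← mul_smul, sq_eq_one hx, one_smul]

/-- An involution fixes at most one point. -/
theorem Setup.fixed_unique {x : G} (hx : orderOf x = 2) {c d : Ω} (hc : x • c = c)
    (hd : x • d = d) : c = d := by
  by_contra hcd
  have hmem : x ∈ stabilizer G c ⊓ stabilizer G d := Subgroup.mem_inf.2 ⟨hc, hd⟩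
  have h := Subgroup.orderOf_dvd_natCard _ hmem
  rw [hx, S.card_pair c d hcd] at h
  exact Nat.not_even_iff_odd.2 S.odd (even_iff_two_dvd.2 h)

theorem Setup.inverts {c d : Ω} (hcd : c ≠ d) {s x : G} (hsc : s • c = d) (hsd : s • d = c)
    (hxc : x • c = c) (hxd : x • d = d) : s * x * s⁻¹ = x⁻¹ :=
  haveI := S.simple
  ZassenhausOdd.inverts S.zass hcd (by rw [S.card_pair c d hcd]; exact S.odd) hsc hsd
    (Subgroup.mem_inf.2 ⟨hxc, hxd⟩)

/-- Every element interchanging two points is an involution. -/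
theorem Setup.orderOf_swap {c d : Ω} (hcd : c ≠ d) {s : G} (hsc : s • c = d) (hsd : s • d = c) :
    orderOf s = 2 := by
  have h1 : (s * s) • c = c := by rw [mul_smul, hsc, hsd]
  have h2 : (s * s) • d = d := by rw [mul_smul, hsd, hsc]
  have h3 := S.inverts hcd hsc hsd h1 h2
  have h4 : (s * s) * (s * s) = 1 := by
    rw [show s * (s * s) * s⁻¹ = s * s by group] at h3
    exact mul_eq_one_iff_eq_inv.2 h3
  have h5 : s * s = 1 := by
    by_contra hne
    have h := Subgroup.orderOf_dvd_natCard (stabilizer G c ⊓ stabilizer G d)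
      (Subgroup.mem_inf.2 ⟨h1, h2⟩ : s * s ∈ stabilizer G c ⊓ stabilizer G d)
    rw [orderOf_eq_prime (p := 2) (by rw [pow_two]; exact h4) hne, S.card_pair c d hcd] at h
    exact Nat.not_even_iff_odd.2 S.odd (even_iff_two_dvd.2 h)
  exact orderOf_eq_prime (by rw [pow_two]; exact h5) fun h => hcd (by rw [← hsc, h, one_smul])

omit S in
/-- The involutions. -/
def invols (G : Type*) [Group G] [Fintype G] [DecidableEq G] : Finset G :=
  Finset.univ.filter fun x => x ≠ 1 ∧ x * x = 1

omit S in
theorem mem_invols {x : G} : x ∈ invols G ↔ orderOf x = 2 := by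
  simp only [invols, Finset.mem_filter, Finset.mem_univ, true_and]
  refine ⟨fun h => orderOf_eq_prime (by rw [pow_two]; exact h.2) h.1, fun h => ⟨?_, sq_eq_one h⟩⟩
  intro h1
  rw [h1, orderOf_one] at h
  omega

/-- Two points are interchanged by exactly `e` involutions. -/
theorem Setup.card_swap {c d : Ω} (hcd : c ≠ d) :
    ((invols G).filter fun y => y • c = d).card = e := by
  obtain ⟨s, hsc, hsd⟩ := Zassenhaus.two_transitive S.zass hcd hcd.symm
  rw [← Nat.card_eq_finsetCard, ← S.card_pair c d hcd]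
  have hmem : ∀ x : ↥(stabilizer G c ⊓ stabilizer G d),
      s * (x : G) ∈ (invols G).filter fun y => y • c = d := fun x => by
    obtain ⟨h1, h2⟩ := Subgroup.mem_inf.1 x.2
    refine Finset.mem_filter.2 ⟨mem_invols.2 (S.orderOf_swap hcd ?_ ?_), ?_⟩ <;> rw [mul_smul]
    · rw [mem_stabilizer_iff.1 h1, hsc]
    · rw [mem_stabilizer_iff.1 h2, hsd]
    · rw [mem_stabilizer_iff.1 h1, hsc]
  refine (Nat.card_eq_of_bijective (fun x => ⟨_, hmem x⟩) ⟨fun x y h => ?_, fun y => ?_⟩).symm
  · exact Subtype.ext (mul_left_cancel (congrArg Subtype.val h))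
  · obtain ⟨hy, hyc⟩ := Finset.mem_filter.1 y.2
    have hyd := swap_back (mem_invols.1 hy) hyc
    refine ⟨⟨s⁻¹ * y, Subgroup.mem_inf.2 ⟨?_, ?_⟩⟩, Subtype.ext (mul_inv_cancel_left s (y : G))⟩ <;>
      rw [mem_stabilizer_iff, mul_smul, inv_smul_eq_iff]
    · rw [hyc, hsc]
    · rw [hyd, hsd]

/-- All involutions are conjugate. -/
theorem Setup.isConj {x y : G} (hx : orderOf x = 2) (hy : orderOf y = 2) : IsConj x y := by
  haveI := S.zass.1
  have hmove : ∀ z : G, orderOf z = 2 → ∃ u : Ω, z • u ≠ u := fun z hz => by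
    by_contra h
    push Not at h
    have h1 : z = 1 := FaithfulSMul.eq_of_smul_eq_smul (α := Ω) fun u => by rw [h, one_smul]
    rw [h1, orderOf_one] at hz
    omega
  obtain ⟨u, hu⟩ := hmove x hx
  obtain ⟨v, hv⟩ := hmove y hy
  obtain ⟨g, hgu, hgv⟩ := Zassenhaus.two_transitive S.zass hu.symm hv.symm
  set z := g * x * g⁻¹ with hz
  have hzv : z • v = y • v := by rw [hz, mul_smul, mul_smul, ← hgu, inv_smul_smul, hgv, hgu]
  have hzo : orderOf z = 2 := by rw [hz, ← MulAut.conj_apply, MulEquiv.orderOf_eq, hx]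
  have hzv' := swap_back hzo hzv
  -- `z⁻¹ * y` is a square in the two-point stabiliser
  set w := z⁻¹ * y with hw
  have hwv : w • v = v := by rw [hw, mul_smul, inv_smul_eq_iff, hzv]
  have hwv' : w • (y • v) = y • v := by
    rw [hw, mul_smul, swap_back hy rfl, inv_smul_eq_iff, hzv']
  have hwo : Odd (orderOf w) := S.odd.of_dvd_nat (S.card_pair v (y • v) hv.symm ▸
    Subgroup.orderOf_dvd_natCard _ (Subgroup.mem_inf.2 ⟨hwv, hwv'⟩))
  obtain ⟨m, hm⟩ := hwo
  set q := w ^ (m + 1) with hq
  have hq2 : q * q = w := by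
    rw [hq, ← pow_add, show m + 1 + (m + 1) = (2 * m + 1) + 1 by omega, pow_succ, ← hm,
      pow_orderOf_eq_one, one_mul]
  have hqv : q • v = v := by
    exact mem_stabilizer_iff.1 (pow_mem (mem_stabilizer_iff.2 hwv) _)
  have hqv' : q • (y • v) = y • v := by
    exact mem_stabilizer_iff.1 (pow_mem (mem_stabilizer_iff.2 hwv') _)
  have hinv := S.inverts hv.symm hzv hzv' hqv hqv'
  refine IsConj.trans (isConj_iff.2 ⟨g, rfl⟩) (isConj_iff.2 ⟨q⁻¹, ?_⟩)
  rw [inv_inv, ← hinv]
  calc z * q * z⁻¹ * z * q = z * (q * q) := by group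
    _ = y := by rw [hq2, hw, mul_inv_cancel_left]

/-- The number of fixed points of an involution is the parity of the number of points. -/
theorem Setup.card_fix {x : G} (hx : x ∈ invols G) :
    (Finset.univ.filter fun c : Ω => x • c = c).card = Fintype.card Ω % 2 := by
  have h1 := CfsgLib.Perm.Zassenhaus.fixedBy_parity (Ω := Ω) (sq_eq_one (mem_invols.1 hx))
  rw [Nat.card_coe_set_eq, Set.ncard_eq_toFinset_card'] at h1
  rw [show (MulAction.fixedBy Ω x).toFinset = Finset.univ.filter fun c : Ω => x • c = c by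
    ext c; simp [MulAction.mem_fixedBy]] at h1
  have h2 : (Finset.univ.filter fun c : Ω => x • c = c).card ≤ 1 :=
    Finset.card_le_one.2 fun c hc d hd =>
      S.fixed_unique (mem_invols.1 hx) (Finset.mem_filter.1 hc).2 (Finset.mem_filter.1 hd).2
  omega

/-- Double count of the pairs interchanged by involutions. -/
theorem Setup.card_invols_mul :
    (invols G).card * (Fintype.card Ω - Fintype.card Ω % 2) =
      Fintype.card Ω * (Fintype.card Ω - 1) * e := by
  set P := (Finset.univ : Finset Ω).offDiag with hP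
  have hPc : P.card = Fintype.card Ω * (Fintype.card Ω - 1) := by
    rw [hP, Finset.offDiag_card, Finset.card_univ, Nat.mul_sub_one]
  have key := Finset.sum_card_bipartiteAbove_eq_sum_card_bipartiteBelow
    (s := invols G) (t := P) (fun (x : G) (p : Ω × Ω) => x • p.1 = p.2)
  rw [Finset.sum_congr rfl (g := fun _ => Fintype.card Ω - Fintype.card Ω % 2),
    Finset.sum_congr (s₁ := P) rfl (g := fun _ => e), Finset.sum_const, Finset.sum_const,
    smul_eq_mul, smul_eq_mul, hPc] at key
  · exact key
  · rintro ⟨c, d⟩ hp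
    exact S.card_swap (by simpa [hP] using hp)
  · intro x hx
    rw [← S.card_fix hx, ← Finset.card_compl]
    refine Finset.card_bij (fun p _ => p.1) ?_ ?_ ?_
    · intro p hp
      simp only [Finset.bipartiteAbove, Finset.mem_filter, hP, Finset.mem_offDiag, Finset.mem_univ,
        true_and, Finset.mem_compl] at hp ⊢
      exact fun h => hp.1 (h.symm.trans hp.2)
    · intro p hp q hq h
      simp only [Finset.bipartiteAbove, Finset.mem_filter] at hp hq
      exact Prod.ext h (by rw [← hp.2, ← hq.2, h])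
    · intro c hc
      simp only [Finset.mem_filter, Finset.mem_compl, Finset.mem_univ, true_and] at hc
      exact ⟨(c, x • c), by simp [Finset.bipartiteAbove, hP, Ne.symm hc], rfl⟩

/-- The number of involutions fixing a point. -/
theorem Setup.card_fixing (c : Ω) :
    ((invols G).filter fun y => y • c = c).card = if Odd (Fintype.card Ω) then e else 0 := by
  have hconst : ∀ d : Ω, ((invols G).filter fun y => y • d = d).card =
      ((invols G).filter fun y => y • c = c).card := by
    intro d
    by_cases hcd : d = c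
    · rw [hcd]
    obtain ⟨g, hgd, hgc⟩ := Zassenhaus.two_transitive S.zass hcd (Ne.symm hcd)
    refine Finset.card_bij (fun y _ => g * y * g⁻¹) ?_ (fun y _ z _ h => by simpa using h) ?_
    · intro y hy
      obtain ⟨hy1, hy2⟩ := Finset.mem_filter.1 hy
      refine Finset.mem_filter.2 ⟨mem_invols.2 ?_, ?_⟩
      · rw [← MulAut.conj_apply, MulEquiv.orderOf_eq, mem_invols.1 hy1]
      · rw [mul_smul, mul_smul, ← hgd, inv_smul_smul, hy2]
    · intro y hy
      obtain ⟨hy1, hy2⟩ := Finset.mem_filter.1 hy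
      refine ⟨g⁻¹ * y * g⁻¹⁻¹, Finset.mem_filter.2 ⟨mem_invols.2 ?_, ?_⟩, by simp [mul_assoc]⟩
      · rw [← MulAut.conj_apply, MulEquiv.orderOf_eq, mem_invols.1 hy1]
      · rw [mul_smul, mul_smul, inv_inv, hgd, hy2, inv_smul_eq_iff, hgd]
  have key := Finset.sum_card_bipartiteAbove_eq_sum_card_bipartiteBelow
    (s := invols G) (t := (Finset.univ : Finset Ω)) (fun (x : G) (c : Ω) => x • c = c)
  simp only [Finset.bipartiteAbove, Finset.bipartiteBelow] at key
  rw [Finset.sum_congr rfl (g := fun _ => Fintype.card Ω % 2) fun x hx => S.card_fix hx,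
    Finset.sum_congr (s₁ := Finset.univ) rfl
      (g := fun _ => ((invols G).filter fun y => y • c = c).card) fun d _ => hconst d,
    Finset.sum_const, Finset.sum_const, smul_eq_mul, smul_eq_mul, Finset.card_univ] at key
  have hn : 2 < Fintype.card Ω := Perm.Zassenhaus.card_ge_three S.zass
  rcases Nat.even_or_odd (Fintype.card Ω) with hev | hod
  · rw [if_neg (Nat.not_odd_iff_even.2 hev)]
    rw [Nat.even_iff.1 hev, mul_zero] at key
    rcases Nat.mul_eq_zero.1 key.symm with h | h
    · omega
    · exact h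
  · rw [if_pos hod]
    have h1 := S.card_invols_mul
    rw [Nat.odd_iff.1 hod] at h1 key
    have h2 : (invols G).card = Fintype.card Ω * e := by
      refine Nat.eq_of_mul_eq_mul_right (show 0 < Fintype.card Ω - 1 by omega) ?_
      rw [h1]; ring
    rw [mul_one, h2] at key
    exact (Nat.eq_of_mul_eq_mul_left (by omega) key).symm

/-- The pairs of involutions with fixed point free product. -/
theorem Setup.two_mul_good {x : G} (hx : x ∈ invols G) :
    2 * (invols G).card ≤
      2 * ((invols G).filter fun y => ∀ c : Ω, y • c ≠ x • c).card + 2 +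
        (e - 1) * (Fintype.card Ω + Fintype.card Ω % 2) := by
  set A := (invols G).filter fun y => ∀ c : Ω, y • c ≠ x • c with hA
  set B := (invols G).filter fun y => y ≠ x ∧ ∃ c : Ω, y • c = x • c with hB
  have hle : (invols G).card ≤ A.card + B.card + 1 := by
    have hsub : invols G ⊆ A ∪ B ∪ {x} := fun y hy => by
      by_cases h : ∃ c : Ω, y • c = x • c
      · by_cases hyx : y = x
        · simp [hyx]
        · simp [hB, hy, hyx, h]
      · push Not at h
        simp [hA, hy, h]
    refine (Finset.card_le_card hsub).trans ((Finset.card_union_le _ _).trans ?_)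
    rw [Finset.card_singleton]
    exact Nat.add_le_add_right (Finset.card_union_le _ _) 1
  let w : Ω → ℕ := fun c => if x • c = c then 2 else 1
  have hB2 : 2 * B.card ≤ ∑ y ∈ B, ∑ c : Ω, if y • c = x • c then w c else 0 := by
    rw [mul_comm, ← smul_eq_mul, ← Finset.sum_const]
    refine Finset.sum_le_sum fun y hy => ?_
    obtain ⟨hy, -, c, hc⟩ := Finset.mem_filter.1 hy
    by_cases hxc : x • c = c
    · refine le_trans (le_of_eq ?_)
        (Finset.single_le_sum (f := fun c => if y • c = x • c then w c else 0)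
          (fun _ _ => Nat.zero_le _) (Finset.mem_univ c))
      rw [if_pos hc]
      simp [w, hxc]
    · set d := x • c with hd
      have hdc := swap_back (mem_invols.1 hx) hd.symm
      have hd' : y • d = x • d := by rw [hdc]; exact swap_back (mem_invols.1 hy) hc
      refine le_trans ?_ (Finset.add_le_sum (f := fun c => if y • c = x • c then w c else 0)
        (fun _ _ => Nat.zero_le _) (Finset.mem_univ c) (Finset.mem_univ d) (Ne.symm hxc))
      have h1 : 1 ≤ w c := by simp only [w]; split_ifs <;> omega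
      have h2 : 1 ≤ w d := by simp only [w]; split_ifs <;> omega
      simp only [if_pos hd', if_pos (show y • c = x • c from hc)]
      omega
  have hcol : ∀ c : Ω, (B.filter fun y => y • c = x • c).card ≤ e - 1 := by
    intro c
    have hsub : B.filter (fun y => y • c = x • c) ⊆
        ((invols G).filter fun y => y • c = x • c).erase x := fun y hy => by
      simp only [hB, Finset.mem_filter] at hy
      exact Finset.mem_erase.2 ⟨hy.1.2.1, Finset.mem_filter.2 ⟨hy.1.1, hy.2⟩⟩
    refine (Finset.card_le_card hsub).trans ?_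
    rw [Finset.card_erase_of_mem (Finset.mem_filter.2 ⟨hx, rfl⟩ : x ∈ (invols G).filter fun y => y • c = x • c)]
    refine Nat.sub_le_sub_right ?_ 1
    by_cases hc : x • c = c
    · rw [hc, S.card_fixing]
      split_ifs <;> omega
    · rw [S.card_swap (Ne.symm hc)]
  have hsum : ∑ c : Ω, w c = Fintype.card Ω + Fintype.card Ω % 2 := by
    rw [← S.card_fix hx, Finset.card_filter, ← Finset.card_univ, Finset.card_eq_sum_ones,
      ← Finset.sum_add_distrib]
    refine Finset.sum_congr rfl fun c _ => ?_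
    simp only [w]
    split_ifs <;> rfl
  have hB3 : ∑ y ∈ B, ∑ c : Ω, (if y • c = x • c then w c else 0) ≤
      (e - 1) * (Fintype.card Ω + Fintype.card Ω % 2) := by
    rw [Finset.sum_comm, ← hsum, Finset.mul_sum]
    refine Finset.sum_le_sum fun c _ => ?_
    rw [← Finset.sum_filter, Finset.sum_const, smul_eq_mul]
    exact Nat.mul_le_mul_right _ (hcol c)
  omega

omit S [Fintype Ω] in
/-- The sum of the centraliser orders over a class is the group order. -/
theorem sum_centralizer_class (C : ConjClasses G) :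
    ∑ g ∈ Finset.univ.filter (fun g => ConjClasses.mk g = C),
      Nat.card (Subgroup.centralizer ({g} : Set G)) = Nat.card G := by
  classical
  obtain ⟨g₀, rfl⟩ := C.exists_rep
  have horb : Finset.univ.filter (fun g => ConjClasses.mk g = ConjClasses.mk g₀) =
      (MulAction.orbit (ConjAct G) g₀).toFinset := by
    ext g
    simp [ConjAct.orbit_eq_carrier_conjClasses, ConjClasses.mem_carrier_iff_mk_eq]
  have hconst : ∀ g ∈ Finset.univ.filter (fun g => ConjClasses.mk g = ConjClasses.mk g₀),
      Nat.card (Subgroup.centralizer ({g} : Set G)) =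
        Nat.card (MulAction.stabilizer (ConjAct G) g₀) := by
    intro g hg
    rw [Subgroup.nat_card_centralizer_nat_card_stabilizer]
    rw [horb, Set.mem_toFinset] at hg
    obtain ⟨k, hk⟩ := hg
    exact Nat.card_congr (MulAction.stabilizerEquivStabilizer hk.symm).toEquiv.symm
  rw [Finset.sum_congr rfl hconst, Finset.sum_const, smul_eq_mul, horb, Set.toFinset_card,
    ← Nat.card_eq_fintype_card, ← Nat.card_prod,
    Nat.card_congr (MulAction.orbitProdStabilizerEquivGroup (ConjAct G) g₀)]
  rfl

/-- At least `(e + 1) / 2` classes consist of fixed point free elements. -/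
theorem Setup.card_fpf_classes (hlt : e + 2 < Fintype.card Ω) :
    e < 2 * Nat.card {C : ConjClasses G // ∀ g, ConjClasses.mk g = C → ∀ c : Ω, g • c ≠ c} := by
  classical
  set F : Finset (ConjClasses G) :=
    Finset.univ.filter fun C => ∀ g, ConjClasses.mk g = C → ∀ c : Ω, g • c ≠ c with hF
  have hFc : Nat.card {C : ConjClasses G // ∀ g, ConjClasses.mk g = C → ∀ c : Ω, g • c ≠ c} = F.card := by
    rw [hF, Nat.card_eq_fintype_card, Fintype.card_subtype]
  rw [hFc]
  set I := invols G with hI
  set P := I.sigma fun x => I.filter fun y => ∀ c : Ω, y • c ≠ x • c with hP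
  set T := (Finset.univ : Finset G).filter fun g => ∀ c : Ω, g • c ≠ c with hT
  have hfpf_conj : ∀ {g g' : G}, IsConj g g' → (∀ c : Ω, g • c ≠ c) → ∀ c : Ω, g' • c ≠ c := by
    intro g g' hgg hg c h
    obtain ⟨k, rfl⟩ := isConj_iff.1 hgg
    rw [mul_smul, mul_smul, ← eq_inv_smul_iff] at h
    exact hg _ h
  have hup : P.card ≤ F.card * Nat.card G := by
    have hmap : ∀ p ∈ P, p.1⁻¹ * p.2 ∈ T := by
      rintro ⟨x, y⟩ hp
      obtain ⟨hx, hy⟩ := Finset.mem_sigma.1 hp
      refine Finset.mem_filter.2 ⟨Finset.mem_univ _, fun c h => (Finset.mem_filter.1 hy).2 c ?_⟩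
      rwa [mul_smul, inv_smul_eq_iff] at h
    rw [Finset.card_eq_sum_card_fiberwise hmap]
    have hfib : ∀ g ∈ T, (P.filter fun p => p.1⁻¹ * p.2 = g).card ≤
        Nat.card (Subgroup.centralizer ({g} : Set G)) := by
      intro g _
      rcases (P.filter fun p => p.1⁻¹ * p.2 = g).eq_empty_or_nonempty with h | ⟨p₀, hp₀⟩
      · rw [h]; simp
      have hinv : ∀ p ∈ P.filter (fun p => p.1⁻¹ * p.2 = g), p.1 * g * p.1⁻¹ = g⁻¹ := by
        rintro ⟨x, y⟩ hp
        obtain ⟨hp, hg⟩ := Finset.mem_filter.1 hp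
        obtain ⟨hx, hy⟩ := Finset.mem_sigma.1 hp
        have hx2 : x⁻¹ = x := inv_eq_of_mul_eq_one_right (sq_eq_one (mem_invols.1 hx))
        have hy2 : y⁻¹ = y :=
          inv_eq_of_mul_eq_one_right (sq_eq_one (mem_invols.1 (Finset.mem_filter.1 hy).1))
        simp only at hg ⊢
        rw [← hg, mul_inv_cancel_left, mul_inv_rev, inv_inv, hy2, hx2]
      rw [Nat.card_eq_fintype_card,
        show Fintype.card (Subgroup.centralizer ({g} : Set G)) =
          (Finset.univ.filter fun z : G => z ∈ Subgroup.centralizer ({g} : Set G)).card from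
          Fintype.card_subtype _]
      refine Finset.card_le_card_of_injOn (fun p => p₀.1⁻¹ * p.1) ?_ ?_
      · intro p hp
        refine Finset.mem_filter.2 ⟨Finset.mem_univ _, Subgroup.mem_centralizer_singleton_iff.2 ?_⟩
        have h1 := hinv p hp
        have h2 := hinv p₀ hp₀
        calc p₀.1⁻¹ * p.1 * g = p₀.1⁻¹ * (p.1 * g * p.1⁻¹) * p.1 := by group
          _ = p₀.1⁻¹ * (p₀.1 * g * p₀.1⁻¹) * p.1 := by rw [h1, h2]
          _ = g * (p₀.1⁻¹ * p.1) := by group
      · intro p hp q hq h
        have h1 : p.1 = q.1 := mul_left_cancel h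
        have hp' := (Finset.mem_filter.1 hp).2
        have hq' := (Finset.mem_filter.1 hq).2
        rw [← hq', h1] at hp'
        exact Sigma.ext h1 (heq_of_eq (mul_left_cancel hp'))
    refine (Finset.sum_le_sum hfib).trans (le_of_eq ?_)
    have hmaps : ∀ g ∈ T, ConjClasses.mk g ∈ F := fun g hg => by
      refine Finset.mem_filter.2 ⟨Finset.mem_univ _, fun g' h => ?_⟩
      exact hfpf_conj (ConjClasses.mk_eq_mk_iff_isConj.1 h.symm) (Finset.mem_filter.1 hg).2
    rw [← Finset.sum_fiberwise_of_maps_to hmaps, ← smul_eq_mul, ← Finset.sum_const]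
    refine Finset.sum_congr rfl fun C hC => ?_
    rw [← sum_centralizer_class C]
    refine Finset.sum_congr ?_ fun _ _ => rfl
    ext g
    simp only [hT, Finset.mem_filter, Finset.mem_univ, true_and, and_iff_right_iff_imp]
    exact fun h => (Finset.mem_filter.1 hC).2 g h
  have hlow : I.card * (2 * I.card) ≤
      2 * P.card + I.card * (2 + (e - 1) * (Fintype.card Ω + Fintype.card Ω % 2)) := by
    rw [hP, Finset.card_sigma, Finset.mul_sum, ← smul_eq_mul, ← Finset.sum_const,
      ← smul_eq_mul I.card, ← Finset.sum_const, ← Finset.sum_add_distrib]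
    exact Finset.sum_le_sum fun x hx => by have h := S.two_mul_good hx; rw [← hI] at h; omega
  obtain ⟨a, b, hab⟩ := S.exists_pair
  haveI : Finite G := inferInstance
  obtain ⟨Q, hQle, -, hQfix, -, -, hQcard, -⟩ := CfsgLib.Zassenhaus.exists_kernel S.zass a
  have hM := Zassenhaus.card_stabilizer hQle hQcard hQfix hab.symm
  rw [S.card_pair a b hab] at hM
  haveI := S.zass.2.1
  haveI : IsPretransitive G Ω := MulAction.isPretransitive_of_is_two_pretransitive
  have hG : Nat.card G = Fintype.card Ω * ((Fintype.card Ω - 1) * e) := by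
    rw [← (stabilizer G a).index_mul_card, hM, index_stabilizer_of_transitive,
      ← Nat.card_eq_fintype_card, ← hQcard, Nat.add_sub_cancel]
  have hI1 := S.card_invols_mul
  rw [← hI] at hI1
  have he3 := S.three_le
  obtain ⟨n, hn⟩ : ∃ n, Fintype.card Ω = n + 1 := ⟨Fintype.card Ω - 1, by omega⟩
  obtain ⟨e', he'⟩ : ∃ e', e = e' + 1 := ⟨e - 1, by omega⟩
  rw [hn] at hI1 hlow hG
  rw [Nat.add_sub_cancel] at hI1 hG
  rcases Nat.even_or_odd n with hev | hod
  · have hpar : (n + 1) % 2 = 1 := by rw [Nat.add_mod, Nat.even_iff.1 hev]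
    rw [hpar, Nat.add_sub_cancel] at hI1
    rw [hpar] at hlow
    have hIc : I.card = (n + 1) * e :=
      Nat.eq_of_mul_eq_mul_right (show 0 < n by omega) (by rw [hI1]; ring)
    rw [he', Nat.add_sub_cancel] at hlow
    rw [hIc, he'] at hlow
    rw [hG, he'] at hup
    by_contra hcon
    push Not at hcon
    have h2 : 2 * P.card ≤ e' * ((n + 1) * (n * (e' + 1))) := by
      have h3 : 2 * F.card ≤ e' := by
        obtain ⟨k, hk⟩ := S.odd
        omega
      calc 2 * P.card ≤ 2 * (F.card * ((n + 1) * (n * (e' + 1)))) := Nat.mul_le_mul_left 2 hup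
        _ = 2 * F.card * ((n + 1) * (n * (e' + 1))) := (mul_assoc _ _ _).symm
        _ ≤ e' * ((n + 1) * (n * (e' + 1))) := Nat.mul_le_mul_right _ h3
    have h5 : (n + 1) * (e' + 1) * (2 * ((n + 1) * (e' + 1))) ≤
        (n + 1) * (e' + 1) * (2 + e' * (n + 1 + 1) + e' * n) :=
      calc _ ≤ _ := hlow
        _ ≤ e' * ((n + 1) * (n * (e' + 1))) + (n + 1) * (e' + 1) * (2 + e' * (n + 1 + 1)) :=
          Nat.add_le_add_right h2 _
        _ = _ := by ring
    have h6 := Nat.le_of_mul_le_mul_left h5 (by positivity)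
    nlinarith
  · have hpar : (n + 1) % 2 = 0 := by rw [Nat.add_mod, Nat.odd_iff.1 hod]
    rw [hpar, Nat.sub_zero] at hI1
    rw [hpar] at hlow
    have hIc : I.card = n * e :=
      Nat.eq_of_mul_eq_mul_right (show 0 < n + 1 by omega) (by rw [hI1]; ring)
    rw [he', Nat.add_sub_cancel] at hlow
    rw [hIc, he'] at hlow
    rw [hG, he'] at hup
    by_contra hcon
    push Not at hcon
    have h2 : 2 * P.card ≤ e' * ((n + 1) * (n * (e' + 1))) := by
      have h3 : 2 * F.card ≤ e' := by
        obtain ⟨k, hk⟩ := S.odd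
        omega
      calc 2 * P.card ≤ 2 * (F.card * ((n + 1) * (n * (e' + 1)))) := Nat.mul_le_mul_left 2 hup
        _ = 2 * F.card * ((n + 1) * (n * (e' + 1))) := (mul_assoc _ _ _).symm
        _ ≤ e' * ((n + 1) * (n * (e' + 1))) := Nat.mul_le_mul_right _ h3
    have h4 : e' + 2 < n := by omega
    have h5 : n * (e' + 1) * (2 * (n * (e' + 1))) ≤
        n * (e' + 1) * (2 + e' * (n + 1) + e' * (n + 1)) :=
      calc _ ≤ _ := hlow
        _ ≤ e' * ((n + 1) * (n * (e' + 1))) + n * (e' + 1) * (2 + e' * (n + 1 + 0)) :=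
          Nat.add_le_add_right h2 _
        _ = _ := by ring
    have h6 := Nat.le_of_mul_le_mul_left h5 (Nat.mul_pos (by omega) (by omega))
    nlinarith

end CfsgLib.CharactersDeep.ZassenhausOdd
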