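import Cfsg.Agent.CharactersDeep.ZassenhausTransfer
import Cfsg.Agent.Zassenhaus.Even.Main
import Cfsg.Agent.Solvable.FixedPointFree

/-!
# The two-point stabiliser of a simple Zassenhaus group is cyclic
-/

set_option autoImplicit false
set_option linter.style.haveILetI false
set_option linter.unusedSectionVars false

namespace CfsgLib.CharactersDeep.ZassenhausOdd

open MulAction

variable {G Ω : Type*} [Group G] [Finite G] [MulAction G Ω] [Finite Ω]

/-- An abelian two-point stabiliser is cyclic. -/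
theorem isCyclic_pair_of_comm (hZ : Cfsg.IsZassenhausGroup G Ω) {a b : Ω} (hab : a ≠ b)
    (hcomm : ∀ x ∈ stabilizer G a ⊓ stabilizer G b, ∀ y ∈ stabilizer G a ⊓ stabilizer G b,
      x * y = y * x) : IsCyclic ↥(stabilizer G a ⊓ stabilizer G b) := by
  obtain ⟨Q, hQle, hQn, hQfix, -, -, hQcard, -⟩ := CfsgLib.Zassenhaus.exists_kernel hZ a
  set M := stabilizer G a with hM
  set D := stabilizer G a ⊓ stabilizer G b with hD
  haveI : (Q.subgroupOf M).Normal := ⟨fun x hx g => hQn g g.2 x hx⟩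
  have hQ1 : Q.subgroupOf M ≠ ⊥ := by
    intro h
    have h1 := Zassenhaus.one_lt_card_H hZ hQcard
    rw [Subgroup.subgroupOf_eq_bot, disjoint_iff, inf_eq_left.2 hQle] at h
    rw [h, Subgroup.card_bot] at h1
    omega
  have hfpf : ∀ h ∈ D.subgroupOf M, h ≠ 1 →
      Q.subgroupOf M ⊓ Subgroup.centralizer ({h} : Set M) = ⊥ := by
    intro h hh hh1
    rw [Subgroup.eq_bot_iff_forall]
    intro y hy
    obtain ⟨hyQ, hyc⟩ := Subgroup.mem_inf.1 hy
    rw [Subgroup.mem_centralizer_singleton_iff] at hyc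
    obtain ⟨hha, hhb⟩ := Subgroup.mem_inf.1 (Subgroup.mem_subgroupOf.1 hh)
    by_contra hy1
    exact hh1 (Subtype.ext (CfsgLib.Zassenhaus.fpf_kernel hZ hab (hQle hyQ)
      (hQfix _ hyQ fun e => hy1 (Subtype.ext e)) hha hhb (congrArg Subtype.val hyc).symm))
  haveI : IsMulCommutative ↥(D.subgroupOf M) :=
    ⟨⟨fun x y => Subtype.ext (Subtype.ext (hcomm _ x.2 _ y.2))⟩⟩
  haveI := CfsgLib.Solvable.isCyclic_of_fpf_comm hQ1 hfpf (le_refl (D.subgroupOf M))
  exact isCyclic_of_surjective _ (Subgroup.subgroupOfEquivOfLe (inf_le_left : D ≤ M)).surjective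

variable [IsSimpleGroup G]

/-- The two-point stabiliser of a simple Zassenhaus group is cyclic and inverted by a swapping
involution. -/
theorem cyclic_inverted (hZ : Cfsg.IsZassenhausGroup G Ω) {a b : Ω} (hab : a ≠ b) :
    IsCyclic ↥(stabilizer G a ⊓ stabilizer G b) ∧
      ∃ v : G, orderOf v = 2 ∧ v • a = b ∧ v • b = a ∧
        ∀ h ∈ stabilizer G a ⊓ stabilizer G b, v * h * v⁻¹ = h⁻¹ := by
  classical
  haveI := Fintype.ofFinite Ω
  obtain ⟨v, hv2, hva, hvb⟩ := CfsgLib.Perm.Zassenhaus.exists_invol_swap hZ hab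
  rcases Nat.even_or_odd (Nat.card ↥(stabilizer G a ⊓ stabilizer G b)) with heven | hodd
  swap
  · exact ⟨isCyclic_pair_of_comm hZ hab fun x hx y hy => comm hZ hab hodd hx hy, v, hv2, hva, hvb,
      fun h hh => inverts hZ hab hodd hva hvb hh⟩
  obtain ⟨K, fK, fFin, hKodd, hK5, hK, ⟨e⟩⟩ :=
    CfsgLib.Zassenhaus.Even.exists_equiv_of_simple hZ hab heven
  obtain ⟨Q, hQle, -, hQfix, -, -, hQcard, -⟩ := CfsgLib.Zassenhaus.exists_kernel hZ a
  haveI := hZ.2.1
  haveI : IsPretransitive G Ω := isPretransitive_of_is_two_pretransitive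
  have hG : Nat.card G = Nat.card Ω * (Nat.card Q *
      Nat.card ↥(stabilizer G a ⊓ stabilizer G b)) := by
    rw [← Zassenhaus.card_stabilizer hQle hQcard hQfix hab.symm,
      ← index_stabilizer_of_transitive G a, Subgroup.index_mul_card]
  have hP := CfsgLib.Linear.card_PSL_two_odd (F := K) hKodd
  rw [← Nat.card_congr e.toEquiv, hG] at hP
  have hQK : Nat.card Q = Fintype.card K := by omega
  rw [hK, hQK, show Fintype.card K ^ 2 - 1 = (Fintype.card K + 1) * (Fintype.card K - 1) by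
    rw [← one_pow 2, Nat.sq_sub_sq]; simp] at hP
  have hd : 2 * Nat.card ↥(stabilizer G a ⊓ stabilizer G b) = Fintype.card K - 1 := by
    refine Nat.eq_of_mul_eq_mul_left (show 0 < (Fintype.card K + 1) * Fintype.card K by
      exact Nat.mul_pos (by omega) (by omega)) ?_
    calc (Fintype.card K + 1) * Fintype.card K * (2 * Nat.card ↥(stabilizer G a ⊓ stabilizer G b))
        = 2 * ((Fintype.card K + 1) *
            (Fintype.card K * Nat.card ↥(stabilizer G a ⊓ stabilizer G b))) := by ring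
      _ = Fintype.card K * ((Fintype.card K + 1) * (Fintype.card K - 1)) := hP
      _ = _ := by ring
  obtain ⟨-, hswap⟩ := CfsgLib.Classification.PSLTwoGeneral.swap_sq_eq_one hZ hab heven (by
    rw [Nat.card_eq_fintype_card (α := Ω)] at hK
    omega)
  have hvv := hswap v hva hvb
  have hinv : ∀ h ∈ stabilizer G a ⊓ stabilizer G b, v * h * v⁻¹ = h⁻¹ := fun h hh => by
    obtain ⟨hha, hhb⟩ := Subgroup.mem_inf.1 hh
    have h1 := hswap (v * h) (by rw [mul_smul, mem_stabilizer_iff.1 hha, hva])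
      (by rw [mul_smul, mem_stabilizer_iff.1 hhb, hvb])
    rw [inv_eq_of_mul_eq_one_right hvv]
    exact eq_inv_of_mul_eq_one_left (by rw [← h1]; group)
  refine ⟨isCyclic_pair_of_comm hZ hab fun x hx y hy => ?_, v, hv2, hva, hvb, hinv⟩
  have h1 := hinv _ (mul_mem hx hy)
  rw [← conj_mul, hinv _ hx, hinv _ hy, ← mul_inv_rev] at h1
  exact (inv_injective h1).symm

end CfsgLib.CharactersDeep.ZassenhausOdd
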