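import Cfsg.Agent.Classification.PSLTwoGeneral.ZassenhausAbelian
import Cfsg.Agent.NilpotentCover.Basic

/-!
# The kernel of a Zassenhaus group with large two-point stabiliser is elementary abelian
-/

set_option autoImplicit false
set_option linter.style.haveILetI false
set_option linter.unusedSectionVars false

namespace CfsgLib.CharactersDeep.ZassenhausElementary

open MulAction

variable {G Ω : Type*} [Group G] [Finite G] [MulAction G Ω] [Fintype Ω]

/-- A non-empty set of non-identity kernel elements invariant under the two-point stabiliser has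
at least as many elements as that stabiliser. -/
theorem card_le_invariant (hZ : Cfsg.IsZassenhausGroup G Ω) {a b : Ω} (hab : a ≠ b) {Q : Subgroup G}
    (hQle : Q ≤ stabilizer G a)
    (hQn : ∀ h ∈ stabilizer G a, ∀ x ∈ Q, h * x * h⁻¹ ∈ Q)
    (hQfix : ∀ x ∈ Q, x ≠ 1 → ∀ c : Ω, x • c = c → c = a) {P : Q → Prop}
    (hP : ∀ d : G, ∀ hd : d ∈ stabilizer G a, d ∈ stabilizer G b → ∀ u : Q, P u →
      P ⟨d * u * d⁻¹, hQn d hd u u.2⟩)
    {u : Q} (hu : P u) (hu1 : u ≠ 1) :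
    Nat.card ↥(stabilizer G a ⊓ stabilizer G b) ≤ Nat.card {v : Q // P v ∧ v ≠ 1} := by
  let f : ↥(stabilizer G a ⊓ stabilizer G b) → {v : Q // P v ∧ v ≠ 1} := fun d =>
    ⟨⟨(d : G) * u * (d : G)⁻¹, hQn d (Subgroup.mem_inf.1 d.2).1 u u.2⟩,
      hP d (Subgroup.mem_inf.1 d.2).1 (Subgroup.mem_inf.1 d.2).2 u hu,
      fun h => hu1 (Subtype.ext (conj_eq_one_iff.1 (congrArg Subtype.val h)))⟩
  refine Nat.card_le_card_of_injective f fun d e h => ?_
  have h' : (d : G) * u * (d : G)⁻¹ = (e : G) * u * (e : G)⁻¹ :=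
    congrArg (fun v : {v : Q // P v ∧ v ≠ 1} => ((v.1 : Q) : G)) h
  have hm : (e : G)⁻¹ * d ∈ stabilizer G a ⊓ stabilizer G b := mul_mem (inv_mem e.2) d.2
  have h1 : (e : G)⁻¹ * d * u = u * ((e : G)⁻¹ * d) := by
    calc (e : G)⁻¹ * d * u = (e : G)⁻¹ * ((d : G) * u * (d : G)⁻¹) * d := by group
      _ = (e : G)⁻¹ * ((e : G) * u * (e : G)⁻¹) * d := by rw [h']
      _ = _ := by group
  exact Subtype.ext (inv_mul_eq_one.1 (CfsgLib.Zassenhaus.fpf_kernel hZ hab (hQle u.2)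
    (hQfix u u.2 fun h => hu1 (Subtype.ext h)) (Subgroup.mem_inf.1 hm).1
    (Subgroup.mem_inf.1 hm).2 h1)).symm

/-- With a large two-point stabiliser an invariant subgroup of the kernel is trivial or everything. -/
theorem invariant_trivial (hZ : Cfsg.IsZassenhausGroup G Ω) {a b : Ω} (hab : a ≠ b) {Q : Subgroup G}
    (hQle : Q ≤ stabilizer G a)
    (hQn : ∀ h ∈ stabilizer G a, ∀ x ∈ Q, h * x * h⁻¹ ∈ Q)
    (hQfix : ∀ x ∈ Q, x ≠ 1 → ∀ c : Ω, x • c = c → c = a)
    (hQcard : Nat.card Q + 1 = Fintype.card Ω)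
    (hlarge : Fintype.card Ω - 2 ≤ 2 * Nat.card ↥(stabilizer G a ⊓ stabilizer G b))
    (S : Subgroup Q)
    (hS : ∀ d : G, ∀ hd : d ∈ stabilizer G a, d ∈ stabilizer G b → ∀ u : Q, u ∈ S →
      (⟨d * u * d⁻¹, hQn d hd u u.2⟩ : Q) ∈ S)
    {u : Q} (hu : u ∈ S) (hu1 : u ≠ 1) : S = ⊤ := by
  classical
  by_contra hne
  obtain ⟨v, hv⟩ := not_forall.1 fun h => hne ((Subgroup.eq_top_iff' S).2 h)
  have h1 := card_le_invariant hZ hab hQle hQn hQfix (P := fun w => w ∈ S) hS hu hu1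
  have h2 := card_le_invariant hZ hab hQle hQn hQfix (P := fun w => w ∉ S) (fun d hd hdb w hw h => by
    have h' := hS d⁻¹ (inv_mem hd) (inv_mem hdb) _ h
    exact hw (by simpa [mul_assoc] using h')) hv fun h => hv (h ▸ S.one_mem)
  haveI := Fintype.ofFinite Q
  have h3 : Nat.card {w : Q // w ∈ S ∧ w ≠ 1} + 1 = Nat.card S := by
    rw [Nat.card_eq_fintype_card, Fintype.card_subtype, Nat.card_eq_fintype_card,
      Fintype.card_subtype, Finset.filter_and, Finset.inter_comm, ← Finset.card_erase_add_one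
        (a := (1 : Q)) (s := Finset.univ.filter fun w => w ∈ S) (by simp [S.one_mem])]
    congr 2
    ext w
    simp [and_comm]
  have h4 : Nat.card {w : Q // w ∉ S ∧ w ≠ 1} + Nat.card S = Nat.card Q := by
    rw [add_comm, Nat.card_congr (Equiv.subtypeEquivRight fun w : Q =>
      (⟨fun h => h.1, fun h => ⟨h, fun e => h (e ▸ S.one_mem)⟩⟩ : (w ∉ S ∧ w ≠ 1) ↔ w ∉ S)),
      ← Nat.card_sum, Nat.card_congr (Equiv.sumCompl _)]
  obtain ⟨k, hk⟩ := Subgroup.card_subgroup_dvd_card S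
  have hd0 : 0 < Nat.card ↥(stabilizer G a ⊓ stabilizer G b) := Nat.card_pos
  -- the subgroup is too large to be proper
  have hk2 : 2 ≤ k := by
    by_contra h
    interval_cases k <;> omega
  have h5 : 2 * Nat.card S ≤ Nat.card S * k := by rw [mul_comm]; exact Nat.mul_le_mul_left _ hk2
  omega

/-- With a large two-point stabiliser the kernel is elementary abelian. -/
theorem kernel_elementary (hZ : Cfsg.IsZassenhausGroup G Ω) {a b : Ω} (hab : a ≠ b) {Q : Subgroup G}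
    (hQle : Q ≤ stabilizer G a)
    (hQn : ∀ h ∈ stabilizer G a, ∀ x ∈ Q, h * x * h⁻¹ ∈ Q)
    (hQfix : ∀ x ∈ Q, x ≠ 1 → ∀ c : Ω, x • c = c → c = a)
    (hQcard : Nat.card Q + 1 = Fintype.card Ω)
    (hlarge : Fintype.card Ω - 2 ≤ 2 * Nat.card ↥(stabilizer G a ⊓ stabilizer G b)) :
    (∀ x ∈ Q, ∀ y ∈ Q, x * y = y * x) ∧
      ∃ p f : ℕ, p.Prime ∧ (∀ u ∈ Q, u ^ p = 1) ∧ Nat.card Q = p ^ f := by
  classical
  haveI := CfsgLib.Zassenhaus.isNilpotent_kernel hZ hQle hQn hQfix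
  have h3 := CfsgLib.Perm.Zassenhaus.card_ge_three hZ
  haveI : Nontrivial Q := Finite.one_lt_card_iff_nontrivial.1 (by omega)
  let φ : ∀ d : G, d ∈ stabilizer G a → Q → Q := fun d hd u => ⟨d * u * d⁻¹, hQn d hd u u.2⟩
  have hmul : ∀ d hd (u v : Q), φ d hd (u * v) = φ d hd u * φ d hd v := fun d hd u v =>
    Subtype.ext (by simp [φ, mul_assoc])
  -- the centre is everything
  have hcenter : Subgroup.center Q = ⊤ := by
    haveI : Nontrivial (Subgroup.center Q) :=
      (Subgroup.nontrivial_iff_ne_bot _).2 (Group.IsNilpotent.center_ne_bot Q)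
    obtain ⟨⟨z, hz⟩, hz1⟩ := exists_ne (1 : Subgroup.center Q)
    refine invariant_trivial hZ hab hQle hQn hQfix hQcard hlarge _ (fun d hd hdb u hu => ?_) hz
      (fun h => hz1 (Subtype.ext h))
    rw [Subgroup.mem_center_iff] at hu ⊢
    intro g
    have h := hu (φ d⁻¹ (inv_mem hd) g)
    have h' := congrArg (φ d hd) h
    rw [hmul d hd, hmul d hd, show φ d hd (φ d⁻¹ (inv_mem hd) g) = g from Subtype.ext (by simp [φ, mul_assoc])] at h'
    exact h'
  have hcomm : ∀ u v : Q, u * v = v * u := fun u v =>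
    (Subgroup.mem_center_iff.1 (hcenter ▸ Subgroup.mem_top v : v ∈ Subgroup.center Q) u)
  obtain ⟨p, hp, hpd⟩ := Nat.exists_prime_and_dvd (n := Nat.card Q) (by omega)
  haveI := Fact.mk hp
  obtain ⟨x, hx⟩ := exists_prime_orderOf_dvd_card' p hpd
  let S : Subgroup Q :=
    { carrier := {u | u ^ p = 1}
      one_mem' := one_pow p
      mul_mem' := fun {u v} hu hv => by
        show (u * v) ^ p = 1
        rw [Commute.mul_pow (hcomm u v), show u ^ p = 1 from hu, show v ^ p = 1 from hv, one_mul]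
      inv_mem' := fun {u} hu => by
        show u⁻¹ ^ p = 1
        rw [inv_pow, show u ^ p = 1 from hu, inv_one] }
  have hexp : S = ⊤ := by
    refine invariant_trivial hZ hab hQle hQn hQfix hQcard hlarge S (fun d hd _ u hu => ?_)
      (u := x) (by show x ^ p = 1; rw [← hx, pow_orderOf_eq_one])
      (fun h => hp.ne_one (by rw [← hx, h, orderOf_one]))
    have h' : u ^ p = 1 := hu
    refine Subtype.ext ?_
    show ((d * u * d⁻¹) : G) ^ p = 1
    rw [conj_pow, ← Subgroup.coe_pow, h', Subgroup.coe_one, mul_one, mul_inv_cancel]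
  have hu : ∀ u : Q, u ^ p = 1 := fun u => (hexp ▸ Subgroup.mem_top u : u ∈ S)
  obtain ⟨f, hf⟩ := IsPGroup.iff_card.1 (show IsPGroup p Q from fun u => ⟨1, by rw [pow_one]; exact hu u⟩)
  exact ⟨fun u hu' v hv => congrArg Subtype.val (hcomm ⟨u, hu'⟩ ⟨v, hv⟩), p, f, hp,
    fun u hu' => congrArg Subtype.val (hu ⟨u, hu'⟩), hf⟩

end CfsgLib.CharactersDeep.ZassenhausElementary
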