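import Cfsg.Agent.CharactersDeep.ZassenhausCount
import Cfsg.Agent.Characters.Induction
import Cfsg.Agent.Characters.Linear

/-!
# Linear characters of a point stabiliser trivial on the kernel induce irreducibly
-/

set_option autoImplicit false
set_option linter.style.haveILetI false
set_option linter.unusedSectionVars false

namespace CfsgLib.CharactersDeep.ZassenhausOdd

open MulAction CfsgLib.Characters
open scoped ComplexConjugate

variable {G Ω : Type*} [Group G] [Fintype G] [DecidableEq G] [MulAction G Ω] [Fintype Ω]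
  [DecidableEq Ω] {e : ℕ} (S : Setup G Ω e) {a : Ω} {H : Subgroup G}

include S

theorem Setup.induced_linear (hHa : H ≤ stabilizer G a) (hHcard : Nat.card H + 1 = Nat.card Ω)
    (hHfix : ∀ u ∈ H, u ≠ 1 → ∀ c : Ω, u • c = c → c = a)
    [Fintype (stabilizer G a)] (μ : stabilizer G a →* ℂˣ)
    (hμH : ∀ u : stabilizer G a, (u : G) ∈ H → μ u = 1) (hμ : μ ≠ 1) :
    Cfsg.IsIrrCharacter G (Cfsg.indFun (stabilizer G a) fun m => (μ m : ℂ)) ∧
      ∀ u ∈ H, u ≠ 1 → Cfsg.indFun (stabilizer G a) (fun m => (μ m : ℂ)) u = 1 := by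
  classical
  set f : (stabilizer G a) → ℂ := fun m => (μ m : ℂ) with hf
  have hM0 : (Nat.card (stabilizer G a) : ℂ) ≠ 0 := Nat.cast_ne_zero.2 Nat.card_pos.ne'
  have hMc : (Finset.univ.filter fun x : G => x ∈ (stabilizer G a)).card = Nat.card (stabilizer G a) := by
    rw [Nat.card_eq_fintype_card, Fintype.card_subtype]
  have hclass : ∀ x ∈ (stabilizer G a), ∀ (m : (stabilizer G a)), Cfsg.extendByZero (stabilizer G a) f (x⁻¹ * m * x) = f m := by
    intro x hx m
    rw [show x⁻¹ * (m : G) * x = (((⟨x, hx⟩ : (stabilizer G a))⁻¹ * m * ⟨x, hx⟩ : (stabilizer G a)) : G) from rfl, extendByZero_coe]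
    simp only [hf, map_mul, map_inv]
    congr 1
    rw [mul_comm, mul_inv_cancel_left]
  have hval : ∀ u ∈ H, u ≠ 1 → Cfsg.indFun (stabilizer G a) f u = 1 := by
    intro u hu hu1
    have hterm : ∀ x : G, Cfsg.extendByZero (stabilizer G a) f (x⁻¹ * u * x) = if x ∈ (stabilizer G a) then 1 else 0 := by
      intro x
      split_ifs with hx
      · rw [hclass x hx ⟨u, hHa hu⟩, hf]
        simp [hμH ⟨u, hHa hu⟩ hu]
      · refine extendByZero_of_not_mem _ _ fun h => hx ?_
        rw [mem_stabilizer_iff, mul_smul, mul_smul, inv_smul_eq_iff] at h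
        exact mem_stabilizer_iff.2 (hHfix u hu hu1 _ h)
    rw [Cfsg.indFun, Finset.sum_congr rfl fun x _ => hterm x, ← Finset.sum_filter,
      Finset.sum_const, nsmul_eq_mul, mul_one, hMc, inv_mul_cancel₀ hM0]
  refine ⟨?_, hval⟩
  have hμc : Cfsg.IsCharacter (stabilizer G a) f := isCharacter_of_isIrr (isIrr_linChar μ)
  refine isIrr_of_classInner_self (isCharacter_indFun (stabilizer G a) hμc) ?_
  rw [classInner_indFun (stabilizer G a) f (isClassFunction_indFun (stabilizer G a) f)]
  -- the part outside the stabiliser is orthogonal to `μ`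
  have hout : ∀ x : G, x ∉ (stabilizer G a) →
      ∑ m : (stabilizer G a), f m * conj (Cfsg.extendByZero (stabilizer G a) f (x⁻¹ * m * x)) = 0 := by
    intro x hx
    have hac : a ≠ x • a := fun h => hx (mem_stabilizer_iff.2 h.symm)
    obtain ⟨s, hsa, hsb⟩ := Zassenhaus.two_transitive S.zass hac hac.symm
    set n : G := x⁻¹ * s with hn
    have hnM : n ∈ (stabilizer G a) := by
      rw [mem_stabilizer_iff, hn, mul_smul, hsa, inv_smul_smul]
    -- on the two-point stabiliser the twisted value is the inverse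
    have htw : ∀ m : (stabilizer G a), ∀ hmc : (m : G) • (x • a) = x • a,
        Cfsg.extendByZero (stabilizer G a) f (x⁻¹ * m * x) = ((μ m)⁻¹ : ℂˣ) := by
      intro m hmc
      have hinv := S.inverts hac hsa hsb (m.2 : (m : G) • a = a) hmc
      have h1 : x⁻¹ * (m : G) * x = n * ((m⁻¹ : (stabilizer G a)) : G) * n⁻¹ := by
        rw [hn, Subgroup.coe_inv, ← hinv]
        have h2 : s * s = 1 := sq_eq_one (S.orderOf_swap hac hsa hsb)
        rw [show x⁻¹ * s * (s * (m : G) * s⁻¹) * (x⁻¹ * s)⁻¹ =
          x⁻¹ * (s * s) * (m : G) * (s * s)⁻¹ * x by group, h2]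
        group
      rw [h1]
      have := hclass n⁻¹ (Subgroup.inv_mem _ hnM) m⁻¹
      rw [inv_inv] at this
      rw [this, hf]
      simp only [map_inv]
    obtain ⟨y, hyc, hy⟩ : ∃ y : (stabilizer G a), (y : G) • (x • a) = x • a ∧ μ y ≠ 1 := by
      by_contra hno
      push Not at hno
      refine hμ (MonoidHom.ext fun g => ?_)
      rw [MonoidHom.one_apply]
      have hgc : (g : G) • (x • a) ≠ a := fun h => hac
        ((smul_left_cancel_iff (g : G)).1 ((g.2 : (g : G) • a = a).trans h.symm))
      obtain ⟨u, hu, -⟩ := Zassenhaus.orbit_bijective hHa hHcard hHfix hac.symm _ hgc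
      have h1 := hno ((⟨u, hHa u.2⟩ : (stabilizer G a))⁻¹ * g) (by
        show ((u : G)⁻¹ * (g : G)) • (x • a) = x • a
        rw [mul_smul, ← hu, inv_smul_smul])
      rwa [map_mul, map_inv, hμH ⟨u, hHa u.2⟩ u.2, inv_one, one_mul] at h1
    have hsupp : ∀ m : (stabilizer G a), (m : G) • (x • a) ≠ x • a →
        Cfsg.extendByZero (stabilizer G a) f (x⁻¹ * m * x) = 0 := fun m hm =>
      extendByZero_of_not_mem _ _ fun h => hm (by
        rw [mem_stabilizer_iff, mul_smul, mul_smul, inv_smul_eq_iff] at h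
        exact h)
    have hterm : ∀ m : (stabilizer G a), f m * conj (Cfsg.extendByZero (stabilizer G a) f (x⁻¹ * m * x)) =
        if (m : G) • (x • a) = x • a then ((μ m : ℂ) * (μ m : ℂ)) else 0 := by
      intro m
      split_ifs with h
      · rw [htw m h, hf]
        congr 1
        rw [show (((μ m)⁻¹ : ℂˣ) : ℂ) = f m⁻¹ by simp [hf],
          show f m⁻¹ = conj (f m) from character_inv hμc m, Complex.conj_conj]
      · rw [hsupp m h, map_zero, mul_zero]
    rw [Finset.sum_congr rfl fun m _ => hterm m]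
    set g : (stabilizer G a) → ℂ := fun m => if (m : G) • (x • a) = x • a then ((μ m : ℂ) * (μ m : ℂ)) else 0 with hg
    have hshift : ∑ m, g m = ((μ y : ℂ) * (μ y : ℂ)) * ∑ m, g m := by
      rw [Finset.mul_sum]
      refine (Fintype.sum_equiv (Equiv.mulLeft y) _ _ fun m => ?_).symm
      simp only [Equiv.coe_mulLeft, hg, map_mul, Units.val_mul, Subgroup.coe_mul, mul_smul]
      have hiff : (y : G) • (m : G) • x • a = x • a ↔ (m : G) • x • a = x • a := by
        conv_lhs => rhs; rw [← hyc]
        exact smul_left_cancel_iff _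
      simp only [hiff]
      split_ifs <;> ring
    by_contra hne
    have h2 : μ y * μ y = 1 := Units.ext (by
      simpa using mul_right_cancel₀ hne ((one_mul _).trans hshift).symm)
    refine hy ?_
    -- odd order
    have hmem : (y : G) ∈ stabilizer G a ⊓ stabilizer G (x • a) := Subgroup.mem_inf.2 ⟨y.2, hyc⟩
    have hd : orderOf (μ y) ∣ e := by
      refine (orderOf_map_dvd μ y).trans ?_
      rw [← Subgroup.orderOf_coe, ← S.card_pair a (x • a) hac]
      exact Subgroup.orderOf_dvd_natCard _ hmem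
    have h3 : orderOf (μ y) ∣ 2 := orderOf_dvd_of_pow_eq_one (by rw [pow_two]; exact h2)
    exact orderOf_eq_one_iff.1 (Nat.eq_one_of_dvd_coprimes
      (Nat.coprime_two_right.2 S.odd) hd h3)
  simp only [Cfsg.classInner, Cfsg.indFun, map_mul, map_inv₀, map_natCast, map_sum, Finset.mul_sum]
  rw [Finset.sum_comm]
  have hsum : ∀ x : G, ∑ m : (stabilizer G a), (Nat.card (stabilizer G a) : ℂ)⁻¹ *
      (f m * ((Nat.card (stabilizer G a) : ℂ)⁻¹ * conj (Cfsg.extendByZero (stabilizer G a) f (x⁻¹ * m * x)))) =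
      if x ∈ (stabilizer G a) then (Nat.card (stabilizer G a) : ℂ)⁻¹ else 0 := by
    intro x
    have h1 : ∀ m : (stabilizer G a), (Nat.card (stabilizer G a) : ℂ)⁻¹ *
        (f m * ((Nat.card (stabilizer G a) : ℂ)⁻¹ * conj (Cfsg.extendByZero (stabilizer G a) f (x⁻¹ * m * x)))) =
        (Nat.card (stabilizer G a) : ℂ)⁻¹ * (Nat.card (stabilizer G a) : ℂ)⁻¹ *
          (f m * conj (Cfsg.extendByZero (stabilizer G a) f (x⁻¹ * m * x))) := fun m => by ring
    rw [Finset.sum_congr rfl fun m _ => h1 m, ← Finset.mul_sum]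
    split_ifs with hx
    · have h := classInner_isIrr_self (isIrr_linChar μ)
      rw [Cfsg.classInner] at h
      rw [Finset.sum_congr rfl fun m _ => by rw [hclass x hx m], mul_assoc, h, mul_one]
    · rw [hout x hx, mul_zero]
  rw [Finset.sum_congr rfl fun x _ => hsum x, ← Finset.sum_filter, Finset.sum_const, hMc,
    nsmul_eq_mul, mul_inv_cancel₀ hM0]

end CfsgLib.CharactersDeep.ZassenhausOdd
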