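import Cfsg.Agent.CharactersDeep.ZassenhausInduced
import Cfsg.Agent.CharactersDeep.ZassenhausClasses
import Cfsg.Agent.CharactersDeep.TIExceptional
import Cfsg.Agent.SameDegree.Basic
import Cfsg.Agent.S0878

/-!
# The point stabiliser of a simple Zassenhaus group with odd two-point order

Characters of the stabiliser `L` and the irreducible characters of `G` having a constituent on `L`
that is trivial on the kernel `H`: these are `1`, the permutation character minus one and the
characters induced from linear characters of `L / H`.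
-/

set_option autoImplicit false
set_option linter.style.haveILetI false
set_option linter.unusedSectionVars false

namespace CfsgLib.CharactersDeep.ZassenhausOdd

open MulAction CfsgLib.Characters
open scoped ComplexConjugate

variable {G Ω : Type*} [Group G] [Fintype G] [DecidableEq G] [MulAction G Ω] [Fintype Ω]
  [DecidableEq Ω]

/-- A point, another point and the kernel at the first. -/
structure Point (Ω : Type*) [MulAction G Ω] [Fintype Ω] (a : Ω) (H : Subgroup G) : Prop where
  le : H ≤ stabilizer G a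
  card : Nat.card H + 1 = Nat.card Ω
  fix : ∀ u ∈ H, u ≠ 1 → ∀ c : Ω, u • c = c → c = a
  other : ∃ b : Ω, b ≠ a

variable {e : ℕ} (S : Setup G Ω e) {a : Ω} {H : Subgroup G} (P : Point Ω a H)

/-- The inclusion of the kernel. -/
def Point.ι (u : H) : stabilizer G a := ⟨(u : G), P.le u.2⟩

include S P

theorem Setup.ti : Cfsg.IsTISubset (H : Set G) ∧ Subgroup.normalizer (H : Set G) = stabilizer G a := by
  obtain ⟨h1, h2⟩ := Cfsg.Agent.S0878.result S.zass a H P.le
    (by rw [P.card, Nat.card_eq_fintype_card]) P.fix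
  exact ⟨fun g hg x hx hgx => h1 g (by rwa [h2] at hg) x hx hgx, h2⟩

theorem Setup.kernel_normal : (H.subgroupOf (stabilizer G a)).Normal :=
  (Subgroup.normal_subgroupOf_iff_le_normalizer P.le).2 (S.ti P).2.ge

theorem Setup.conj_kernel {k : G} (hk : k • a = a) {v : G} (hv : v ∈ H) : k * v * k⁻¹ ∈ H := by
  have h := (S.ti P).2.ge (mem_stabilizer_iff.2 hk)
  exact (Subgroup.mem_normalizer_iff.1 h v).1 hv

theorem Setup.exists_second_fix {x : G} (hxa : x • a = a) (hxH : x ∉ H) :
    ∃ c : Ω, c ≠ a ∧ x • c = c := by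
  by_contra hno
  push Not at hno
  refine hxH (Zassenhaus.mem_of_fix_only S.zass P.le P.card P.fix hxa fun c hc => ?_)
  by_contra hca
  exact hno c hca hc

theorem Setup.centralizer_le (k : G) (hk : k ∈ H) (hk1 : k ≠ 1) :
    Subgroup.centralizer ({k} : Set G) ≤ H := by
  intro g hg
  rw [Subgroup.mem_centralizer_singleton_iff] at hg
  have hga : g • a = a := by
    refine P.fix k hk hk1 _ ?_
    rw [← mul_smul, ← hg, mul_smul, mem_stabilizer_iff.1 (P.le hk)]
  by_contra hgH
  obtain ⟨c, hca, hgc⟩ := S.exists_second_fix P hga hgH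
  exact hgH (by
    rw [CfsgLib.Zassenhaus.fpf_kernel S.zass hca.symm (mem_stabilizer_iff.1 (P.le hk))
      (P.fix k hk hk1) hga hgc hg]
    exact H.one_mem)

theorem Setup.card_stab : Nat.card (stabilizer G a) = Nat.card H * e := by
  obtain ⟨b, hb⟩ := P.other
  rw [Zassenhaus.card_stabilizer P.le P.card P.fix hb, S.card_pair a b hb.symm]

theorem Setup.index_kernel : (H.subgroupOf (stabilizer G a)).index = e := by
  have h := (H.subgroupOf (stabilizer G a)).card_mul_index
  rw [Nat.card_congr (Subgroup.subgroupOfEquivOfLe P.le).toEquiv, S.card_stab P] at h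
  exact Nat.eq_of_mul_eq_mul_left Nat.card_pos h

theorem Setup.card_group : Nat.card G = (Nat.card H + 1) * (Nat.card H * e) := by
  haveI := S.zass.2.1
  haveI : IsPretransitive G Ω := MulAction.isPretransitive_of_is_two_pretransitive
  rw [← S.card_stab P, P.card, ← index_stabilizer_of_transitive G a,
    Subgroup.index_mul_card]

/-- Every element of `L` is `u x` with `u ∈ H` and `x` fixing `b`. -/
theorem Setup.exists_coset {b : Ω} (hb : b ≠ a) (g : stabilizer G a) :
    ∃ x : stabilizer G a, (x : G) • b = b ∧ ((g * x⁻¹ : stabilizer G a) : G) ∈ H := by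
  have hgb : (g : G) • b ≠ a := fun h => hb
    ((smul_left_cancel_iff (g : G)).1 (h.trans (mem_stabilizer_iff.1 g.2).symm))
  obtain ⟨u, hu, -⟩ := Zassenhaus.orbit_bijective P.le P.card P.fix hb _ hgb
  refine ⟨(P.ι u)⁻¹ * g, ?_, ?_⟩
  · show ((u : G)⁻¹ * (g : G)) • b = b
    rw [mul_smul, ← hu, inv_smul_smul]
  · rw [mul_inv_rev, inv_inv, mul_inv_cancel_left]
    exact u.2

/-- The derived group of `L` lies in the kernel. -/
theorem Setup.commutator_le_kernel :
    commutator (stabilizer G a) ≤ H.subgroupOf (stabilizer G a) := by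
  haveI := S.kernel_normal P
  haveI := S.simple
  obtain ⟨b, hb⟩ := P.other
  rw [commutator_def, Subgroup.commutator_le]
  intro x _ y _
  obtain ⟨x', hx', hxu⟩ := S.exists_coset P hb x
  obtain ⟨y', hy', hyv⟩ := S.exists_coset P hb y
  refine (QuotientGroup.eq_one_iff _).1 ?_
  rw [← QuotientGroup.mk'_apply, map_commutatorElement]
  have hx : QuotientGroup.mk' (H.subgroupOf (stabilizer G a)) x = QuotientGroup.mk' _ x' := by
    have h := (QuotientGroup.eq_one_iff (N := H.subgroupOf (stabilizer G a)) (x * x'⁻¹)).2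
      (Subgroup.mem_subgroupOf.2 hxu)
    rwa [QuotientGroup.mk_mul, QuotientGroup.mk_inv, mul_inv_eq_one] at h
  have hy : QuotientGroup.mk' (H.subgroupOf (stabilizer G a)) y = QuotientGroup.mk' _ y' := by
    have h := (QuotientGroup.eq_one_iff (N := H.subgroupOf (stabilizer G a)) (y * y'⁻¹)).2
      (Subgroup.mem_subgroupOf.2 hyv)
    rwa [QuotientGroup.mk_mul, QuotientGroup.mk_inv, mul_inv_eq_one] at h
  rw [hx, hy, ← map_commutatorElement]
  have hc : x' * y' = y' * x' := Subtype.ext (ZassenhausOdd.comm S.zass hb.symm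
    (by rw [S.card_pair a b hb.symm]; exact S.odd) (Subgroup.mem_inf.2 ⟨x'.2, hx'⟩)
    (Subgroup.mem_inf.2 ⟨y'.2, hy'⟩))
  rw [commutatorElement_eq_one_iff_mul_comm.2 hc, map_one]

/-- The characters of `L` with the kernel in their kernel are linear. -/
theorem Setup.linear_of_trivial (φ : Cfsg.IrrCharacter (stabilizer G a))
    (hφ : ∀ x : stabilizer G a, (x : G) ∈ H → (φ : stabilizer G a → ℂ) x = (φ : stabilizer G a → ℂ) 1) :
    ∃ μ : stabilizer G a →* ℂˣ, (φ : stabilizer G a → ℂ) = (fun m => (μ m : ℂ)) ∧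
      ∀ u : stabilizer G a, (u : G) ∈ H → μ u = 1 := by
  have h1 := SameDegree.degree_one_of_commutator_le φ.2 fun c hc =>
    hφ c (Subgroup.mem_subgroupOf.1 (S.commutator_le_kernel P hc))
  obtain ⟨μ, hμ⟩ := exists_hom_of_degree_one (isCharacter_of_isIrr φ.2) h1
  refine ⟨μ, hμ, fun u hu => Units.ext ?_⟩
  have := hφ u hu
  rw [hμ] at this
  simpa using this

variable [Fintype H] [Fintype (stabilizer G a)]

/-- A character nonconstant on the kernel vanishes outside and sums to zero. -/
theorem Setup.sum_nonconst (φ : Cfsg.IrrCharacter (stabilizer G a))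
    (hφ : ∃ x : stabilizer G a, (x : G) ∈ H ∧ (φ : stabilizer G a → ℂ) x ≠ (φ : stabilizer G a → ℂ) 1) :
    (∀ x : stabilizer G a, (x : G) ∉ H → (φ : stabilizer G a → ℂ) x = 0) ∧
      ∑ u : H, (φ : stabilizer G a → ℂ) (P.ι u) = 0 := by
  classical
  haveI := S.kernel_normal P
  have hmem : (φ : stabilizer G a → ℂ) ∈
      {χ : stabilizer G a → ℂ | Cfsg.IsIrrCharacter _ χ ∧ ∃ x : stabilizer G a, (x : G) ∈ H ∧ χ x ≠ χ 1} :=
    ⟨φ.2, hφ⟩
  have hv : ∀ x : stabilizer G a, (x : G) ∉ H → (φ : stabilizer G a → ℂ) x = 0 := fun x hx =>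
    TIExceptional.vanish_outside (S.centralizer_le P) rfl hmem hx
  refine ⟨hv, ?_⟩
  have hne : (φ : stabilizer G a → ℂ) ≠ fun _ => 1 := by
    intro h
    obtain ⟨x, -, hx⟩ := hφ
    rw [h] at hx
    exact hx rfl
  have h0 := classInner_isIrr_ne φ.2 isIrr_one hne
  simp only [Cfsg.classInner, map_one, mul_one, mul_eq_zero, inv_eq_zero, natCard_ne_zero,
    false_or] at h0
  rw [← h0]
  refine Fintype.sum_of_injective P.ι (fun u v h => Subtype.ext (congrArg (fun w : stabilizer G a => (w : G)) h))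
    _ _ (fun x hx => hv x fun hxH => hx ⟨⟨(x : G), hxH⟩, rfl⟩) fun u => rfl

open scoped Classical in
/-- Exactly `e` characters of `L` have the kernel in their kernel. -/
theorem Setup.card_trivial :
    (Finset.univ.filter fun φ : Cfsg.IrrCharacter (stabilizer G a) =>
      ∀ x : stabilizer G a, (x : G) ∈ H →
        (φ : stabilizer G a → ℂ) x = (φ : stabilizer G a → ℂ) 1).card = e := by
  classical
  set T := Finset.univ.filter fun φ : Cfsg.IrrCharacter (stabilizer G a) =>
      ∀ x : stabilizer G a, (x : G) ∈ H → (φ : stabilizer G a → ℂ) x = (φ : stabilizer G a → ℂ) 1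
  have h1 : ∑ φ : Cfsg.IrrCharacter (stabilizer G a),
      (φ : stabilizer G a → ℂ) 1 * ∑ u : H, (φ : stabilizer G a → ℂ) (P.ι u) =
      (Nat.card (stabilizer G a) : ℂ) := by
    simp only [Finset.mul_sum]
    rw [Finset.sum_comm, Finset.sum_congr rfl fun u _ => sum_degree_mul (P.ι u), Finset.sum_eq_single 1]
    · exact if_pos (Subtype.ext rfl)
    · exact fun u _ hu => if_neg fun h => hu (Subtype.ext (congrArg (fun w : stabilizer G a => (w : G)) h))
    · exact fun h => absurd (Finset.mem_univ _) h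
  have h2 : ∑ φ : Cfsg.IrrCharacter (stabilizer G a),
      (φ : stabilizer G a → ℂ) 1 * ∑ u : H, (φ : stabilizer G a → ℂ) (P.ι u) =
      (T.card : ℂ) * (Nat.card H : ℂ) := by
    rw [← nsmul_eq_mul, ← Finset.sum_const]
    refine (Finset.sum_subset (Finset.subset_univ T) fun φ _ hφ => ?_).symm.trans
      (Finset.sum_congr rfl fun φ hφ => ?_)
    · simp only [T, Finset.mem_filter, Finset.mem_univ, true_and] at hφ
      push Not at hφ
      rw [(S.sum_nonconst P φ hφ).2, mul_zero]
    · have hφ' := (Finset.mem_filter.1 hφ).2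
      obtain ⟨μ, hμ, hμH⟩ := S.linear_of_trivial P φ hφ'
      rw [hμ]
      simp only [map_one, Units.val_one, one_mul]
      rw [Finset.sum_congr rfl (g := fun _ => (1 : ℂ)) fun u _ => by
        rw [hμH (P.ι u) u.2, Units.val_one]]
      simp [Nat.card_eq_fintype_card]
  rw [h1, S.card_stab P] at h2
  refine Nat.eq_of_mul_eq_mul_right (Nat.card_pos (α := H)) ?_
  rw [mul_comm e]
  exact_mod_cast h2.symm

/-- The permutation character has norm two. -/
theorem Setup.perm_norm :
    Cfsg.classInner (Cfsg.indFun (stabilizer G a) fun _ => (1 : ℂ))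
      (Cfsg.indFun (stabilizer G a) fun _ => (1 : ℂ)) = 2 := by
  classical
  set L := stabilizer G a with hL
  have hLc : (Finset.univ.filter fun x : G => x ∈ L).card = Nat.card L := by
    rw [Nat.card_eq_fintype_card, Fintype.card_subtype]
  have hsum : ∀ x : G, ∑ l : L, conj (Cfsg.extendByZero L (fun _ => (1 : ℂ)) (x⁻¹ * l * x)) =
      if x ∈ L then (Nat.card L : ℂ) else (e : ℂ) := by
    intro x
    have hterm : ∀ l : L, conj (Cfsg.extendByZero L (fun _ => (1 : ℂ)) (x⁻¹ * l * x)) =
        if (l : G) • (x • a) = x • a then 1 else 0 := by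
      intro l
      have hiff : x⁻¹ * l * x ∈ L ↔ (l : G) • (x • a) = x • a := by
        rw [mem_stabilizer_iff, mul_smul, mul_smul, inv_smul_eq_iff]
      split_ifs with h
      · rw [extendByZero_of_mem _ _ (hiff.2 h), map_one]
      · rw [extendByZero_of_not_mem _ _ (fun h' => h (hiff.1 h')), map_zero]
    rw [Finset.sum_congr rfl fun l _ => hterm l, ← Finset.sum_filter, Finset.sum_const, nsmul_eq_mul,
      mul_one]
    split_ifs with hx
    · rw [Finset.filter_true_of_mem, Finset.card_univ, Nat.card_eq_fintype_card]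
      intro l _
      rw [mem_stabilizer_iff.1 hx]
      exact l.2
    · congr 1
      rw [← S.card_pair a (x • a) (fun h => hx (mem_stabilizer_iff.2 h.symm)), ← Fintype.card_subtype,
        ← Nat.card_eq_fintype_card]
      exact Nat.card_congr
        { toFun := fun l => ⟨(l.1 : G), Subgroup.mem_inf.2 ⟨l.1.2, l.2⟩⟩
          invFun := fun l => ⟨⟨(l : G), (Subgroup.mem_inf.1 l.2).1⟩, (Subgroup.mem_inf.1 l.2).2⟩
          left_inv := fun l => rfl
          right_inv := fun l => rfl }
  rw [classInner_indFun L _ (isClassFunction_indFun L _)]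
  simp only [Cfsg.classInner, Cfsg.indFun, map_mul, map_inv₀, map_natCast, map_sum, one_mul,
    ← Finset.mul_sum]
  rw [Finset.sum_comm, Finset.sum_congr rfl fun x _ => hsum x, Finset.sum_ite, Finset.sum_const,
    Finset.sum_const, hLc, Finset.filter_not, Finset.card_sdiff_of_subset (Finset.filter_subset _ _),
    Finset.card_univ, hLc, ← Nat.card_eq_fintype_card, S.card_group P, S.card_stab P,
    show (Nat.card H + 1) * (Nat.card H * e) - Nat.card H * e = Nat.card H * (Nat.card H * e) by
      rw [add_one_mul, Nat.add_sub_cancel]]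
  have hH0 : (Nat.card H : ℂ) ≠ 0 := Nat.cast_ne_zero.2 Nat.card_pos.ne'
  have he0 : (e : ℂ) ≠ 0 := Nat.cast_ne_zero.2 (by have := S.three_le; omega)
  simp only [nsmul_eq_mul, Nat.cast_mul]
  field_simp
  ring

/-- Values of a character induced from a linear character of `L` trivial on the kernel. -/
theorem Setup.ind_values (μ : stabilizer G a →* ℂˣ) (hμH : ∀ u : stabilizer G a, (u : G) ∈ H → μ u = 1) :
    Cfsg.indFun (stabilizer G a) (fun m => (μ m : ℂ)) 1 = (Nat.card H : ℂ) + 1 ∧
      ∀ u ∈ H, u ≠ 1 → Cfsg.indFun (stabilizer G a) (fun m => (μ m : ℂ)) u = 1 := by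
  classical
  refine ⟨?_, fun u hu hu1 => ?_⟩
  · haveI := S.zass.2.1
    haveI : IsPretransitive G Ω := MulAction.isPretransitive_of_is_two_pretransitive
    rw [indFun_one, index_stabilizer_of_transitive, map_one, Units.val_one, mul_one, ← P.card]
    push_cast
    rfl
  have hterm : ∀ x : G, Cfsg.extendByZero (stabilizer G a) (fun m => (μ m : ℂ)) (x⁻¹ * u * x) =
      if x ∈ stabilizer G a then 1 else 0 := by
    intro x
    split_ifs with hx
    · have hxu : x⁻¹ * u * x ∈ H := by
        have h := S.conj_kernel P (inv_smul_eq_iff.2 (mem_stabilizer_iff.1 hx).symm) hu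
        rwa [inv_inv] at h
      rw [extendByZero_of_mem _ _ (P.le hxu), hμH _ hxu, Units.val_one]
    · refine extendByZero_of_not_mem _ _ fun h => hx ?_
      rw [mem_stabilizer_iff, mul_smul, mul_smul, inv_smul_eq_iff] at h
      exact mem_stabilizer_iff.2 (P.fix u hu hu1 _ h)
  rw [Cfsg.indFun, Finset.sum_congr rfl fun x _ => hterm x, ← Finset.sum_filter, Finset.sum_const,
    nsmul_eq_mul, mul_one, show (Finset.univ.filter fun x : G => x ∈ stabilizer G a).card =
      Nat.card (stabilizer G a) by rw [Nat.card_eq_fintype_card, Fintype.card_subtype],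
    inv_mul_cancel₀ (Nat.cast_ne_zero.2 Nat.card_pos.ne')]

/-- The other constituent of the permutation character. -/
theorem Setup.exists_steinberg :
    ∃ St : Cfsg.IrrCharacter G, (St : G → ℂ) ≠ (fun _ => 1) ∧ (St : G → ℂ) 1 = (Nat.card H : ℂ) ∧
      (∀ u ∈ H, u ≠ 1 → (St : G → ℂ) u = 0) ∧
      ∀ χ : Cfsg.IrrCharacter G, (χ : G → ℂ) ≠ (fun _ => 1) →
        Cfsg.classInner (fun m : stabilizer G a => (χ : G → ℂ) m) (fun _ => 1) ≠ 0 → χ = St := by
  classical
  set π := Cfsg.indFun (stabilizer G a) fun _ => (1 : ℂ) with hπdef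
  have hπ : Cfsg.IsCharacter G π := isCharacter_indFun _ isCharacter_one
  have hcl := isClassFunction_indFun (stabilizer G a) (fun _ => (1 : ℂ))
  have hv := S.ind_values P (1 : stabilizer G a →* ℂˣ) fun _ _ => rfl
  simp only [MonoidHom.one_apply, Units.val_one, ← hπdef] at hv
  have hone : Cfsg.classInner π (fun _ => 1) = 1 := by
    rw [classInner_indFun _ _ (isClassFunction_of_isIrr isIrr_one)]
    exact classInner_isIrr_self isIrr_one
  have key : ∀ χ : Cfsg.IrrCharacter G, (χ : G → ℂ) ≠ (fun _ => 1) →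
      Cfsg.classInner π (χ : G → ℂ) ≠ 0 → (χ : G → ℂ) = π - fun _ => 1 := by
    intro χ hχ1 hne
    obtain ⟨n, hn⟩ := classInner_character_irr hπ χ.2
    have hn1 : 1 ≤ n := Nat.one_le_iff_ne_zero.2 fun h => hne (by rw [hn, h, Nat.cast_zero])
    set D := π - (fun _ => (1 : ℂ)) - (χ : G → ℂ) with hD
    have hDD : Cfsg.classInner D D = 2 - 2 * (n : ℂ) := by
      rw [hD]
      simp only [classInner_sub_left, classInner_sub_right, S.perm_norm P, ← hπdef, hone, hn,
        classInner_isIrr_self χ.2, classInner_isIrr_self isIrr_one,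
        classInner_isIrr_ne χ.2 isIrr_one hχ1, classInner_isIrr_ne isIrr_one χ.2 (Ne.symm hχ1)]
      rw [classInner_conj_symm π (fun _ => 1), hone, classInner_conj_symm π (χ : G → ℂ), hn,
        map_one, Complex.conj_natCast]
      have hp : Cfsg.classInner π π = 2 := S.perm_norm P
      rw [hp]
      ring
    have hnn := Coherence.sqNorm_nonneg D
    rw [Coherence.sqNorm, hDD] at hnn
    simp at hnn
    have hn' : n = 1 := by omega
    have hD0 : D = 0 := Coherence.ci_self_eq_zero_iff.1 (by rw [hDD, hn']; norm_num)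
    exact (sub_eq_zero.1 hD0).symm
  obtain ⟨St, hSt, hStπ⟩ : ∃ χ : Cfsg.IrrCharacter G, (χ : G → ℂ) ≠ (fun _ => 1) ∧
      Cfsg.classInner π (χ : G → ℂ) ≠ 0 := by
    by_contra hno
    push Not at hno
    have h := congrFun (character_expansion hπ) 1
    rw [hv.1, Finset.sum_apply, Finset.sum_eq_single (⟨_, isIrr_one⟩ : Cfsg.IrrCharacter G)] at h
    · simp [hone] at h
    · intro χ _ hχ
      simp [hno χ fun e => hχ (Subtype.ext e)]
    · exact fun h => absurd (Finset.mem_univ _) h
  have hSte := key St hSt hStπ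
  refine ⟨St, hSt, ?_, fun u hu hu1 => ?_, fun χ hχ1 hne => Subtype.ext ?_⟩
  · rw [hSte, Pi.sub_apply, hv.1, add_sub_cancel_right]
  · rw [hSte, Pi.sub_apply, hv.2 u hu hu1, sub_self]
  · rw [hSte]
    refine key χ hχ1 fun h => hne ?_
    rw [classInner_conj_symm (fun _ => 1) (fun m : stabilizer G a => (χ : G → ℂ) m),
      ← classInner_indFun _ _ (isClassFunction_of_isIrr χ.2), ← hπdef, h, map_zero]

/-- The characters with a constituent trivial on the kernel. -/
theorem Setup.classify {St : Cfsg.IrrCharacter G}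
    (hSt : ∀ χ : Cfsg.IrrCharacter G, (χ : G → ℂ) ≠ (fun _ => 1) →
      Cfsg.classInner (fun m : stabilizer G a => (χ : G → ℂ) m) (fun _ => 1) ≠ 0 → χ = St)
    (χ : Cfsg.IrrCharacter G) (μ : stabilizer G a →* ℂˣ)
    (hμH : ∀ u : stabilizer G a, (u : G) ∈ H → μ u = 1)
    (hne : Cfsg.classInner (fun m : stabilizer G a => (χ : G → ℂ) m) (fun m => (μ m : ℂ)) ≠ 0) :
    (χ : G → ℂ) = (fun _ => 1) ∨ χ = St ∨
      ∃ ν : stabilizer G a →* ℂˣ, (∀ u : stabilizer G a, (u : G) ∈ H → ν u = 1) ∧
        (χ : G → ℂ) = Cfsg.indFun (stabilizer G a) fun m => (ν m : ℂ) := by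
  classical
  by_cases h1 : (χ : G → ℂ) = fun _ => 1
  · exact Or.inl h1
  by_cases hμ : μ = 1
  · refine Or.inr (Or.inl (hSt χ h1 ?_))
    simpa [hμ] using hne
  refine Or.inr (Or.inr ⟨μ, hμH, ?_⟩)
  obtain ⟨hirr, -⟩ := S.induced_linear P.le P.card P.fix μ hμH hμ
  by_contra hdiff
  refine hne ?_
  rw [classInner_conj_symm, ← classInner_indFun _ _ (isClassFunction_of_isIrr χ.2),
    classInner_isIrr_ne hirr χ.2 (Ne.symm hdiff), map_zero]

/-- A character with nonzero sum over the kernel has a constituent trivial on the kernel. -/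
theorem Setup.exists_constituent_of_sum (χ : Cfsg.IrrCharacter G)
    (hχ : ∑ u : H, (χ : G → ℂ) (u : G) ≠ 0) :
    ∃ μ : stabilizer G a →* ℂˣ, (∀ u : stabilizer G a, (u : G) ∈ H → μ u = 1) ∧
      Cfsg.classInner (fun m : stabilizer G a => (χ : G → ℂ) m) (fun m => (μ m : ℂ)) ≠ 0 := by
  classical
  have hexp := character_expansion (isCharacter_restrict (stabilizer G a) (isCharacter_of_isIrr χ.2))
  by_contra hno
  push Not at hno
  refine hχ ?_
  refine (Finset.sum_congr rfl fun (u : H) _ => congrFun hexp (P.ι u)).trans ?_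
  simp only [Finset.sum_apply, Pi.smul_apply, smul_eq_mul]
  rw [Finset.sum_comm]
  refine Finset.sum_eq_zero fun φ _ => ?_
  rw [← Finset.mul_sum]
  by_cases hφ : ∀ x : stabilizer G a, (x : G) ∈ H →
      (φ : stabilizer G a → ℂ) x = (φ : stabilizer G a → ℂ) 1
  · obtain ⟨μ, hμ, hμH⟩ := S.linear_of_trivial P φ hφ
    have h := hno μ hμH
    rw [← hμ] at h
    rw [h, zero_mul]
  · push Not at hφ
    rw [(S.sum_nonconst P φ hφ).2, mul_zero]

end CfsgLib.CharactersDeep.ZassenhausOdd
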